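import Cfsg.Agent.H52.JThree.Tables
import Cfsg.Agent.H43.JTwo.Uniq.Model

/-!
The numbered model group of order 1920.
-/

set_option autoImplicit false
set_option linter.style.haveILetI false
set_option synthInstance.maxSize 4000

namespace Cfsg.Agent.H52.JThree.Code

open Equiv
open Cfsg.Agent.H43.JTwo.Uniq (QN qn0 qmul act Mo mmul)

/-- Entry `i` of a table of width `w`. -/
def look (T w i : ℕ) : ℕ := Nat.mod (Nat.shiftRight T (Nat.mul w i)) (Nat.pow 2 w)

/-- Product of the vectors. -/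
def qm (a b : ℕ) : ℕ := look qmTab 5 (Nat.add (Nat.mul 32 a) b)

/-- Action. -/
def actN (a m : ℕ) : ℕ := look actTab 5 (Nat.add (Nat.mul 32 a) m)

/-- Product of permutations. -/
def pmN (a b : ℕ) : ℕ := look pmTab 6 (Nat.add (Nat.mul 60 a) b)

/-- The product of codes. -/
def mul (i j : ℕ) : ℕ :=
  Nat.add (Nat.mul 32 (pmN (Nat.div i 32) (Nat.div j 32)))
    (qm (Nat.mod i 32) (actN (Nat.div i 32) (Nat.mod j 32)))

/-- The inverse. -/
def inv (i : ℕ) : ℕ := look invTab 11 i

/-- The class. -/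
def cls (i : ℕ) : ℕ := look clTab 4 i

/-- The conjugator. -/
def wit (i : ℕ) : ℕ := look witTab 11 i

/-- The representative of a class. -/
def rep (c : ℕ) : ℕ := repTab.getD c 0

/-- The vector of a number. -/
def qn (n : ℕ) : QN := (n.testBit 4, n.testBit 3, n.testBit 2, n.testBit 1, n.testBit 0)

/-- The permutation of a Lehmer code. -/
def leh : ℕ × ℕ × ℕ × ℕ → Perm (Fin 5)
  | (a, b, c, d) => swap 0 (Fin.ofNat 5 a) * swap 1 (Fin.ofNat 5 b) * swap 2 (Fin.ofNat 5 c) *
      swap 3 (Fin.ofNat 5 d)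

/-- The permutation of a number. -/
def pp (p : ℕ) : Perm (Fin 5) := leh (lehTab.getD p (0, 1, 2, 3))

/-- The model element of a code. -/
def el (i : ℕ) : Mo := (qn (i % 32), pp (i / 32))

theorem pp_even : ∀ p < 60, Perm.sign (pp p) = 1 := by decide +kernel

theorem pp_surj : ∀ π : Perm (Fin 5), Perm.sign π = 1 → ∃ p : Fin 60, pp p = π := by decide +kernel

theorem qn_surj : ∀ m : QN, ∃ n : Fin 32, qn n = m := by decide +kernel

theorem qm_ok : ∀ a < 32, ∀ b < 32, qm a b < 32 ∧ qn (qm a b) = qmul (qn a) (qn b) := by decide +kernel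

theorem act_ok : ∀ a < 60, ∀ m < 32, actN a m < 32 ∧ qn (actN a m) = act (pp a) (qn m) := by decide +kernel

/-- Two permutations agree on the points. -/
def same (π ρ : Perm (Fin 5)) : Bool :=
  (π 0 == ρ 0) && (π 1 == ρ 1) && (π 2 == ρ 2) && (π 3 == ρ 3) && (π 4 == ρ 4)

theorem pm_check : ((List.range 60).all fun a => (List.range 60).all fun b =>
    Nat.blt (pmN a b) 60 && same (pp (pmN a b)) (pp a * pp b)) = true := by decide +kernel

theorem pm_ok : ∀ a < 60, ∀ b < 60, pmN a b < 60 ∧ pp (pmN a b) = pp a * pp b := by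
  intro a ha b hb
  have h := List.all_eq_true.mp (List.all_eq_true.mp pm_check a (List.mem_range.mpr ha)) b
    (List.mem_range.mpr hb)
  simp only [same, Bool.and_eq_true, Nat.blt_eq, beq_iff_eq] at h
  obtain ⟨h1, ⟨⟨⟨h2, h3⟩, h4⟩, h5⟩, h6⟩ := h
  refine ⟨h1, Equiv.ext fun i => ?_⟩
  fin_cases i <;> assumption

theorem mul_lt {i j : ℕ} (hi : i < 1920) (hj : j < 1920) : mul i j < 1920 := by
  have h1 := (pm_ok (i / 32) (by omega) (j / 32) (by omega)).1
  have h2 := (act_ok (i / 32) (by omega) (j % 32) (by omega)).1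
  have h3 := (qm_ok (i % 32) (by omega) _ h2).1
  simp only [mul, Nat.add_eq, Nat.mul_eq]
  show 32 * pmN (i / 32) (j / 32) + qm (i % 32) (actN (i / 32) (j % 32)) < 1920
  omega

theorem el_mul {i j : ℕ} (hi : i < 1920) (hj : j < 1920) : el (mul i j) = mmul (el i) (el j) := by
  obtain ⟨h1, e1⟩ := pm_ok (i / 32) (by omega) (j / 32) (by omega)
  obtain ⟨h2, e2⟩ := act_ok (i / 32) (by omega) (j % 32) (by omega)
  obtain ⟨h3, e3⟩ := qm_ok (i % 32) (by omega) _ h2
  have hm : mul i j = 32 * pmN (i / 32) (j / 32) + qm (i % 32) (actN (i / 32) (j % 32)) := rfl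
  have a1 : mul i j % 32 = qm (i % 32) (actN (i / 32) (j % 32)) := by rw [hm]; omega
  have a2 : mul i j / 32 = pmN (i / 32) (j / 32) := by rw [hm]; omega
  rw [el, a1, a2, e1, e3, e2]; rfl

theorem el_sign {i : ℕ} (hi : i < 1920) : Perm.sign (el i).2 = 1 := pp_even _ (by omega)

theorem el_surj {x : Mo} (hx : Perm.sign x.2 = 1) : ∃ i : Fin 1920, el i = x := by
  obtain ⟨p, hp⟩ := pp_surj x.2 hx
  obtain ⟨n, hn⟩ := qn_surj x.1
  refine ⟨⟨32 * p + n, by omega⟩, ?_⟩
  show el (32 * (p : ℕ) + n) = x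
  rw [el, show (32 * (p : ℕ) + n) % 32 = n by omega, show (32 * (p : ℕ) + n) / 32 = p by omega, hp, hn]

theorem el_inj {i j : ℕ} (hi : i < 1920) (hj : j < 1920) (h : el i = el j) : i = j := by
  have hq : ∀ a < 32, ∀ b < 32, qn a = qn b → a = b := by decide +kernel
  have hp : ((List.range 60).all fun a => (List.range 60).all fun b =>
      Nat.beq a b || !same (pp a) (pp b)) = true := by decide +kernel
  have e1 := hq (i % 32) (by omega) (j % 32) (by omega) (congrArg Prod.fst h)
  have h2 := List.all_eq_true.mp (List.all_eq_true.mp hp (i / 32) (List.mem_range.mpr (by omega)))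
    (j / 32) (List.mem_range.mpr (by omega))
  have hs : same (pp (i / 32)) (pp (j / 32)) = true := by
    rw [show pp (i / 32) = pp (j / 32) from congrArg Prod.snd h]; simp [same]
  rw [hs, Bool.not_true, Bool.or_false] at h2
  have := Nat.eq_of_beq_eq_true h2
  omega

end Cfsg.Agent.H52.JThree.Code
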