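import Cfsg.Agent.H52.JThree.ConfigCert

/-!
A part of the last step of the enumeration.
-/

set_option autoImplicit false

namespace Cfsg.Agent.H52.JThree.Config

theorem step6B : stepOK 6 (norms 6) (needs 6) ((stage6.drop 30).take 35) stage7 = true := by
  decide +kernel

end Cfsg.Agent.H52.JThree.Config
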