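import Cfsg.Agent.H52.JThree.ConfigSound
import Cfsg.Agent.H52.JThree.ConfigCertA
import Cfsg.Agent.H52.JThree.ConfigCertB
import Cfsg.Agent.H52.JThree.ConfigCertC

/-!
Every system of seven vectors with the given inner products is in the final table.
-/

set_option autoImplicit false

namespace Cfsg.Agent.H52.JThree.Config

theorem sized : (wellSized stage0 && wellSized stage1 && wellSized stage2 && wellSized stage3 &&
    wellSized stage4 && wellSized stage5 && wellSized stage6 && wellSized stage7 &&
    wellSized ((stage6.drop 0).take 30) && wellSized ((stage6.drop 30).take 35) &&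
    wellSized ((stage6.drop 65).take 40)) = true := by decide +kernel

theorem split6 : stage6 = (stage6.drop 0).take 30 ++ ((stage6.drop 30).take 35 ++ (stage6.drop 65).take 40) := by
  decide +kernel

/-- The prescribed inner products. -/
def gram : ℕ → ℕ → ℤ := fun r q =>
  if r = q then (norms r : ℤ) else ((needs r).getD q 1000 : ℕ) - (1000 : ℤ)

/-- Completeness of the table. -/
theorem complete {ι : Type*} [Fintype ι] [DecidableEq ι] (vec : ℕ → ι → ℤ)
    (hg : ∀ r < 7, ∀ q ≤ r, ∑ χ, vec r χ * vec q χ = gram r q) : Inv vec 7 stage7 := by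
  have hb : ∀ i, i < 7 → ∀ χ, |vec i χ| ≤ 2 := by
    intro i hi χ
    have h1 := Finset.single_le_sum (f := fun χ => vec i χ * vec i χ) (fun x _ => mul_self_nonneg _)
      (Finset.mem_univ χ)
    rw [hg i hi i le_rfl, gram, if_pos rfl] at h1
    have h2 : (norms i : ℤ) ≤ 5 := by interval_cases i <;> simp [norms]
    rw [abs_le]
    constructor <;> nlinarith
  have hn : ∀ r, r < 7 → ∑ χ, vec r χ * vec r χ = norms r := fun r hr => by
    rw [hg r hr r le_rfl, gram, if_pos rfl]
  have hq : ∀ r, r < 7 → (needs r).map (fun n : ℕ => (n : ℤ) - 1000) =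
      (List.range r).map fun q => ∑ χ, vec r χ * vec q χ := by
    intro r hr
    rw [List.map_congr_left (g := fun q => gram r q) (l := List.range r)
      fun q hq => hg r hr q (List.mem_range.mp hq).le]
    interval_cases r <;> simp [needs, gram, List.range_succ]
  have hs := sized
  simp only [Bool.and_eq_true] at hs
  obtain ⟨⟨⟨⟨⟨⟨⟨⟨⟨⟨w0, w1⟩, w2⟩, w3⟩, w4⟩, w5⟩, w6⟩, w7⟩, wA⟩, wB⟩, wC⟩ := hs
  have go : ∀ r, r < 7 → ∀ cur nxt, stepOK r (norms r) (needs r) cur nxt = true → wellSized cur = true →
      wellSized nxt = true → Inv vec r cur → Inv vec (r + 1) nxt := fun r hr cur nxt h w w' hi =>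
    step_sound vec h w w' hr (by interval_cases r <;> decide) (fun i hi' => hb i (by omega)) (hn r hr) (hq r hr) hi
  have i1 := go 0 (by norm_num) _ _ step0 w0 w1 (inv_zero vec)
  have i2 := go 1 (by norm_num) _ _ step1 w1 w2 i1
  have i3 := go 2 (by norm_num) _ _ step2 w2 w3 i2
  have i4 := go 3 (by norm_num) _ _ step3 w3 w4 i3
  have i5 := go 4 (by norm_num) _ _ step4 w4 w5 i4
  obtain ⟨st, hst, rest⟩ := go 5 (by norm_num) _ _ step5 w5 w6 i5
  rw [split6] at hst
  rcases List.mem_append.mp hst with h | h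
  · exact go 6 (by norm_num) _ _ step6A wA w7 ⟨st, h, rest⟩
  rcases List.mem_append.mp h with h | h
  · exact go 6 (by norm_num) _ _ step6B wB w7 ⟨st, h, rest⟩
  · exact go 6 (by norm_num) _ _ step6C wC w7 ⟨st, h, rest⟩

end Cfsg.Agent.H52.JThree.Config
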