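import Cfsg.Agent.H52.JThree.SearchSound
import Cfsg.Agent.H52.JThree.ConfigThm

/-!
The arithmetic of one configuration: rows give patterns, patterns give the possible orders.
-/

set_option autoImplicit false

namespace Cfsg.Agent.H52.JThree.Arith

open Config

/-- An entry of a stored column. -/
def ent (c : List ℕ) (i : ℕ) : ℤ := dec (c.getD i 2)

/-- The value at the involution. -/
def vA (c : List ℕ) : ℤ :=
  -11 * ent c 0 - 2 * ent c 1 - 2 * ent c 2 - 9 * ent c 3 + 15 * ent c 4 + 5 * ent c 5 + 10 * ent c 6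

/-- The value at the special class of elements of order four. -/
def vB (c : List ℕ) : ℤ :=
  ent c 0 + 2 * ent c 1 + 2 * ent c 2 + 3 * ent c 3 + 3 * ent c 4 + ent c 5 - 2 * ent c 6

/-- The value at the class of elements of order eight. -/
def vC (c : List ℕ) : ℤ := -ent c 0 + ent c 3 + ent c 4 - ent c 5

/-- The signed degree modulo 128. -/
def resI (c : List ℕ) : ℤ := -(35 * vA c + 44 * vB c + 48 * vC c)

/-- The item of a column in a row. -/
def item (i : ℕ) (c : List ℕ) : ℕ × ℕ :=
  ((vA c * vA c).toNat, ((ent c i * resI c) % 128).toNat)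

/-- Code of an item. -/
def icode (p : ℕ × ℕ) : ℕ := Nat.add p.2 (Nat.mul 128 p.1)

/-- Insertion by a key. -/
def insBy {α : Type*} (f : α → ℕ) (x : α) : List α → List α
  | [] => [x]
  | y :: ys => cond (Nat.ble (f x) (f y)) (x :: y :: ys) (y :: insBy f x ys)

/-- Sorting by a key. -/
def sortBy {α : Type*} (f : α → ℕ) : List α → List α
  | [] => []
  | x :: xs => insBy f x (sortBy f xs)

theorem insBy_perm {α : Type*} (f : α → ℕ) (x : α) : ∀ l : List α, (insBy f x l).Perm (x :: l)
  | [] => List.Perm.refl _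
  | y :: ys => by
    rw [insBy]
    cases Nat.ble (f x) (f y)
    · exact (List.Perm.cons y (insBy_perm f x ys)).trans (List.Perm.swap x y ys)
    · exact List.Perm.refl _

theorem sortBy_perm {α : Type*} (f : α → ℕ) : ∀ l : List α, (sortBy f l).Perm l
  | [] => List.Perm.refl _
  | x :: xs => (insBy_perm f x _).trans (List.Perm.cons x (sortBy_perm f xs))

theorem map_sortBy {α β : Type*} (f : β → ℕ) (φ : α → β) : ∀ l : List α,
    (sortBy (fun a => f (φ a)) l).map φ = sortBy f (l.map φ) := by
  have h : ∀ (x : α) (l : List α), (insBy (fun a => f (φ a)) x l).map φ = insBy f (φ x) (l.map φ) := by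
    intro x l
    induction l with
    | nil => rfl
    | cons y ys ih =>
      simp only [insBy, List.map_cons]
      cases Nat.ble (f (φ x)) (f (φ y))
      · simp [ih]
      · simp
  intro l
  induction l with
  | nil => rfl
  | cons x xs ih => simp only [sortBy, List.map_cons, h, ih]

/-- The sorted items of a row. -/
def rowItems (i : ℕ) (cols : List (List ℕ)) : List (ℕ × ℕ) :=
  sortBy icode ((cols.filter fun c => !Nat.beq (c.getD i 2) 2).map (item i))

/-- The entries of a row are units. -/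
def unitRow (i : ℕ) (cols : List (List ℕ)) : Bool :=
  cols.all fun c => or (Nat.beq (c.getD i 2) 2) (or (Nat.beq (c.getD i 2) 3) (Nat.beq (c.getD i 2) 1))

/-- All products of a factor list. -/
def divs : List (ℕ × ℕ) → List ℕ
  | [] => [1]
  | (p, e) :: fs => (List.range (e + 1)).flatMap fun i => (divs fs).map fun d => p ^ i * d

/-- The number with a given factor list. -/
def prodF : List (ℕ × ℕ) → ℕ
  | [] => 1
  | (p, e) :: fs => p ^ e * prodF fs

theorem mem_divs : ∀ {fs : List (ℕ × ℕ)}, (∀ q ∈ fs, q.1.Prime) → ∀ {d : ℕ}, d ∣ prodF fs → d ∈ divs fs := by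
  intro fs
  induction fs with
  | nil => intro _ d hd; simpa [divs, prodF] using hd
  | cons q fs ih =>
    intro hp d hd
    obtain ⟨p, e⟩ := q
    obtain ⟨d1, d2, h1, h2, rfl⟩ := Nat.dvd_mul.mp hd
    obtain ⟨i, hi, rfl⟩ := (Nat.dvd_prime_pow (hp _ List.mem_cons_self)).mp h1
    exact List.mem_flatMap.mpr ⟨i, List.mem_range.mpr (by omega),
      List.mem_map.mpr ⟨d2, ih (fun x hx => hp x (List.mem_cons_of_mem _ hx)) h2, rfl⟩⟩

/-- The signed divisors of a row entry. -/
def cands (fs : List (ℕ × ℕ)) (r : ℕ) : List ℤ :=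
  ((divs fs).map (fun d : ℕ => (d : ℤ)) ++ (divs fs).map (fun d : ℕ => -(d : ℤ))).filter
    fun x => (x - r) % 128 == 0

/-- A row with three entries excludes an order. -/
def excl (K : ℕ) (items : List (ℕ × ℕ)) (m : ℕ) (fs : List (ℕ × ℕ)) : Bool :=
  match items with
  | [u, v, w] => (prodF fs == 1920 * m) && (cands fs u.2).all fun x => (cands fs v.2).all fun y =>
      let z := -x - y
      (z == 0) || ((z - w.2) % 128 != 0) || (decide ((1920 * m : ℕ) < x * x + y * y + z * z)) ||
        ((m : ℤ) * (u.1 * y * z + v.1 * x * z + w.1 * x * y) != (K : ℤ) * (x * y * z))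
  | _ => false

theorem excl_sound {K : ℕ} {u v w : ℕ × ℕ} {m : ℕ} {fs : List (ℕ × ℕ)}
    (h : excl K [u, v, w] m fs = true) (hp : ∀ q ∈ fs, q.1.Prime) {x y z : ℤ} (hs : x + y + z = 0)
    (hz : z ≠ 0) (rx : (x - u.2) % 128 = 0) (ry : (y - v.2) % 128 = 0) (rz : (z - w.2) % 128 = 0)
    (dx : x ∣ (1920 * m : ℕ)) (dy : y ∣ (1920 * m : ℕ)) (hsq : x * x + y * y + z * z ≤ (1920 * m : ℕ))
    (heq : (m : ℤ) * (u.1 * y * z + v.1 * x * z + w.1 * x * y) = (K : ℤ) * (x * y * z)) : False := by
  simp only [excl, Bool.and_eq_true, List.all_eq_true, beq_iff_eq] at h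
  obtain ⟨hprod, h⟩ := h
  have hm : ∀ {x : ℤ} {r : ℕ}, (x - r) % 128 = 0 → x ∣ (1920 * m : ℕ) → x ∈ cands fs r := by
    intro x r hr hd
    have hn : x.natAbs ∣ 1920 * m := by
      have := Int.natAbs_dvd_natAbs.mpr hd; rwa [Int.natAbs_natCast] at this
    have := mem_divs hp (hprod ▸ hn)
    rw [cands, List.mem_filter, List.mem_append, List.mem_map, List.mem_map]
    refine ⟨?_, by simpa using hr⟩
    rcases Int.natAbs_eq x with e | e
    · exact Or.inl ⟨_, this, e.symm⟩
    · exact Or.inr ⟨_, this, e.symm⟩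
  have := h x (hm rx dx) y (hm ry dy)
  rw [show -x - y = z by linarith] at this
  simp [hz, rz, heq] at this
  omega

end Cfsg.Agent.H52.JThree.Arith
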