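import Cfsg.Agent.H52.JThree.Checks

/-!
The induced generalised characters of `G`: inner products, values at three classes, the structure
constant equation, the congruence modulo 128.
-/

set_option autoImplicit false
set_option linter.style.haveILetI false
set_option linter.unusedSectionVars false
set_option synthInstance.maxSize 4000

namespace Cfsg.Agent.H52.JThree.Frame

open Code Subgroup
open Cfsg.Agent.CharBasic Cfsg.Agent.CharInduce
open scoped ComplexConjugate

variable {G : Type*} [Group G] [Fintype G] (F : Frame G)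

noncomputable local instance : Fintype F.Cz := Fintype.ofFinite _

/-- The induced function. -/
noncomputable def ind (r : ℕ) : G → ℂ := Cfsg.indFun F.Cz (F.psi r)

theorem isGen_ind {r : ℕ} (hr : r < 7) : Cfsg.IsGeneralizedCharacter G (F.ind r) :=
  CharInduce.IsGen.ind _ (F.isGen_psi hr)

theorem isClass_ind (r : ℕ) : Cfsg.IsClassFunction G (F.ind r) := isClassFunction_indFun _ _

theorem psi_φ (r : ℕ) {i : ℕ} (hi : i < 1920) (h : F.φ i ∈ F.Cz) :
    F.psi r ⟨F.φ i, h⟩ = realV (val r (cls i)) := by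
  simp only [psi, classOf, F.code_φ hi]

theorem psi_supp {r : ℕ} (hr : r < 7) {i : ℕ} (hi : i < 1920) (h : F.φ i ∈ F.Cz)
    (hne : F.psi r ⟨F.φ i, h⟩ ≠ 0) : cls i ∈ dCls := by
  by_contra hc
  rw [F.psi_φ r hi, val_off r hr _ (cls_lt hi) hc] at hne
  exact hne (by simp [realV])

theorem φ_pow {i : ℕ} (hi : i < 1920) : ∀ n, powN i n < 1920 ∧ F.φ (powN i n) = F.φ i ^ n := by
  intro n
  induction n with
  | zero => exact ⟨by simp [powN], by rw [pow_zero]; exact F.map_zero⟩
  | succ n ih => exact ⟨Code.mul_lt ih.1 hi, by rw [powN, F.map_mul ih.1 hi, ih.2, pow_succ]⟩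

theorem special_rep {c : ℕ} (hc : c ∈ dCls) :
    orderOf (F.φ (rep c)) = 2 * expD c ∧ F.φ (rep c) ^ expD c = F.z := by
  obtain ⟨h1, h2, h3, h4⟩ := order_check c hc
  have hr := (rep_check c (dcls_lt c hc)).1
  refine ⟨(orderOf_eq_iff (by omega)).mpr ⟨by rw [← (F.φ_pow hr _).2, h1, F.map_zero],
    fun j hj hj0 he => ?_⟩, by rw [← (F.φ_pow hr _).2, h2, F.map_z]⟩
  exact h4 j hj hj0 (F.inj (F.φ_pow hr j).1 (by norm_num) (by rw [(F.φ_pow hr j).2, he, F.map_zero]))

theorem special {i : ℕ} (hi : i < 1920) (hc : cls i ∈ dCls) :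
    orderOf (F.φ i) = 2 * expD (cls i) ∧ F.φ i ^ expD (cls i) = F.z := by
  obtain ⟨y, hy, he⟩ := F.exists_conj_rep hi
  obtain ⟨h1, h2⟩ := F.special_rep hc
  refine ⟨?_, by rw [← he, conj_pow, h2, hy, mul_inv_cancel_right]⟩
  rw [← he, ← MulAut.conj_apply, MulEquiv.orderOf_eq, h1]

/-- Special elements are fused only in the centraliser. -/
theorem mem_of_conj {i j : ℕ} (hi : i < 1920) (hj : j < 1920) (hci : cls i ∈ dCls) (hcj : cls j ∈ dCls)
    {x : G} (h : x⁻¹ * F.φ i * x = F.φ j) : x ∈ F.Cz := by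
  obtain ⟨o1, p1⟩ := F.special hi hci
  obtain ⟨o2, p2⟩ := F.special hj hcj
  have h' : MulAut.conj x⁻¹ (F.φ i) = F.φ j := by rw [MulAut.conj_apply, inv_inv, h]
  have he : expD (cls i) = expD (cls j) := by
    have := MulEquiv.orderOf_eq (MulAut.conj x⁻¹) (F.φ i)
    rw [h', o1, o2] at this
    omega
  have h2 : MulAut.conj x⁻¹ F.z = F.z := by
    conv_lhs => rw [← p1]
    rw [map_pow, h', he, p2]
  rw [MulAut.conj_apply, inv_inv] at h2
  rw [F.mem_Cz]
  calc x * F.z = x * (x⁻¹ * F.z * x) := by rw [h2]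
    _ = F.z * x := by group

theorem ind_φ {r : ℕ} (hr : r < 7) {i : ℕ} (hi : i < 1920) (hc : cls i ∈ dCls) :
    F.ind r (F.φ i) = realV (val r (cls i)) := by
  classical
  have hmem : F.φ i ∈ F.Cz := F.mem_Cz.mpr (F.comm_z hi)
  rw [ind, indFun_apply]
  have key : ∀ x : G, Cfsg.extendByZero F.Cz (F.psi r) (x⁻¹ * F.φ i * x) =
      if x ∈ F.Cz then realV (val r (cls i)) else 0 := by
    intro x
    by_cases hx : x ∈ F.Cz
    · rw [if_pos hx, extendByZero_of_mem _ (mul_mem (mul_mem (inv_mem hx) hmem) hx)]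
      have := F.psi_class r ⟨F.φ i, hmem⟩ (⟨x, hx⟩ : F.Cz)⁻¹
      rw [inv_inv] at this
      exact this.trans (F.psi_φ r hi hmem)
    · rw [if_neg hx]
      by_cases hm : x⁻¹ * F.φ i * x ∈ F.Cz
      · rw [extendByZero_of_mem _ hm]
        by_contra hne
        obtain ⟨j, hj, he⟩ := (F.mem _).mp (F.mem_Cz.mp hm)
        refine hx (F.mem_of_conj hi hj hc (F.psi_supp hr hj (he ▸ hm) ?_) he.symm)
        exact fun h0 => hne (Eq.trans (congrArg (F.psi r) (Subtype.ext he.symm)) h0)
      · exact extendByZero_of_not_mem _ hm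
  rw [Finset.sum_congr rfl fun x _ => key x, ← Finset.sum_filter, Finset.sum_const, nsmul_eq_mul,
    ← mul_assoc]
  have hcard : (Finset.univ.filter fun x => x ∈ F.Cz).card = Nat.card F.Cz := by
    rw [Nat.card_eq_fintype_card, ← Fintype.card_subtype]
  rw [hcard, inv_mul_cancel₀ (card_ne_zero_complex _), one_mul]

theorem ind_one {r : ℕ} (hr : r < 7) : F.ind r 1 = 0 := by
  rw [ind, indFun_one]
  have h : F.φ 0 ∈ F.Cz := F.mem_Cz.mpr (F.comm_z (by norm_num))
  rw [show (1 : F.Cz) = ⟨F.φ 0, h⟩ from Subtype.ext F.map_zero.symm, F.psi_φ r (by norm_num) h]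
  rw [show val r (cls 0) = (0, 0) from by
    rw [show cls 0 = 0 from by decide +kernel]; exact val_off r hr 0 (by norm_num) (by decide)]
  simp [realV]

theorem sum_range16 {M : Type*} [AddCommMonoid M] (f : ℕ → M) :
    ((List.range 16).map f).sum = ∑ c ∈ Finset.range 16, f c := by
  rw [← List.sum_toFinset _ List.nodup_range, List.toFinset_range]

theorem realV_csumV (f : ℕ → ℤ × ℤ) :
    realV (csumV f) = ∑ c ∈ Finset.range 16, (size c : ℂ) * realV (f c) := by
  rw [csumV, sum_range16, realV_sum]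
  refine Finset.sum_congr rfl fun c _ => ?_
  rw [realV_smul]; push_cast; rfl

/-- Inner products against a class function. -/
theorem inner_ind (r : ℕ) {ψ : G → ℂ} (hψ : Cfsg.IsClassFunction G ψ) :
    Cfsg.classInner (F.ind r) ψ = (1920 : ℂ)⁻¹ *
      ∑ c ∈ Finset.range 16, (size c : ℂ) * (realV (val r c) * conj (ψ (F.φ (rep c)))) := by
  rw [ind, classInner_indFun_left _ _ _ hψ, classInner_def, F.card_Cz]
  congr 1
  have h : ∑ c : F.Cz, F.psi r c * conj (ψ c) =
      ∑ i ∈ Finset.range 1920, realV (val r (cls i)) * conj (ψ (F.φ (rep (cls i)))) := by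
    rw [← Fin.sum_univ_eq_sum_range (fun i => realV (val r (cls i)) * conj (ψ (F.φ (rep (cls i))))) 1920]
    refine (Fintype.sum_bijective F.el F.el_bij _ _ fun i => ?_).symm
    obtain ⟨y, hy, he⟩ := F.exists_conj_rep i.2
    show _ = F.psi r ⟨F.φ i, _⟩ * conj (ψ (F.φ i))
    rw [F.psi_φ r i.2]
    congr 2
    rw [← he, hψ]
  rw [h, Frame.sum_cls (fun c => realV (val r c) * conj (ψ (F.φ (rep c))))]
  simp only [nsmul_eq_mul]

theorem inner_ind_ind {r q : ℕ} (hr : r < 7) (hq : q < 7) (hqr : q ≤ r) :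
    Cfsg.classInner (F.ind r) (F.ind q) = (Config.gram r q + trivV r * trivV q : ℤ) := by
  rw [F.inner_ind r (F.isClass_ind q)]
  have h : ∀ c ∈ Finset.range 16, (size c : ℂ) * (realV (val r c) * conj (F.ind q (F.φ (rep c)))) =
      (size c : ℂ) * realV (mulV (val r c) (val q c)) := by
    intro c hc
    obtain ⟨h1, h2⟩ := rep_check c (Finset.mem_range.mp hc)
    by_cases hd : c ∈ dCls
    · rw [F.ind_φ hq h1 (h2.symm ▸ hd), h2, conj_realV, realV_mul]
    · rw [val_off r hr c (Finset.mem_range.mp hc) hd, realV_mul]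
      simp [realV]
  rw [Finset.sum_congr rfl h, ← realV_csumV (fun c => mulV (val r c) (val q c)),
    gram_check r hr q hq hqr, realV_int]
  push_cast
  ring

theorem exists_coef {r : ℕ} (χ : Cfsg.IrrCharacter G) :
    ∃ n : ℤ, r < 7 → Cfsg.classInner (F.ind r) (χ : G → ℂ) = n := by
  by_cases hr : r < 7
  · obtain ⟨n, hn⟩ := CharInduce.IsGen.exists_int_coeff (F.isGen_ind hr) (IsIrr.isCharacter χ.2)
    exact ⟨n, fun _ => hn⟩
  · exact ⟨0, fun h => absurd h hr⟩

/-- The multiplicities. -/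
noncomputable def coef (r : ℕ) (χ : Cfsg.IrrCharacter G) : ℤ := (F.exists_coef (r := r) χ).choose

theorem coef_spec {r : ℕ} (hr : r < 7) (χ : Cfsg.IrrCharacter G) :
    Cfsg.classInner (F.ind r) (χ : G → ℂ) = F.coef r χ := (F.exists_coef (r := r) χ).choose_spec hr

theorem coef_triv {r : ℕ} (hr : r < 7) : F.coef r (H36.SelfCentral.triv G) = trivV r := by
  have h := F.inner_ind r (ψ := ((H36.SelfCentral.triv G : Cfsg.IrrCharacter G) : G → ℂ))
    (IsIrr.isClassFunction (H36.SelfCentral.triv G).2)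
  rw [F.coef_spec hr] at h
  have h2 : ∀ g : G, ((H36.SelfCentral.triv G : Cfsg.IrrCharacter G) : G → ℂ) g = 1 := fun _ => rfl
  simp only [h2, _root_.map_one, mul_one] at h
  rw [← realV_csumV (val r), triv_check r hr, realV_int] at h
  push_cast at h
  have : (F.coef r (H36.SelfCentral.triv G) : ℂ) = ((trivV r : ℤ) : ℂ) := by rw [h]; ring
  exact_mod_cast this

open scoped Classical in
theorem gram_coef {r q : ℕ} (hr : r < 7) (hq : q < 7) (hqr : q ≤ r) :
    ∑ χ : Cfsg.IrrCharacter G, F.coef r χ * F.coef q χ = Config.gram r q + trivV r * trivV q := by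
  have h1 := classInner_eq_sum (ψ := F.ind q) (F.isClass_ind r)
  rw [F.inner_ind_ind hr hq hqr] at h1
  simp only [F.coef_spec hr, F.coef_spec hq, _root_.map_intCast] at h1
  exact_mod_cast h1.symm

/-- The degree. -/
noncomputable def deg (χ : Cfsg.IrrCharacter G) : ℕ := Cfsg.charDegree (χ : G → ℂ)

omit [Fintype G] in
theorem apply_one (χ : Cfsg.IrrCharacter G) : (χ : G → ℂ) 1 = (deg χ : ℂ) :=
  (H83.charDegree_eq χ.2).1

omit [Fintype G] in
theorem deg_pos (χ : Cfsg.IrrCharacter G) : 0 < deg χ := (H83.charDegree_eq χ.2).2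

theorem deg_sum {r : ℕ} (hr : r < 7) :
    ∑ χ : Cfsg.IrrCharacter G, F.coef r χ * (deg χ : ℤ) = 0 := by
  have h := congrFun (classFunction_expansion (F.isClass_ind r)) 1
  rw [F.ind_one hr, Finset.sum_apply] at h
  have h2 : ((∑ χ : Cfsg.IrrCharacter G, F.coef r χ * (deg χ : ℤ) : ℤ) : ℂ) = ((0 : ℤ) : ℂ) := by
    push_cast
    rw [h]
    refine Finset.sum_congr rfl fun χ _ => ?_
    rw [Pi.smul_apply, smul_eq_mul, F.coef_spec hr, apply_one]
  exact_mod_cast h2

/-- A linear combination of the multiplicities. -/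
noncomputable def comb (co : List ℤ) (χ : Cfsg.IrrCharacter G) : ℤ :=
  ((List.range 7).map fun r => co.getD r 0 * F.coef r χ).sum

theorem apply_delta {co : List ℤ} {c0 : ℕ} (hc0 : c0 < 16)
    (hd : ∀ c < 16, (size c : ℤ) • combV co c = if c = c0 then (1920, 0) else 0)
    (χ : Cfsg.IrrCharacter G) : (χ : G → ℂ) (F.φ (rep c0)) = (F.comb co χ : ℂ) := by
  have hψ := IsIrr.isClassFunction χ.2
  have hrange : ∀ {M : Type} [AddCommMonoid M] (f : ℕ → M),
      ((List.range 7).map f).sum = ∑ r ∈ Finset.range 7, f r := fun {M} _ f => by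
    rw [← List.sum_toFinset _ List.nodup_range, List.toFinset_range]
  have h : ∑ r ∈ Finset.range 7, (co.getD r 0 : ℂ) * Cfsg.classInner (F.ind r) (χ : G → ℂ) =
      conj ((χ : G → ℂ) (F.φ (rep c0))) := by
    simp only [F.inner_ind _ hψ, Finset.mul_sum]
    rw [Finset.sum_comm]
    rw [Finset.sum_eq_single c0]
    · have e := congrArg realV (hd c0 hc0)
      rw [if_pos rfl, realV_smul, combV, hrange, realV_sum, realV_int, Finset.mul_sum] at e
      simp only [realV_smul] at e
      push_cast at e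
      calc ∑ r ∈ Finset.range 7, (co.getD r 0 : ℂ) * ((1920 : ℂ)⁻¹ * ((size c0 : ℂ) *
            (realV (val r c0) * conj ((χ : G → ℂ) (F.φ (rep c0))))))
          = (1920 : ℂ)⁻¹ * (∑ r ∈ Finset.range 7, (size c0 : ℂ) *
              ((co.getD r 0 : ℂ) * realV (val r c0))) * conj ((χ : G → ℂ) (F.φ (rep c0))) := by
            rw [Finset.mul_sum, Finset.sum_mul]
            exact Finset.sum_congr rfl fun r _ => by ring
        _ = _ := by rw [e]; norm_num
    · intro c hc hne
      have e := congrArg realV (hd c (Finset.mem_range.mp hc))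
      rw [if_neg hne, realV_smul, combV, hrange, realV_sum, Finset.mul_sum] at e
      simp only [realV_smul, show realV (0 : ℤ × ℤ) = 0 by simp [realV]] at e
      push_cast at e
      calc ∑ r ∈ Finset.range 7, (co.getD r 0 : ℂ) * ((1920 : ℂ)⁻¹ * ((size c : ℂ) *
            (realV (val r c) * conj ((χ : G → ℂ) (F.φ (rep c))))))
          = (1920 : ℂ)⁻¹ * (∑ r ∈ Finset.range 7, (size c : ℂ) *
              ((co.getD r 0 : ℂ) * realV (val r c))) * conj ((χ : G → ℂ) (F.φ (rep c))) := by
            rw [Finset.mul_sum, Finset.sum_mul]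
            exact Finset.sum_congr rfl fun r _ => by ring
        _ = _ := by rw [e]; ring
    · exact fun h => absurd (Finset.mem_range.mpr hc0) h
  rw [Finset.sum_congr rfl fun r hr => by rw [F.coef_spec (Finset.mem_range.mp hr)]] at h
  have h' := congrArg conj h
  rw [Complex.conj_conj] at h'
  rw [← h', comb, hrange]
  push_cast
  simp [map_sum]

/-- The value at `z`. -/
noncomputable def vz (χ : Cfsg.IrrCharacter G) : ℤ := F.comb coA χ
/-- The value at the special class of elements of order four. -/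
noncomputable def v4 (χ : Cfsg.IrrCharacter G) : ℤ := F.comb coB χ
/-- The value at the class of elements of order eight. -/
noncomputable def v8 (χ : Cfsg.IrrCharacter G) : ℤ := F.comb coC χ

theorem apply_z (χ : Cfsg.IrrCharacter G) : (χ : G → ℂ) F.z = F.vz χ := by
  have := F.apply_delta (c0 := 1) (by norm_num) (fun c hc => (delta_check c hc).1) χ
  rwa [rep_z, F.map_z] at this

theorem apply_four (χ : Cfsg.IrrCharacter G) : (χ : G → ℂ) (F.φ (rep 2)) = F.v4 χ :=
  F.apply_delta (c0 := 2) (by norm_num) (fun c hc => (delta_check c hc).2.1) χ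

theorem apply_eight (χ : Cfsg.IrrCharacter G) : (χ : G → ℂ) (F.φ (rep 10)) = F.v8 χ :=
  F.apply_delta (c0 := 10) (by norm_num) (fun c hc => (delta_check c hc).2.2) χ

theorem isConj_z {a : G} (ha : a * a = 1) (ha1 : a ≠ 1) : IsConj F.z a :=
  F.hone _ _ F.hz (orderOf_eq_prime (by rw [pow_two, ha]) ha1)

theorem invol_of_conj {a : G} (ha : IsConj F.z a) : a * a = 1 ∧ a ≠ 1 := by
  obtain ⟨k, rfl⟩ := isConj_iff.1 ha
  have hz := F.hz
  have hzz : F.z * F.z = 1 := by rw [← pow_two, ← hz, pow_orderOf_eq_one]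
  refine ⟨by rw [show k * F.z * k⁻¹ * (k * F.z * k⁻¹) = k * (F.z * F.z) * k⁻¹ by group, hzz]; group,
    fun h => ?_⟩
  rw [conj_eq_one_iff.1 h, orderOf_one] at hz
  omega

theorem card_pairs {c : ℕ} (hc : c ∈ dCls) :
    Nat.card {a : G // IsConj F.z a ∧ IsConj F.z (a⁻¹ * F.φ (rep c))} = nPair c := by
  classical
  have hr := (rep_check c (dcls_lt c hc)).1
  have hp := Nat.eq_of_beq_eq_true (List.all_eq_true.mp pair_check c hc)
  obtain ⟨-, hpow⟩ := F.special_rep hc
  set w := F.φ (rep c) with hw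
  set L := (List.range 1920).filter (isPair (rep c)) with hL
  have hnd : L.Nodup := List.nodup_range.filter _
  have hinj : ∀ i ∈ L, ∀ j ∈ L, F.φ i = F.φ j → i = j := fun i hi j hj =>
    F.inj (List.mem_range.mp (List.mem_filter.mp hi).1) (List.mem_range.mp (List.mem_filter.mp hj).1)
  rw [Nat.card_eq_fintype_card, Fintype.card_subtype]
  rw [show (Finset.univ.filter fun a => IsConj F.z a ∧ IsConj F.z (a⁻¹ * w)) = L.toFinset.image F.φ
    from ?_, Finset.card_image_of_injOn fun i hi j hj =>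
      hinj i (List.mem_toFinset.mp hi) j (List.mem_toFinset.mp hj), List.toFinset_card_of_nodup hnd, hp]
  ext a
  simp only [Finset.mem_filter, Finset.mem_univ, true_and, Finset.mem_image, List.mem_toFinset]
  constructor
  · rintro ⟨ha, hb⟩
    obtain ⟨ha1, ha2⟩ := F.invol_of_conj ha
    obtain ⟨hb1, hb2⟩ := F.invol_of_conj hb
    have hai : a⁻¹ = a := inv_eq_of_mul_eq_one_left ha1
    rw [hai] at hb1 hb2
    have hinvert : a * w * a⁻¹ = w⁻¹ := by
      rw [hai]
      refine eq_inv_of_mul_eq_one_left ?_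
      calc a * w * a * w = a * w * (a * w) := by group
        _ = 1 := hb1
    have haz : a * F.z = F.z * a := by
      have e : a * F.z * a⁻¹ = F.z := by
        conv_lhs => rw [← hpow, ← conj_pow, hinvert, inv_pow, hpow]
        exact inv_eq_of_mul_eq_one_left (by rw [← pow_two, ← F.hz, pow_orderOf_eq_one])
      exact mul_inv_eq_iff_eq_mul.mp e
    obtain ⟨u, hu, rfl⟩ := (F.mem a).mp haz
    have hiw : Code.mul (Code.inv u) (rep c) < 1920 := Code.mul_lt (inv_lt hu) hr
    have hmw : F.φ (Code.mul (Code.inv u) (rep c)) = F.φ u * w := by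
      rw [F.map_mul (inv_lt hu) hr, F.map_inv hu, hai]
    refine ⟨u, List.mem_filter.mpr ⟨List.mem_range.mpr hu, ?_⟩, rfl⟩
    have e1 : Code.mul u u = 0 := F.inj (Code.mul_lt hu hu) (by norm_num)
      (by rw [F.map_mul hu hu, ha1, F.map_zero])
    have e2 : u ≠ 0 := fun h => ha2 (h ▸ F.map_zero)
    have e3 : Code.mul (Code.mul (Code.inv u) (rep c)) (Code.mul (Code.inv u) (rep c)) = 0 :=
      F.inj (Code.mul_lt hiw hiw) (by norm_num) (by rw [F.map_mul hiw hiw, hmw, hb1, F.map_zero])
    have e4 : Code.mul (Code.inv u) (rep c) ≠ 0 := fun h => hb2 (by rw [← hmw, h, F.map_zero])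
    simp only [isPair, Bool.and_eq_true, Bool.not_eq_true', e1, e3]
    refine ⟨⟨⟨Nat.beq_refl _, ?_⟩, Nat.beq_refl _⟩, ?_⟩
    · exact Bool.eq_false_iff.mpr fun q => e2 (Nat.eq_of_beq_eq_true q)
    · exact Bool.eq_false_iff.mpr fun q => e4 (Nat.eq_of_beq_eq_true q)
  · rintro ⟨u, hu, rfl⟩
    obtain ⟨hu0, hu'⟩ := List.mem_filter.mp hu
    have hul := List.mem_range.mp hu0
    simp only [isPair, Bool.and_eq_true, Bool.not_eq_true'] at hu'
    obtain ⟨⟨⟨e1, e2⟩, e3⟩, e4⟩ := hu'
    have hiw : Code.mul (Code.inv u) (rep c) < 1920 := Code.mul_lt (inv_lt hul) hr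
    have hmw : F.φ (Code.mul (Code.inv u) (rep c)) = (F.φ u)⁻¹ * w := by
      rw [F.map_mul (inv_lt hul) hr, F.map_inv hul]
    refine ⟨F.isConj_z (by rw [← F.map_mul hul hul, Nat.eq_of_beq_eq_true e1, F.map_zero]) fun h => ?_,
      F.isConj_z (by rw [← hmw, ← F.map_mul hiw hiw, Nat.eq_of_beq_eq_true e3, F.map_zero]) fun h => ?_⟩
    · rw [F.inj hul (by norm_num) (h.trans F.map_zero.symm)] at e2
      exact absurd e2 (by decide)
    · rw [F.inj hiw (by norm_num) ((hmw.trans h).trans F.map_zero.symm)] at e4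
      exact absurd e4 (by decide)

/-- The class multiplication constant summed against an induced function. -/
theorem structure_eq {r : ℕ} (hr : r < 4) :
    (Nat.card G : ℚ) * ∑ χ : Cfsg.IrrCharacter G,
      (F.coef r χ : ℚ) * (F.vz χ : ℚ) ^ 2 / (deg χ : ℚ) = 1920 * (Arith.rhs r : ℚ) := by
  classical
  have hr7 : r < 7 := by omega
  let N : G → ℂ := fun g =>
    (Nat.card {x : G // IsConj F.z x ∧ IsConj F.z (x⁻¹ * g)} : ℂ)
  set K : ℂ := ((centralizer ({F.z} : Set G)).index : ℂ) with hK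
  have hG0 : (Nat.card G : ℂ) ≠ 0 := card_ne_zero_complex G
  have hN : ∀ g, (Nat.card G : ℂ) * N g = K * K * ∑ χ : Cfsg.IrrCharacter G,
      (F.vz χ : ℂ) ^ 2 * conj ((χ : G → ℂ) g) / (deg χ : ℂ) := by
    intro g
    have h1 := H83.card_pairs_mul_card F.z F.z g
    have h2 := congrArg conj h1
    simp only [_root_.map_mul, map_natCast, map_sum, map_div₀, F.apply_z, apply_one, map_intCast] at h2
    rw [h2]
    congr 1
    exact Finset.sum_congr rfl fun χ _ => by ring
  have hcl : Cfsg.IsClassFunction G N := by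
    intro g x
    have e1 := hN (x * g * x⁻¹)
    have e2 : ∀ χ : Cfsg.IrrCharacter G, (χ : G → ℂ) (x * g * x⁻¹) = (χ : G → ℂ) g :=
      fun χ => IsIrr.isClassFunction χ.2 g x
    simp only [e2, ← hN] at e1
    exact mul_left_cancel₀ hG0 e1
  have hval : Cfsg.classInner (F.ind r) N = (1920 : ℂ)⁻¹ * (Arith.rhs r : ℂ) := by
    rw [F.inner_ind r hcl]
    congr 1
    have e := congrArg realV (struct_check r hr)
    rw [realV_csumV, realV_int] at e
    push_cast at e
    rw [← e]
    refine Finset.sum_congr rfl fun c hc => ?_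
    rw [realV_smul]
    by_cases hd : c ∈ dCls
    · simp only [N, F.card_pairs hd, map_natCast, Int.cast_natCast]; ring
    · rw [val_off r hr7 c (Finset.mem_range.mp hc) hd]
      simp [realV]
  have hNexp : N = ∑ χ : Cfsg.IrrCharacter G,
      (K * K * (F.vz χ : ℂ) ^ 2 / ((Nat.card G : ℂ) * (deg χ : ℂ))) • (χ : G → ℂ) := by
    funext g
    have e : conj (N g) = N g := by simp [N]
    rw [← e, Finset.sum_apply]
    have := congrArg conj (hN g)
    simp only [_root_.map_mul, map_natCast, map_sum, map_div₀, map_pow, Complex.conj_conj, map_intCast,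
      hK] at this
    rw [e] at this ⊢
    rw [← mul_right_inj' hG0, this, Finset.mul_sum, Finset.mul_sum]
    refine Finset.sum_congr rfl fun χ _ => ?_
    rw [Pi.smul_apply, smul_eq_mul, hK]
    field_simp
  rw [hNexp, classInner_sum_right] at hval
  have hsum : ∀ χ : Cfsg.IrrCharacter G, Cfsg.classInner (F.ind r)
      ((K * K * (F.vz χ : ℂ) ^ 2 / ((Nat.card G : ℂ) * (deg χ : ℂ))) • (χ : G → ℂ)) =
      K * K / (Nat.card G : ℂ) * ((F.coef r χ : ℂ) * (F.vz χ : ℂ) ^ 2 / (deg χ : ℂ)) := by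
    intro χ
    rw [classInner_smul_right, F.coef_spec hr7]
    simp only [map_div₀, _root_.map_mul, map_pow, map_natCast, map_intCast, hK]
    ring
  rw [Finset.sum_congr rfl fun χ _ => hsum χ, ← Finset.mul_sum] at hval
  have hKG : K * 1920 = (Nat.card G : ℂ) := by
    rw [hK, show (1920 : ℂ) = ((Nat.card (centralizer ({F.z} : Set G))) : ℂ) from by
      rw [F.card_Cz]; norm_num]
    exact_mod_cast index_mul_card (centralizer ({F.z} : Set G))
  have hfin : (Nat.card G : ℂ) * ∑ χ : Cfsg.IrrCharacter G,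
      (F.coef r χ : ℂ) * (F.vz χ : ℂ) ^ 2 / (deg χ : ℂ) = 1920 * (Arith.rhs r : ℂ) := by
    have hfac : K * K / (Nat.card G : ℂ) = (Nat.card G : ℂ) / 3686400 := by
      rw [div_eq_div_iff hG0 (by norm_num), ← hKG]; ring
    rw [hfac] at hval
    linear_combination 3686400 * hval
  exact_mod_cast hfin

theorem apply_kind (χ : Cfsg.IrrCharacter G) {i : ℕ} (hi : i < 1920) :
    (kind (cls i) = 0 → (χ : G → ℂ) (F.φ i) = (deg χ : ℂ)) ∧
    (kind (cls i) = 1 → (χ : G → ℂ) (F.φ i) = (F.vz χ : ℂ)) ∧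
    (kind (cls i) = 2 → (χ : G → ℂ) (F.φ i) = (F.v4 χ : ℂ)) ∧
    (kind (cls i) = 3 → (χ : G → ℂ) (F.φ i) = (F.v8 χ : ℂ)) := by
  have hcl := IsIrr.isClassFunction χ.2
  have hc := cls_lt hi
  have heq : ∀ j (hj : j < 1920) (c : ℕ), cls j = c → (χ : G → ℂ) (F.φ j) = (χ : G → ℂ) (F.φ (rep c)) := by
    intro j hj c hjc
    obtain ⟨y, -, he⟩ := F.exists_conj_rep hj
    rw [← he, hcl, hjc]
  have hck := List.all_eq_true.mp elem_check i (List.mem_range.mpr hi)
  simp only [elemOK, Bool.and_eq_true, Bool.or_eq_true, Bool.not_eq_true'] at hck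
  obtain ⟨⟨⟨k0, k1⟩, k11⟩, -⟩ := hck
  refine ⟨fun hk => ?_, fun hk => ?_, fun hk => ?_, fun hk => ?_⟩ <;> revert hk <;>
    generalize hcc : cls i = c at hc k0 k1 k11 ⊢ <;> interval_cases c <;> intro hk <;>
    simp only [kind] at hk <;> first | omega | skip
  · rcases k0 with e | e
    · exact absurd e (by decide)
    · rw [Nat.eq_of_beq_eq_true e, F.map_zero, apply_one]
  iterate 3
    rcases k1 with e | ⟨e, e'⟩
    · exact absurd e (by decide)
    · have h2 : i ≠ 0 := fun h => by subst h; exact absurd e' (by decide)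
      obtain ⟨g, hg⟩ := isConj_iff.1 (F.isConj_z (a := F.φ i)
        (by rw [← F.map_mul hi hi, Nat.eq_of_beq_eq_true e, F.map_zero])
        (fun h => h2 (F.inj hi (by norm_num) (h.trans F.map_zero.symm))))
      rw [← hg, hcl, F.apply_z]
  · rw [heq i hi 2 hcc, F.apply_four]
  · rcases k11 with e | ⟨e, e'⟩
    · exact absurd e (by decide)
    · set w := F.φ i * F.φ i with hwd
      have hne : Code.mul i i ≠ 0 := fun h => by rw [h] at e; exact absurd e (by decide)
      have hw1 : w ≠ 1 := fun h =>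
        hne (F.inj (Code.mul_lt hi hi) (by norm_num) (by rw [F.map_mul hi hi, ← hwd, h, F.map_zero]))
      have hw2 : w * w = 1 := by
        rw [hwd, ← F.map_mul hi hi, ← F.map_mul (Code.mul_lt hi hi) (Code.mul_lt hi hi),
          Nat.eq_of_beq_eq_true e', F.map_zero]
      obtain ⟨g, hg⟩ := isConj_iff.1 (F.isConj_z hw2 hw1).symm
      set d := g * F.φ i * g⁻¹ with hd
      have hdd : d * d = F.z := by rw [← hg, hwd, hd]; group
      obtain ⟨j, hj, hjd⟩ := (F.mem d).mp (show d * F.z = F.z * d by rw [← hdd]; exact (mul_assoc d d d).symm)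
      have hj2 : Code.mul j j = 16 :=
        F.inj (Code.mul_lt hj hj) (by norm_num) (by rw [F.map_mul hj hj, hjd, hdd, F.map_z])
      have hcj := List.all_eq_true.mp elem_check j (List.mem_range.mpr hj)
      simp only [elemOK, Bool.and_eq_true, Bool.or_eq_true, Bool.not_eq_true', hj2] at hcj
      rcases hcj.2 with r | r
      · exact absurd r (by decide)
      · rw [← hcl (F.φ i) g, ← hd, ← hjd, heq j hj 2 (Nat.eq_of_beq_eq_true r), F.apply_four]
  · rw [heq i hi 10 hcc, F.apply_eight]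

theorem congr128 (χ : Cfsg.IrrCharacter G) :
    (128 : ℤ) ∣ (deg χ : ℤ) + 35 * F.vz χ + 44 * F.v4 χ + 48 * F.v8 χ := by
  classical
  obtain ⟨hnd, hlen, h0, hlt⟩ := syl_basic
  have hmul : ∀ a ∈ sylL, ∀ b ∈ sylL, Code.mul a b ∈ sylL := by
    intro a ha b hb
    obtain ⟨y, hy, he⟩ := List.any_eq_true.mp
      (List.all_eq_true.mp (List.all_eq_true.mp syl_mul a ha) b hb)
    rw [Nat.eq_of_beq_eq_true he]; exact hy
  let M : Submonoid G :=
    { carrier := {g | ∃ i ∈ sylL, F.φ i = g}
      one_mem' := ⟨0, h0, F.map_zero⟩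
      mul_mem' := fun {a b} ha hb => by
        obtain ⟨i, hi, rfl⟩ := ha; obtain ⟨j, hj, rfl⟩ := hb
        exact ⟨_, hmul i hi j hj, F.map_mul (hlt i hi) (hlt j hj)⟩ }
  let S : Subgroup G := Subgroup.closure (M : Set G)
  have hS : ∀ g, g ∈ S ↔ ∃ i ∈ sylL, F.φ i = g := fun g => by
    refine ⟨fun h => ?_, fun h => subset_closure h⟩
    have hh : g ∈ (Subgroup.closure (M : Set G)).toSubmonoid := h
    rw [Subgroup.closure_toSubmonoid_of_finite, Submonoid.closure_eq] at hh
    exact hh
  obtain ⟨m, hm⟩ := classInner_isChar_nat (IsChar.comp (IsIrr.isCharacter χ.2) S.subtype)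
    (CharInduce.IsChar.one (G := S))
  rw [classInner_def] at hm
  simp only [_root_.map_one, mul_one] at hm
  have hsum : ∑ g : S, ((χ : G → ℂ) ∘ S.subtype) g = (sylL.map fun i => (χ : G → ℂ) (F.φ i)).sum := by
    rw [← List.sum_toFinset _ hnd]
    refine (Finset.sum_bij' (fun i hi => (⟨F.φ i, (hS _).mpr ⟨i, List.mem_toFinset.mp hi, rfl⟩⟩ : S))
      (fun g _ => F.code g) (fun _ _ => Finset.mem_univ _) ?_ ?_ ?_ ?_).symm
    · intro g _
      obtain ⟨i, hi, he⟩ := (hS g).mp g.2
      rw [List.mem_toFinset, ← he, F.code_φ (hlt i hi)]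
      exact hi
    · exact fun i hi => F.code_φ (hlt i (List.mem_toFinset.mp hi))
    · intro g _
      obtain ⟨i, hi, he⟩ := (hS g).mp g.2
      exact Subtype.ext (by simp only [← he, F.code_φ (hlt i hi)])
    · intro i _; rfl
  have hcard : (Nat.card S : ℂ) = 128 := by
    rw [Nat.card_congr (Equiv.subtypeEquivRight hS : S ≃ {g // ∃ i ∈ sylL, F.φ i = g}),
      Nat.card_eq_fintype_card, Fintype.card_subtype,
      show (Finset.univ.filter fun g => ∃ i ∈ sylL, F.φ i = g) = sylL.toFinset.image F.φ from by ext g; simp,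
      Finset.card_image_of_injOn (fun i hi j hj =>
        F.inj (hlt i (List.mem_toFinset.mp hi)) (hlt j (List.mem_toFinset.mp hj))),
      List.toFinset_card_of_nodup hnd, hlen]
    norm_num
  simp only [Function.comp_apply] at hsum hm
  rw [hsum, hcard] at hm
  have hkinds : (sylL.map fun i => (χ : G → ℂ) (F.φ i)).sum =
      (((sylL.filter fun i => Nat.beq (kind (cls i)) 0).length : ℂ) * (deg χ : ℂ)) +
      ((sylL.filter fun i => Nat.beq (kind (cls i)) 1).length : ℂ) * (F.vz χ : ℂ) +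
      ((sylL.filter fun i => Nat.beq (kind (cls i)) 2).length : ℂ) * (F.v4 χ : ℂ) +
      ((sylL.filter fun i => Nat.beq (kind (cls i)) 3).length : ℂ) * (F.v8 χ : ℂ) := by
    have h4 : sylL.filter (fun i => Nat.beq (kind (cls i)) 4) = [] := by
      rw [← List.length_eq_zero_iff]
      have := kind_count
      simp only [List.range_succ, List.range_zero, List.nil_append, List.cons_append, List.map_cons,
        List.map_nil, List.cons.injEq] at this
      exact this.2.2.2.2.1
    have hle : ∀ i ∈ sylL, kind (cls i) < 4 := fun i hi => by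
      by_contra hge
      have hk5 : ∀ c, kind c ≤ 4 := fun c => by unfold kind; split <;> omega
      have h44 : kind (cls i) = 4 := by have := hk5 (cls i); omega
      have : i ∈ sylL.filter (fun i => Nat.beq (kind (cls i)) 4) :=
        List.mem_filter.mpr ⟨hi, by rw [h44]; rfl⟩
      rw [h4] at this
      exact absurd this (List.not_mem_nil)
    clear hsum hm hnd hlen hS hcard h4
    clear S M hmul h0
    generalize sylL = l at hle hlt
    induction l with
    | nil => simp
    | cons a l ih =>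
      have := hle a List.mem_cons_self
      obtain ⟨a0, a1, a2, a3⟩ := F.apply_kind χ (hlt a List.mem_cons_self)
      rw [List.map_cons, List.sum_cons, ih (fun i hi => hle i (List.mem_cons_of_mem _ hi))
        (fun i hi => hlt i (List.mem_cons_of_mem _ hi))]
      generalize hk : kind (cls a) = k at this a0 a1 a2 a3
      interval_cases k
      · rw [a0 rfl]; simp [List.filter_cons, hk]; ring
      · rw [a1 rfl]; simp [List.filter_cons, hk]; ring
      · rw [a2 rfl]; simp [List.filter_cons, hk]; ring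
      · rw [a3 rfl]; simp [List.filter_cons, hk]; ring
  rw [hkinds] at hm
  have hc := kind_count
  simp only [List.range_succ, List.range_zero, List.nil_append, List.cons_append, List.map_cons,
    List.map_nil, List.cons.injEq] at hc
  obtain ⟨c0, c1, c2, c3, -⟩ := hc
  rw [c0, c1, c2, c3, inv_mul_eq_iff_eq_mul₀ (by norm_num : (128 : ℂ) ≠ 0)] at hm
  refine ⟨m, ?_⟩
  have : (((deg χ : ℤ) + 35 * F.vz χ + 44 * F.v4 χ + 48 * F.v8 χ : ℤ) : ℂ) = ((128 * m : ℤ) : ℂ) := by
    push_cast
    push_cast at hm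
    linear_combination hm
  exact_mod_cast this

end Cfsg.Agent.H52.JThree.Frame
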