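import Cfsg.Agent.H52.JThree.SearchData

/-!
A part of the search certificate.
-/

set_option autoImplicit false

namespace Cfsg.Agent.H52.JThree.Arith

theorem cert1_4 : table1_4.all check1 = true := by decide +kernel

end Cfsg.Agent.H52.JThree.Arith
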