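import Cfsg.Agent.H52.JThree.SearchCert0
import Cfsg.Agent.H52.JThree.SearchCert1
import Cfsg.Agent.H52.JThree.SearchCert2
import Cfsg.Agent.H52.JThree.SearchCert3
import Cfsg.Agent.H52.JThree.SearchCert4
import Mathlib.Tactic.NormNum.Prime

/-!
The only possible order.
-/

set_option autoImplicit false

namespace Cfsg.Agent.H52.JThree.Arith

open Config

/-- The right-hand sides of the four equations. -/
def rhs : ℕ → ℕ
  | 0 => 320
  | 3 => 15200
  | _ => 4320

/-- The principal constituent in the rows. -/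
def triv : ℕ → ℤ
  | 3 => 1
  | _ => 0

/-- A configuration leaves only one order. -/
def finalOK (st : List ℕ) : Bool :=
  let cols := st.map (decode 7)
  unitRow 0 cols && unitRow 1 cols && unitRow 2 cols && unitRow 3 cols &&
    (let key3 := (rowItems 3 cols).map icode
     let key0 := (rowItems 0 cols).map icode
     let key1 := (rowItems 1 cols).map icode
     let key2 := (rowItems 2 cols).map icode
     table1.any fun e => (e.1.map icode == key3) && e.2.2.all fun m => Nat.beq m 26163 ||
       table2.any fun f => Nat.beq f.2.2.1 m &&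
         ((Nat.beq f.1 320 && (f.2.1.map icode == key0)) ||
           (Nat.beq f.1 4320 && ((f.2.1.map icode == key1) || (f.2.1.map icode == key2)))))

set_option maxRecDepth 100000 in
theorem final_all : stage7.all finalOK = true := by decide +kernel

theorem excl_all : table2.all (fun f => excl f.1 f.2.1 f.2.2.1 f.2.2.2) = true := by decide +kernel

theorem res_small : table2.all (fun f => f.2.1.all fun p => Nat.blt p.2 128) = true := by decide +kernel

theorem primes_all : ∀ f ∈ table2, ∀ q ∈ f.2.2.2, q.1.Prime := by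
  simp only [table2, List.forall_mem_cons, List.not_mem_nil, false_imp_iff, implies_true, and_true]
  norm_num

theorem table1_all : ∀ e ∈ table1, check1 e = true := by
  intro e he
  simp only [table1, List.mem_append] at he
  have h0 := List.all_eq_true.mp cert1_0
  have h1 := List.all_eq_true.mp cert1_1
  have h2 := List.all_eq_true.mp cert1_2
  have h3 := List.all_eq_true.mp cert1_3
  have h4 := List.all_eq_true.mp cert1_4
  rcases he with (((he | he) | he) | he) | he
  exacts [h0 e he, h1 e he, h2 e he, h3 e he, h4 e he]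

theorem icode_inj : ∀ {a b : List (ℕ × ℕ)}, (∀ p ∈ a, p.2 < 128) → (∀ p ∈ b, p.2 < 128) →
    a.map icode = b.map icode → a = b := by
  intro a
  induction a with
  | nil => intro b _ _ h; cases b <;> simp at h ⊢
  | cons p a ih =>
    intro b ha hb h
    cases b with
    | nil => simp at h
    | cons q b =>
      simp only [List.map_cons, List.cons.injEq, icode, Nat.add_eq, Nat.mul_eq] at h
      have := ha p List.mem_cons_self
      have := hb q List.mem_cons_self
      rw [ih (fun x hx => ha x (List.mem_cons_of_mem _ hx)) (fun x hx => hb x (List.mem_cons_of_mem _ hx))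
        (by simpa [icode] using h.2)]
      congr 1
      exact Prod.ext (by omega) (by omega)

theorem row_res (i : ℕ) (cols : List (List ℕ)) : ∀ p ∈ rowItems i cols, p.2 < 128 := by
  intro p hp
  obtain ⟨c, -, rfl⟩ := List.mem_map.mp ((sortBy_perm _ _).mem_iff.mp hp)
  simp only [item]
  omega

/-- The data of the constituents of one configuration. -/
structure Rows (cols : List (List ℕ)) (xs : List ℤ) (m : ℕ) : Prop where
  len : cols.length = xs.length
  odd : m % 2 = 1
  res : ∀ p ∈ cols.zip xs, (p.2 - resI p.1) % 128 = 0 ∧ p.2 ≠ 0 ∧ p.2 ∣ (1920 * m : ℕ)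
  lin : ∀ i < 4, triv i + ((cols.zip xs).map fun p => ent p.1 i * p.2).sum = 0
  rec' : ∀ i < 4, (triv i : ℚ) + ((cols.zip xs).map fun p => (ent p.1 i : ℚ) * (vA p.1 : ℚ) ^ 2 / p.2).sum =
    (rhs i : ℚ) / m
  sq : ((cols.zip xs).map fun p => p.2 * p.2).sum ≤ (1920 * m : ℕ)

theorem sum_filter {α M : Type*} [AddMonoid M] (f : α → M) (P : α → Bool) :
    ∀ l : List α, (∀ a ∈ l, P a = false → f a = 0) → ((l.filter P).map f).sum = (l.map f).sum := by
  intro l h
  induction l with
  | nil => rfl
  | cons a l ih =>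
    have := ih fun x hx => h x (List.mem_cons_of_mem _ hx)
    cases hP : P a
    · rw [List.filter_cons_of_neg (by simp [hP]), this, List.map_cons, List.sum_cons, h a List.mem_cons_self hP, zero_add]
    · rw [List.filter_cons_of_pos hP, List.map_cons, List.map_cons, List.sum_cons, List.sum_cons, this]

theorem filter_fst {P : List ℕ → Bool} : ∀ (cols : List (List ℕ)) (xs : List ℤ), cols.length = xs.length →
    ((cols.zip xs).filter fun p => P p.1).map Prod.fst = cols.filter P := by
  intro cols
  induction cols with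
  | nil => intro xs _; simp
  | cons c cols ih =>
    intro xs h
    cases xs with
    | nil => simp at h
    | cons x xs =>
      have := ih xs (by simpa using h)
      cases hP : P c <;> simp [hP, this]

theorem filter_sum_le {α : Type*} (f : α → ℤ) (hf : ∀ a, 0 ≤ f a) (P : α → Bool) :
    ∀ l : List α, ((l.filter P).map f).sum ≤ (l.map f).sum := by
  intro l
  induction l with
  | nil => simp
  | cons a l ih =>
    cases hP : P a <;> simp [hP] <;> linarith [hf a]

/-- A row with a known pattern. -/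
theorem row_triple {cols : List (List ℕ)} {xs : List ℤ} {m : ℕ} (H : Rows cols xs m) {i : ℕ}
    (hi : i < 4) (hu : unitRow i cols = true) {items : List (ℕ × ℕ)}
    (hk : items.map icode = (rowItems i cols).map icode) (hres : ∀ p ∈ items, p.2 < 128) :
    ∀ u v w, items = [u, v, w] → ∃ x y z : ℤ, x ≠ 0 ∧ y ≠ 0 ∧ z ≠ 0 ∧
      (x - u.2) % 128 = 0 ∧ (y - v.2) % 128 = 0 ∧ (z - w.2) % 128 = 0 ∧
      x ∣ (1920 * m : ℕ) ∧ y ∣ (1920 * m : ℕ) ∧ z ∣ (1920 * m : ℕ) ∧
      x * x + y * y + z * z ≤ (1920 * m : ℕ) ∧ triv i + (x + y + z) = 0 ∧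
      (m : ℤ) * (triv i * (x * y * z) + u.1 * y * z + v.1 * x * z + w.1 * x * y) = (rhs i : ℤ) * (x * y * z) := by
  rintro u v w rfl
  set P : List ℕ → Bool := fun c => !Nat.beq (c.getD i 2) 2 with hP
  set L := sortBy (fun p : List ℕ × ℤ => icode (item i p.1)) ((cols.zip xs).filter fun p => P p.1) with hL
  have hmap : L.map (fun p => item i p.1) = [u, v, w] := by
    rw [hL, map_sortBy icode (fun p : List ℕ × ℤ => item i p.1)]
    have e : List.map (fun p : List ℕ × ℤ => item i p.1) ((cols.zip xs).filter fun p => P p.1) =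
        (cols.filter P).map (item i) := by
      rw [← filter_fst cols xs H.len (P := P), List.map_map]; rfl
    rw [e]
    exact (icode_inj hres (row_res i cols) hk).symm
  have hperm : L.Perm ((cols.zip xs).filter fun p => P p.1) := sortBy_perm _ _
  have hz : ∀ p : List ℕ × ℤ, P p.1 = false → ent p.1 i = 0 := fun p h => by
    have : p.1.getD i 2 = 2 := Nat.eq_of_beq_eq_true (by simpa [hP] using h)
    rw [ent, this]; rfl
  have hlin : triv i + (L.map fun p => ent p.1 i * p.2).sum = 0 := by
    rw [(hperm.map _).sum_eq, sum_filter _ _ _ fun p _ h => by rw [hz p h, zero_mul]]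
    exact H.lin i hi
  have hrec : (triv i : ℚ) + (L.map fun p => (ent p.1 i : ℚ) * (vA p.1 : ℚ) ^ 2 / p.2).sum = (rhs i : ℚ) / m := by
    rw [(hperm.map _).sum_eq, sum_filter _ _ _ fun p _ h => by rw [hz p h]; simp]
    exact H.rec' i hi
  have hsq : (L.map fun p => p.2 * p.2).sum ≤ (1920 * m : ℕ) := by
    rw [(hperm.map _).sum_eq]
    exact le_trans (filter_sum_le _ (fun p => mul_self_nonneg _) _ _) H.sq
  have hL3 : ∃ p q o, L = [p, q, o] := by
    match L, hmap with
    | [p, q, o], _ => exact ⟨p, q, o, rfl⟩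
  obtain ⟨p, q, o, hpqo⟩ := hL3
  rw [hpqo] at hmap hlin hrec hsq
  simp only [List.map_cons, List.map_nil, List.cons.injEq, and_true] at hmap
  obtain ⟨rfl, rfl, rfl⟩ := hmap
  simp only [List.map_cons, List.map_nil, List.sum_cons, List.sum_nil, add_zero] at hlin hrec hsq
  have hmem : ∀ t ∈ [p, q, o], t ∈ cols.zip xs ∧ (ent t.1 i = 1 ∨ ent t.1 i = -1) := by
    intro t ht
    rw [← hpqo] at ht
    obtain ⟨h1, h2⟩ := List.mem_filter.mp (hperm.mem_iff.mp ht)
    refine ⟨h1, ?_⟩
    rw [unitRow, List.all_eq_true] at hu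
    have := hu t.1 (List.of_mem_zip h1).1
    simp only [Bool.or_eq_true] at this
    rcases this with e | e | e
    · simp only [hP, e, Bool.not_true, Bool.false_eq_true] at h2
    · left; rw [ent, Nat.eq_of_beq_eq_true e]; rfl
    · right; rw [ent, Nat.eq_of_beq_eq_true e]; rfl
  have key : ∀ t ∈ [p, q, o], ent t.1 i * t.2 ≠ 0 ∧
      (ent t.1 i * t.2 - ((item i t.1).2 : ℕ)) % 128 = 0 ∧ ent t.1 i * t.2 ∣ (1920 * m : ℕ) ∧
      ent t.1 i * t.2 * (ent t.1 i * t.2) = t.2 * t.2 ∧
      (ent t.1 i : ℚ) * (vA t.1 : ℚ) ^ 2 / t.2 = ((item i t.1).1 : ℚ) / ((ent t.1 i * t.2 : ℤ) : ℚ) := by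
    intro t ht
    obtain ⟨h1, hk1⟩ := hmem t ht
    obtain ⟨hr, hne, hd⟩ := H.res t h1
    have hv : (((item i t.1).1 : ℕ) : ℤ) = vA t.1 * vA t.1 := Int.toNat_of_nonneg (mul_self_nonneg _)
    have hv' : (((item i t.1).1 : ℕ) : ℚ) = (vA t.1 : ℚ) * vA t.1 := by exact_mod_cast hv
    refine ⟨?_, ?_, ?_, ?_, ?_⟩
    · rcases hk1 with e | e <;> rw [e] <;> omega
    · simp only [item]
      rcases hk1 with e | e <;> rw [e] <;> omega
    · rcases hk1 with e | e <;> rw [e] <;> simpa using hd
    · rcases hk1 with e | e <;> rw [e] <;> ring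
    · rw [hv']
      rcases hk1 with e | e <;> rw [e] <;> push_cast <;> ring
  obtain ⟨p1, p2, p3, p4, p5⟩ := key p (by simp)
  obtain ⟨q1, q2, q3, q4, q5⟩ := key q (by simp)
  obtain ⟨o1, o2, o3, o4, o5⟩ := key o (by simp)
  refine ⟨_, _, _, p1, q1, o1, p2, q2, o2, p3, q3, o3, by rw [p4, q4, o4]; linarith, by linarith, ?_⟩
  rw [p5, q5, o5] at hrec
  generalize ent p.1 i * p.2 = x at p1 hrec ⊢
  generalize ent q.1 i * q.2 = y at q1 hrec ⊢
  generalize ent o.1 i * o.2 = z at o1 hrec ⊢
  generalize (item i p.1).1 = a at hrec ⊢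
  generalize (item i q.1).1 = b at hrec ⊢
  generalize (item i o.1).1 = c at hrec ⊢
  have hx : (x : ℚ) ≠ 0 := Int.cast_ne_zero.mpr p1
  have hy : (y : ℚ) ≠ 0 := Int.cast_ne_zero.mpr q1
  have hz : (z : ℚ) ≠ 0 := Int.cast_ne_zero.mpr o1
  have hm : (m : ℚ) ≠ 0 := Nat.cast_ne_zero.mpr (by have := H.odd; omega)
  field_simp at hrec
  have e : ((m : ℚ) * ((triv i : ℚ) * (x * y * z) + a * y * z + b * x * z + c * x * y)) =
      (rhs i : ℚ) * (x * y * z) := by linear_combination hrec
  exact_mod_cast e

/-- Only one order is possible. -/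
theorem order_eq {st : List ℕ} (hst : st ∈ stage7) {xs : List ℤ} {m : ℕ}
    (H : Rows (st.map (decode 7)) xs m) : m = 26163 := by
  have h := List.all_eq_true.mp final_all st hst
  simp only [finalOK, Bool.and_eq_true, List.any_eq_true, List.all_eq_true, Bool.or_eq_true, beq_iff_eq] at h
  obtain ⟨⟨⟨⟨u0, u1⟩, u2⟩, u3⟩, e, he, hk, hms⟩ := h
  obtain ⟨items, X, ms⟩ := e
  have hc := table1_all _ he
  match items, hc with
  | [u, v, w], hc =>
    simp only [check1, Bool.and_eq_true, Nat.blt_eq] at hc
    obtain ⟨⟨ru, rv, rw'⟩, hsearch⟩ := hc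
    obtain ⟨x, y, z, hx, hy, hz, cx, cy, cz, dx, dy, dz, hsq, hsum, heq⟩ :=
      row_triple H (by norm_num) u3 hk (by simp [ru, rv, rw']) u v w rfl
    have hmem := search_sound hsearch ru rv rw' (x := x) (y := y) (z := z)
      (by simp [triv] at hsum; linarith) hx hy hz cx cy cz H.odd (by push_cast at hsq; exact hsq) dx dy dz
      (by simp [triv, rhs] at heq; exact heq)
    rcases hms m hmem with h | ⟨f, hf, hfm, hsel⟩
    · exact Nat.eq_of_beq_eq_true h
    exfalso
    obtain ⟨K, its, m', fs⟩ := f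
    obtain rfl : m' = m := Nat.eq_of_beq_eq_true hfm
    have hx' := List.all_eq_true.mp excl_all _ hf
    have hp := primes_all _ hf
    have hr2 : ∀ p ∈ its, p.2 < 128 := fun p hp' =>
      Nat.blt_eq.mp (List.all_eq_true.mp (List.all_eq_true.mp res_small _ hf) p hp')
    simp only at hx' hp hsel
    have go : ∀ i, i < 3 → unitRow i (st.map (decode 7)) = true → K = rhs i →
        its.map icode = (rowItems i (st.map (decode 7))).map icode → False := by
      intro i hi hu hK hk'
      match its, hx' with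
      | [a, b, c], hx' =>
        obtain ⟨x, y, z, -, -, hz, cx, cy, cz, dx, dy, -, hsq, hsum, heq⟩ :=
          row_triple H (by omega) hu hk' hr2 a b c rfl
        have ht : triv i = 0 := by interval_cases i <;> rfl
        rw [ht, ← hK] at heq
        rw [ht] at hsum
        exact excl_sound hx' hp (by linarith) hz cx cy cz dx dy hsq (by linear_combination heq)
    rcases hsel with ⟨hK, hk'⟩ | ⟨hK, hk' | hk'⟩
    · exact go 0 (by norm_num) u0 (Nat.eq_of_beq_eq_true hK) hk'
    · exact go 1 (by norm_num) u1 (Nat.eq_of_beq_eq_true hK) hk'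
    · exact go 2 (by norm_num) u2 (Nat.eq_of_beq_eq_true hK) hk'

end Cfsg.Agent.H52.JThree.Arith
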