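import Cfsg.Agent.H52.JThree.Lin
import Cfsg.Agent.H52.JThree.Final

/-!
Finite checks on the model group: special classes, pair counts, identities among the values.
-/

set_option autoImplicit false
set_option maxRecDepth 100000
set_option synthInstance.maxSize 4000

namespace Cfsg.Agent.H52.JThree.Code

/-- The classes on which the characters live. -/
def dCls : List ℕ := [1, 2, 5, 6, 10, 13, 15]

/-- The exponent carrying a special class to `z`. -/
def expD : ℕ → ℕ
  | 1 => 1
  | 2 => 2
  | 5 => 3
  | 6 => 6
  | 10 => 4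
  | _ => 5

/-- Powers of a code. -/
def powN (i : ℕ) : ℕ → ℕ
  | 0 => 0
  | n + 1 => mul (powN i n) i

theorem dcls_lt : ∀ c ∈ dCls, c < 16 := by decide

theorem order_check : ∀ c ∈ dCls, powN (rep c) (2 * expD c) = 0 ∧ powN (rep c) (expD c) = 16 ∧
    0 < expD c ∧ ∀ j < 2 * expD c, 0 < j → powN (rep c) j ≠ 0 := by decide +kernel

theorem val_off : ∀ r < 7, ∀ c < 16, c ∉ dCls → val r c = (0, 0) := by decide +kernel

/-- The principal constituent. -/
def trivV : ℕ → ℤ
  | 3 => 1
  | 6 => 1
  | _ => 0

/-- Sums over the group of values depending on the class. -/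
def csumV (f : ℕ → ℤ × ℤ) : ℤ × ℤ := ((List.range 16).map fun c => (size c : ℤ) • f c).sum

theorem gram_check : ∀ r < 7, ∀ q < 7, q ≤ r →
    csumV (fun c => mulV (val r c) (val q c)) = (1920 * (Config.gram r q + trivV r * trivV q), 0) := by
  decide +kernel

theorem triv_check : ∀ r < 7, csumV (val r) = (1920 * trivV r, 0) := by decide +kernel

/-- Coefficients of the value at the involution. -/
def coA : List ℤ := [-11, -2, -2, -9, 15, 5, 10]
/-- Coefficients of the value at the class of elements of order four. -/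
def coB : List ℤ := [1, 2, 2, 3, 3, 1, -2]
/-- Coefficients of the value at the class of elements of order eight. -/
def coC : List ℤ := [-1, 0, 0, 1, 1, -1, 0]

/-- A combination of values. -/
def combV (co : List ℤ) (c : ℕ) : ℤ × ℤ := ((List.range 7).map fun r => co.getD r 0 • val r c).sum

theorem delta_check : ∀ c < 16,
    (size c : ℤ) • combV coA c = (if c = 1 then (1920, 0) else 0) ∧
    (size c : ℤ) • combV coB c = (if c = 2 then (1920, 0) else 0) ∧
    (size c : ℤ) • combV coC c = (if c = 10 then (1920, 0) else 0) := by decide +kernel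

/-- The involution pairs with a given product. -/
def isPair (i u : ℕ) : Bool :=
  Nat.beq (mul u u) 0 && !Nat.beq u 0 && Nat.beq (mul (mul (inv u) i) (mul (inv u) i)) 0 &&
    !Nat.beq (mul (inv u) i) 0

/-- Their numbers on the representatives. -/
def nPair : ℕ → ℕ
  | 1 => 130
  | 2 => 28
  | 5 => 12
  | 6 => 12
  | 10 => 8
  | 13 => 10
  | 15 => 10
  | _ => 0

theorem pair_check : (dCls.all fun c =>
    Nat.beq ((List.range 1920).filter (isPair (rep c))).length (nPair c)) = true := by decide +kernel

theorem struct_check : ∀ r < 4, csumV (fun c => (nPair c : ℤ) • val r c) = ((Arith.rhs r : ℤ), 0) := by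
  decide +kernel

/-- The Sylow 2-subgroup. -/
def sylL : List ℕ := sylP.flatMap fun p => (List.range 32).map fun n => Nat.add (Nat.mul 32 p) n

theorem syl_basic : sylL.Nodup ∧ sylL.length = 128 ∧ (0 : ℕ) ∈ sylL ∧ ∀ i ∈ sylL, i < 1920 := by
  decide +kernel

theorem syl_mul : (sylL.all fun a => sylL.all fun b => sylL.any (Nat.beq (mul a b))) = true := by
  decide +kernel

/-- Up to `G`-conjugacy the classes meeting the Sylow subgroup. -/
def kind : ℕ → ℕ
  | 0 => 0
  | 1 => 1
  | 3 => 1
  | 9 => 1
  | 2 => 2
  | 11 => 2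
  | 10 => 3
  | _ => 4

theorem kind_count : (List.range 5).map (fun k => (sylL.filter fun i => Nat.beq (kind (cls i)) k).length) =
    [1, 35, 44, 48, 0] := by decide +kernel

/-- Facts on single elements used for fusion. -/
def elemOK (i : ℕ) : Bool :=
  (!Nat.beq (cls i) 0 || Nat.beq i 0) &&
  (!(Nat.beq (cls i) 1 || Nat.beq (cls i) 3 || Nat.beq (cls i) 9) || (Nat.beq (mul i i) 0 && !Nat.beq i 0)) &&
  (!Nat.beq (cls i) 11 || (!Nat.beq (mul i i) 0 && Nat.beq (mul (mul i i) (mul i i)) 0)) &&
  (!Nat.beq (mul i i) 16 || Nat.beq (cls i) 2)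

theorem elem_check : (List.range 1920).all elemOK = true := by decide +kernel

theorem rep_z : rep 1 = 16 := by decide +kernel

end Cfsg.Agent.H52.JThree.Code
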