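import Mathlib

/-!
Sums of the linear characters over the classes, and generators of the model group.
-/

set_option autoImplicit false

namespace Cfsg.Agent.H52.JThree.Code

/-- Coefficient vectors. -/
abbrev V8 : Type := ℤ × ℤ × ℤ × ℤ × ℤ × ℤ × ℤ × ℤ

/-- Sums over the classes. -/
def sumTab : List (List V8) :=
  [[(1, 0, 0, 0, 0, 0, 0, 0),
    (1, 0, 0, 0, 0, 0, 0, 0),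
    (20, 0, 0, 0, 0, 0, 0, 0),
    (10, 0, 0, 0, 0, 0, 0, 0),
    (32, 0, 0, 0, 0, 0, 0, 0),
    (32, 0, 0, 0, 0, 0, 0, 0),
    (64, 0, 0, 0, 0, 0, 0, 0),
    (64, 0, 0, 0, 0, 0, 0, 0),
    (64, 0, 0, 0, 0, 0, 0, 0),
    (24, 0, 0, 0, 0, 0, 0, 0),
    (48, 0, 0, 0, 0, 0, 0, 0),
    (24, 0, 0, 0, 0, 0, 0, 0),
    (0, 0, 0, 0, 0, 0, 0, 0),
    (0, 0, 0, 0, 0, 0, 0, 0),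
    (0, 0, 0, 0, 0, 0, 0, 0),
    (0, 0, 0, 0, 0, 0, 0, 0)],
   [(1, 0, 0, 0, 0, 0, 0, 0),
    (1, 0, 0, 0, 0, 0, 0, 0),
    (4, 0, 0, 0, 0, 0, 0, 0),
    (-6, 0, 0, 0, 0, 0, 0, 0),
    (32, 0, 0, 0, 0, 0, 0, 0),
    (32, 0, 0, 0, 0, 0, 0, 0),
    (-64, 0, 0, 0, 0, 0, 0, 0),
    (0, 0, 0, 0, 0, 0, 0, 0),
    (0, 0, 0, 0, 0, 0, 0, 0),
    (24, 0, 0, 0, 0, 0, 0, 0),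
    (-48, 0, 0, 0, 0, 0, 0, 0),
    (24, 0, 0, 0, 0, 0, 0, 0),
    (0, 0, 0, 0, 0, 0, 0, 0),
    (0, 0, 0, 0, 0, 0, 0, 0),
    (0, 0, 0, 0, 0, 0, 0, 0),
    (0, 0, 0, 0, 0, 0, 0, 0)],
   [(1, 0, 0, 0, 0, 0, 0, 0),
    (1, 0, 0, 0, 0, 0, 0, 0),
    (4, 0, 0, 0, 0, 0, 0, 0),
    (-6, 0, 0, 0, 0, 0, 0, 0),
    (-16, 0, 0, 0, 0, 0, 0, 0),
    (-16, 0, 0, 0, 0, 0, 0, 0),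
    (32, 0, 0, 0, 0, 0, 0, 0),
    (-32, 0, 0, 0, -64, 0, 0, 0),
    (32, 0, 0, 0, 64, 0, 0, 0),
    (24, 0, 0, 0, 0, 0, 0, 0),
    (-48, 0, 0, 0, 0, 0, 0, 0),
    (24, 0, 0, 0, 0, 0, 0, 0),
    (0, 0, 0, 0, 0, 0, 0, 0),
    (0, 0, 0, 0, 0, 0, 0, 0),
    (0, 0, 0, 0, 0, 0, 0, 0),
    (0, 0, 0, 0, 0, 0, 0, 0)],
   [(1, 0, 0, 0, 0, 0, 0, 0),
    (1, 0, 0, 0, 0, 0, 0, 0),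
    (20, 0, 0, 0, 0, 0, 0, 0),
    (10, 0, 0, 0, 0, 0, 0, 0),
    (-16, 0, 0, 0, 0, 0, 0, 0),
    (-16, 0, 0, 0, 0, 0, 0, 0),
    (-32, 0, 0, 0, 0, 0, 0, 0),
    (-32, 0, 0, 0, 0, 0, 0, 0),
    (-32, 0, 0, 0, 0, 0, 0, 0),
    (24, 0, 0, 0, 0, 0, 0, 0),
    (48, 0, 0, 0, 0, 0, 0, 0),
    (24, 0, 0, 0, 0, 0, 0, 0),
    (0, 0, 0, 0, 0, 0, 0, 0),
    (0, 0, 0, 0, 0, 0, 0, 0),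
    (0, 0, 0, 0, 0, 0, 0, 0),
    (0, 0, 0, 0, 0, 0, 0, 0)],
   [(1, 0, 0, 0, 0, 0, 0, 0),
    (1, 0, 0, 0, 0, 0, 0, 0),
    (4, 0, 0, 0, 0, 0, 0, 0),
    (-6, 0, 0, 0, 0, 0, 0, 0),
    (-16, 0, 0, 0, 0, 0, 0, 0),
    (-16, 0, 0, 0, 0, 0, 0, 0),
    (32, 0, 0, 0, 0, 0, 0, 0),
    (32, 0, 0, 0, 64, 0, 0, 0),
    (-32, 0, 0, 0, -64, 0, 0, 0),
    (24, 0, 0, 0, 0, 0, 0, 0),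
    (-48, 0, 0, 0, 0, 0, 0, 0),
    (24, 0, 0, 0, 0, 0, 0, 0),
    (0, 0, 0, 0, 0, 0, 0, 0),
    (0, 0, 0, 0, 0, 0, 0, 0),
    (0, 0, 0, 0, 0, 0, 0, 0),
    (0, 0, 0, 0, 0, 0, 0, 0)],
   [(1, 0, 0, 0, 0, 0, 0, 0),
    (1, 0, 0, 0, 0, 0, 0, 0),
    (20, 0, 0, 0, 0, 0, 0, 0),
    (10, 0, 0, 0, 0, 0, 0, 0),
    (0, 0, 0, 0, 0, 0, 0, 0),
    (0, 0, 0, 0, 0, 0, 0, 0),
    (0, 0, 0, 0, 0, 0, 0, 0),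
    (0, 0, 0, 0, 0, 0, 0, 0),
    (0, 0, 0, 0, 0, 0, 0, 0),
    (40, 0, 0, 0, 0, 0, 0, 0),
    (80, 0, 0, 0, 0, 0, 0, 0),
    (40, 0, 0, 0, 0, 0, 0, 0),
    (32, 0, 0, 0, 0, 0, 0, 0),
    (32, 0, 0, 0, 0, 0, 0, 0),
    (32, 0, 0, 0, 0, 0, 0, 0),
    (32, 0, 0, 0, 0, 0, 0, 0)],
   [(1, 0, 0, 0, 0, 0, 0, 0),
    (1, 0, 0, 0, 0, 0, 0, 0),
    (20, 0, 0, 0, 0, 0, 0, 0),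
    (10, 0, 0, 0, 0, 0, 0, 0),
    (0, 0, 0, 0, 0, 0, 0, 0),
    (0, 0, 0, 0, 0, 0, 0, 0),
    (0, 0, 0, 0, 0, 0, 0, 0),
    (0, 0, 0, 0, 0, 0, 0, 0),
    (0, 0, 0, 0, 0, 0, 0, 0),
    (-40, 0, 0, 0, 0, 0, 0, 0),
    (-80, 0, 0, 0, 0, 0, 0, 0),
    (-40, 0, 0, 0, 0, 0, 0, 0),
    (32, 0, 0, 0, 0, 0, 0, 0),
    (32, 0, 0, 0, 0, 0, 0, 0),
    (32, 0, 0, 0, 0, 0, 0, 0),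
    (32, 0, 0, 0, 0, 0, 0, 0)],
   [(1, 0, 0, 0, 0, 0, 0, 0),
    (1, 0, 0, 0, 0, 0, 0, 0),
    (-4, 0, 0, 0, 0, 0, 0, 0),
    (2, 0, 0, 0, 0, 0, 0, 0),
    (8, 0, 0, 0, 0, 0, 0, 0),
    (8, 0, 0, 0, 0, 0, 0, 0),
    (16, 0, 0, 0, 0, 0, 0, 0),
    (-16, 0, 0, 0, 0, 0, 0, 0),
    (-16, 0, 0, 0, 0, 0, 0, 0),
    (-24, 0, 0, 0, 0, 0, 0, 0),
    (0, 0, 0, 0, 0, 0, 0, 0),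
    (24, 0, 0, 0, 0, 0, 0, 0),
    (0, 0, 0, 0, 0, 0, 0, 0),
    (0, 0, 0, 0, 0, 0, 0, 0),
    (0, 0, 0, 0, 0, 0, 0, 0),
    (0, 0, 0, 0, 0, 0, 0, 0)],
   [(1, 0, 0, 0, 0, 0, 0, 0),
    (1, 0, 0, 0, 0, 0, 0, 0),
    (-4, 0, 0, 0, 0, 0, 0, 0),
    (2, 0, 0, 0, 0, 0, 0, 0),
    (8, 0, 0, 0, 0, 0, 0, 0),
    (8, 0, 0, 0, 0, 0, 0, 0),
    (16, 0, 0, 0, 0, 0, 0, 0),
    (-16, 0, 0, 0, 0, 0, 0, 0),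
    (-16, 0, 0, 0, 0, 0, 0, 0),
    (24, 0, 0, 0, 0, 0, 0, 0),
    (0, 0, 0, 0, 0, 0, 0, 0),
    (-24, 0, 0, 0, 0, 0, 0, 0),
    (0, 0, 0, 0, 0, 0, 0, 0),
    (0, 0, 0, 0, 0, 0, 0, 0),
    (0, 0, 0, 0, 0, 0, 0, 0),
    (0, 0, 0, 0, 0, 0, 0, 0)],
   [(1, 0, 0, 0, 0, 0, 0, 0),
    (1, 0, 0, 0, 0, 0, 0, 0),
    (20, 0, 0, 0, 0, 0, 0, 0),
    (10, 0, 0, 0, 0, 0, 0, 0),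
    (0, 0, 0, 0, 0, 0, 0, 0),
    (0, 0, 0, 0, 0, 0, 0, 0),
    (0, 0, 0, 0, 0, 0, 0, 0),
    (0, 0, 0, 0, 0, 0, 0, 0),
    (0, 0, 0, 0, 0, 0, 0, 0),
    (0, 0, 0, 0, 0, 0, 0, 0),
    (0, 0, 0, 0, 0, 0, 0, 0),
    (0, 0, 0, 0, 0, 0, 0, 0),
    (0, 0, 16, 16, 0, 0, 0, 0),
    (0, 0, 16, 16, 0, 0, 0, 0),
    (-16, 0, -16, -16, 0, 0, 0, 0),
    (-16, 0, -16, -16, 0, 0, 0, 0)],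
   [(1, 0, 0, 0, 0, 0, 0, 0),
    (-1, 0, 0, 0, 0, 0, 0, 0),
    (0, 0, 0, 0, 0, 0, 0, 0),
    (0, 0, 0, 0, 0, 0, 0, 0),
    (20, 0, 0, 0, 0, 0, 0, 0),
    (-20, 0, 0, 0, 0, 0, 0, 0),
    (0, 0, 0, 0, 0, 0, 0, 0),
    (0, 0, 0, 0, 0, 0, 0, 0),
    (0, 0, 0, 0, 0, 0, 0, 0),
    (0, 0, 0, 0, 0, 0, 0, 0),
    (0, 0, 0, 0, 0, 0, 0, 0),
    (0, 0, 0, 0, 0, 0, 0, 0),
    (12, 0, 0, 0, 0, 0, 0, 0),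
    (-12, 0, 0, 0, 0, 0, 0, 0),
    (12, 0, 0, 0, 0, 0, 0, 0),
    (-12, 0, 0, 0, 0, 0, 0, 0)],
   [(1, 0, 0, 0, 0, 0, 0, 0),
    (1, 0, 0, 0, 0, 0, 0, 0),
    (4, 0, 0, 0, 0, 0, 0, 0),
    (-6, 0, 0, 0, 0, 0, 0, 0),
    (-4, 0, 0, 0, 0, 0, 0, 0),
    (-4, 0, 0, 0, 0, 0, 0, 0),
    (8, 0, 0, 0, 0, 0, 0, 0),
    (-8, 0, 0, 0, -16, 0, 0, 0),
    (8, 0, 0, 0, 16, 0, 0, 0),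
    (0, 0, 0, 0, 0, 0, 0, 0),
    (0, 0, 0, 0, 0, 0, 0, 0),
    (0, 0, 0, 0, 0, 0, 0, 0),
    (0, 0, 0, 0, 0, 0, 0, 0),
    (0, 0, 0, 0, 0, 0, 0, 0),
    (0, 0, 0, 0, 0, 0, 0, 0),
    (0, 0, 0, 0, 0, 0, 0, 0)],
   [(1, 0, 0, 0, 0, 0, 0, 0),
    (1, 0, 0, 0, 0, 0, 0, 0),
    (-4, 0, 0, 0, 0, 0, 0, 0),
    (2, 0, 0, 0, 0, 0, 0, 0),
    (-4, 0, 0, 0, 0, 0, 0, 0),
    (-4, 0, 0, 0, 0, 0, 0, 0),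
    (-8, 0, 0, 0, 0, 0, 0, 0),
    (8, 0, 0, 0, 0, 0, 0, 0),
    (8, 0, 0, 0, 0, 0, 0, 0),
    (0, 0, 0, 0, 0, 0, 0, 0),
    (0, 0, 0, 0, 0, 0, 0, 0),
    (0, 0, 0, 0, 0, 0, 0, 0),
    (0, 0, 0, 0, 0, 0, 0, 0),
    (0, 0, 0, 0, 0, 0, 0, 0),
    (0, 0, 0, 0, 0, 0, 0, 0),
    (0, 0, 0, 0, 0, 0, 0, 0)],
   [(1, 0, 0, 0, 0, 0, 0, 0),
    (-1, 0, 0, 0, 0, 0, 0, 0),
    (0, 0, 0, 0, 0, 0, 0, 0),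
    (0, 0, 0, 0, 0, 0, 0, 0),
    (8, 0, 0, 0, 0, 0, 0, 0),
    (-8, 0, 0, 0, 0, 0, 0, 0),
    (0, 0, 0, 0, 0, 0, 0, 0),
    (0, 0, 0, 0, 0, 0, 0, 0),
    (0, 0, 0, 0, 0, 0, 0, 0),
    (0, 0, 0, 0, 0, 0, 0, 0),
    (0, 0, 0, 0, 0, 0, 0, 0),
    (0, 0, 0, 0, 0, 0, 0, 0),
    (0, 0, 0, 0, 0, 0, 0, 0),
    (0, 0, 0, 0, 0, 0, 0, 0),
    (0, 0, 0, 0, 0, 0, 0, 0),
    (0, 0, 0, 0, 0, 0, 0, 0)],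
   [(1, 0, 0, 0, 0, 0, 0, 0),
    (-1, 0, 0, 0, 0, 0, 0, 0),
    (0, 0, 0, 0, 0, 0, 0, 0),
    (0, 0, 0, 0, 0, 0, 0, 0),
    (-4, 0, 0, 0, 0, 0, 0, 0),
    (4, 0, 0, 0, 0, 0, 0, 0),
    (0, 0, 0, 0, 0, 0, 0, 0),
    (0, 0, 0, 0, 0, 0, 0, 0),
    (0, 0, 0, 0, 0, 0, 0, 0),
    (0, 0, 0, 0, 0, 0, 0, 0),
    (0, 0, 0, 0, 0, 0, 0, 0),
    (0, 0, 0, 0, 0, 0, 0, 0),
    (0, 0, 0, 0, 0, 0, 0, 0),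
    (0, 0, 0, 0, 0, 0, 0, 0),
    (0, 0, 0, 0, 0, 0, 0, 0),
    (0, 0, 0, 0, 0, 0, 0, 0)],
   [(1, 0, 0, 0, 0, 0, 0, 0),
    (-1, 0, 0, 0, 0, 0, 0, 0),
    (0, 0, 0, 0, 0, 0, 0, 0),
    (0, 0, 0, 0, 0, 0, 0, 0),
    (0, 0, 0, 0, 0, 0, 0, 0),
    (0, 0, 0, 0, 0, 0, 0, 0),
    (0, 0, 0, 0, 0, 0, 0, 0),
    (0, 0, 0, 0, 0, 0, 0, 0),
    (0, 0, 0, 0, 0, 0, 0, 0),
    (0, 0, 0, 0, 0, 0, 0, 0),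
    (0, 0, 0, 0, 0, 0, 0, 0),
    (0, 0, 0, 0, 0, 0, 0, 0),
    (-1, 0, -1, -1, 0, 0, 0, 0),
    (1, 0, 1, 1, 0, 0, 0, 0),
    (0, 0, 1, 1, 0, 0, 0, 0),
    (0, 0, -1, -1, 0, 0, 0, 0)]]

/-- Generators of the permutation part. -/
def permGens : List (ℕ × ℕ) := [(32, 0), (480, 0)]

/-- Their tree. -/
def permTree : List (ℕ × ℕ × ℕ) :=
  [(32, 0, 0), (480, 0, 1), (64, 32, 0), (608, 32, 1), (512, 480, 0), (864, 480, 1), (736, 64, 1), (640, 608, 0),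
   (1376, 608, 1), (544, 512, 0), (992, 512, 1), (896, 864, 0), (672, 736, 0), (1888, 736, 1), (576, 640, 0), (1504, 640, 1),
   (1408, 1376, 0), (1120, 544, 1), (1024, 992, 0), (1152, 992, 1), (928, 896, 0), (192, 896, 1), (704, 672, 0), (1632, 672, 1),
   (1824, 1888, 0), (1248, 576, 1), (1440, 1504, 0), (1568, 1504, 1), (1344, 1408, 0), (320, 1408, 1), (1056, 1120, 0), (1536, 1120, 1),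
   (960, 1024, 0), (1216, 1152, 0), (288, 928, 1), (256, 192, 0), (1280, 192, 1), (1760, 704, 1), (1664, 1632, 0), (832, 1632, 1),
   (1856, 1824, 0), (160, 1824, 1), (800, 1248, 1), (1472, 1440, 0), (128, 1344, 1), (1792, 320, 1), (1088, 1056, 0), (1600, 1536, 0),
   (1184, 1216, 0), (352, 288, 0), (1696, 288, 1), (224, 256, 0), (1312, 1280, 0), (768, 800, 0), (96, 128, 0), (1728, 1792, 0),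
   (448, 1600, 1), (416, 1184, 1), (384, 768, 1)]

end Cfsg.Agent.H52.JThree.Code
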