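import Cfsg.Agent.H52.JThree.Code
import Cfsg.Agent.H52.JThree.CountTables

/-!
Classes of the numbered model inside a group carrying it as an involution centraliser.
-/

set_option autoImplicit false
set_option linter.style.haveILetI false
set_option linter.unusedSectionVars false
set_option maxRecDepth 100000

namespace Cfsg.Agent.H52.JThree

open Code

/-- An involution centraliser coordinatised by the model. -/
structure Frame (G : Type*) [Group G] where
  z : G
  φ : ℕ → G
  hz : orderOf z = 2
  map_mul : ∀ {i j : ℕ}, i < 1920 → j < 1920 → φ (Code.mul i j) = φ i * φ j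
  inj : ∀ {i j : ℕ}, i < 1920 → j < 1920 → φ i = φ j → i = j
  map_z : φ 16 = z
  mem : ∀ c : G, c * z = z * c ↔ ∃ i < 1920, φ i = c
  hone : ∀ x y : G, orderOf x = 2 → orderOf y = 2 → IsConj x y

namespace Code

/-- Membership in a bit set. -/
def hasBit (S i : ℕ) : Bool := Nat.beq (Nat.mod (Nat.shiftRight S i) 2) 1

/-- Growing a set along a tree. -/
def grow (gens : List (ℕ × ℕ)) : List (ℕ × ℕ × ℕ) → ℕ → Option ℕ
  | [], acc => some acc
  | (y, x, g) :: t, acc =>
    cond (hasBit acc x && Nat.blt x 1920 && Nat.blt g gens.length &&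
        Nat.beq (mul x (gens.getD g (0, 0)).1) y)
      (grow gens t (Nat.lor acc (Nat.shiftLeft 1 y))) none

theorem grow_spec {gens : List (ℕ × ℕ)} (P : ℕ → Prop)
    (hP : ∀ x, x < 1920 → P x → ∀ g ∈ gens, P (mul x g.1)) : ∀ {t : List (ℕ × ℕ × ℕ)} {acc S : ℕ},
    (∀ i, hasBit acc i = true → P i) → grow gens t acc = some S → ∀ i, hasBit S i = true → P i := by
  intro t
  induction t with
  | nil => intro acc S h e; rw [grow, Option.some.injEq] at e; exact e ▸ h
  | cons q t ih =>
    obtain ⟨y, x, g⟩ := q
    intro acc S h e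
    rw [grow] at e
    cases hb : (hasBit acc x && Nat.blt x 1920 && Nat.blt g gens.length &&
        Nat.beq (mul x (gens.getD g (0, 0)).1) y)
    · rw [hb] at e; simp at e
    rw [hb, cond_true] at e
    simp only [Bool.and_eq_true, Nat.blt_eq] at hb
    obtain ⟨⟨⟨h1, h2⟩, h3⟩, h4⟩ := hb
    refine ih (fun i hi => ?_) e
    have hlor : hasBit acc i = true ∨ i = y := by
      have key : ∀ S i, hasBit S i = true ↔ S.testBit i = true := fun S i => by
        rw [hasBit, Nat.testBit_eq_decide_div_mod_eq, decide_eq_true_iff]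
        exact ⟨fun h => by rw [← Nat.shiftRight_eq_div_pow]; exact Nat.eq_of_beq_eq_true h,
          fun h => by rw [← Nat.shiftRight_eq_div_pow] at h; exact h ▸ Nat.beq_refl _⟩
      rw [key] at hi ⊢
      have hi' : (acc ||| 1 <<< y).testBit i = true := hi
      rw [Nat.testBit_lor, Bool.or_eq_true] at hi'
      rcases hi' with r | r
      · exact Or.inl r
      · refine Or.inr ?_
        rw [Nat.shiftLeft_eq, one_mul, Nat.testBit_two_pow, decide_eq_true_iff] at r
        exact r.symm
    rcases hlor with r | r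
    · exact h i r
    · have hmem : gens.getD g (0, 0) ∈ gens := by
        rw [List.getD_eq_getElem _ _ h3]; exact List.getElem_mem h3
      rw [r, ← Nat.eq_of_beq_eq_true h4]
      exact hP x h2 (h x h1) _ hmem

theorem hasBit_one {i : ℕ} (h : hasBit 1 i = true) : i = 0 := by
  by_contra hi
  have h1 : (1 : ℕ) >>> i = 0 := by
    rw [Nat.shiftRight_eq_div_pow]
    exact Nat.div_eq_of_lt (Nat.one_lt_two_pow hi)
  rw [hasBit] at h
  rw [show Nat.shiftRight 1 i = 0 from h1] at h
  exact absurd h (by decide)

/-- Invariance of the class table under one conjugation. -/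
def clsInv (g : ℕ) : Bool :=
  (List.range 1920).all fun i => Nat.beq (cls (mul (mul g i) (inv g))) (cls i)

theorem inv_check : ((List.range 1920).all fun i =>
    Nat.blt (inv i) 1920 && Nat.beq (mul i (inv i)) 0) = true := by decide +kernel

theorem wit_check : ((List.range 1920).all fun i =>
    Nat.blt (cls i) 16 && Nat.blt (wit i) 1920 &&
      Nat.beq (mul (wit i) (rep (cls i))) (mul i (wit i))) = true := by decide +kernel

theorem rep_check : ∀ c < 16, rep c < 1920 ∧ cls (rep c) = c := by decide +kernel

theorem gens_inv : ([1, 2, 4, 8, 16].all clsInv && permGens.all fun g => clsInv g.1) = true := by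
  decide +kernel

theorem decomp_n : ∀ n < 32, mul (n / 16 * 16) (mul (n / 8 % 2 * 8) (mul (n / 4 % 2 * 4)
    (mul (n / 2 % 2 * 2) (n % 2)))) = n := by decide +kernel

theorem decomp : ((List.range 1920).all fun i =>
    Nat.beq (mul (Nat.mod i 32) (Nat.mul 32 (Nat.div i 32))) i) = true := by decide +kernel

theorem perm_tree : (match grow permGens permTree 1 with
    | some S => (List.range 60).all fun p => hasBit S (32 * p)
    | none => false) = true := by decide +kernel

theorem permGens_lt : ∀ g ∈ permGens, g.1 < 1920 := by decide +kernel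

/-- The class sizes. -/
def size (c : ℕ) : ℕ := sizeTab.getD c 0

theorem size_check : ((List.range 16).all fun c =>
    Nat.beq (((List.range 1920).filter fun i => Nat.beq (cls i) c).length) (size c)) = true := by
  decide +kernel

theorem card_class {c : ℕ} (hc : c < 16) : ((Finset.range 1920).filter fun i => cls i = c).card = size c := by
  have h := Nat.eq_of_beq_eq_true (List.all_eq_true.mp size_check c (List.mem_range.mpr hc))
  rw [← h]
  rw [Finset.card_def, Finset.filter_val, Finset.range_val, Multiset.range, Multiset.filter_coe,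
    Multiset.coe_card]
  congr 1
  refine List.filter_congr fun i _ => ?_
  rw [Bool.eq_iff_iff, decide_eq_true_iff]
  exact ⟨fun e => e ▸ Nat.beq_refl _, Nat.eq_of_beq_eq_true⟩

theorem cls_lt {i : ℕ} (hi : i < 1920) : cls i < 16 := by
  have h := List.all_eq_true.mp wit_check i (List.mem_range.mpr hi)
  simp only [Bool.and_eq_true, Nat.blt_eq] at h
  exact h.1.1

theorem inv_lt {i : ℕ} (hi : i < 1920) : inv i < 1920 := by
  have h := List.all_eq_true.mp inv_check i (List.mem_range.mpr hi)
  simp only [Bool.and_eq_true, Nat.blt_eq] at h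
  exact h.1

end Code

namespace Frame

variable {G : Type*} [Group G] (F : Frame G)

theorem map_zero : F.φ 0 = 1 := by
  have h := F.map_mul (i := 0) (j := 0) (by norm_num) (by norm_num)
  rw [show Code.mul 0 0 = 0 from by decide +kernel] at h
  exact mul_eq_left.mp h.symm

theorem map_inv {i : ℕ} (hi : i < 1920) : F.φ (Code.inv i) = (F.φ i)⁻¹ := by
  have h := List.all_eq_true.mp inv_check i (List.mem_range.mpr hi)
  simp only [Bool.and_eq_true, Nat.blt_eq] at h
  refine eq_inv_of_mul_eq_one_right ?_
  rw [← F.map_mul hi h.1, Nat.eq_of_beq_eq_true h.2, F.map_zero]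

theorem comm_z {i : ℕ} (hi : i < 1920) : F.φ i * F.z = F.z * F.φ i := (F.mem _).mpr ⟨i, hi, rfl⟩

/-- The code of an element of the centraliser. -/
noncomputable def code (c : G) : ℕ :=
  open Classical in if h : ∃ i < 1920, F.φ i = c then h.choose else 0

theorem code_lt (c : G) : F.code c < 1920 := by
  classical
  rw [code]
  split_ifs with h
  · exact h.choose_spec.1
  · norm_num

theorem φ_code {c : G} (hc : c * F.z = F.z * c) : F.φ (F.code c) = c := by
  classical
  rw [code, dif_pos ((F.mem c).mp hc)]
  exact ((F.mem c).mp hc).choose_spec.2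

theorem code_φ {i : ℕ} (hi : i < 1920) : F.code (F.φ i) = i :=
  F.inj (F.code_lt _) hi (F.φ_code (F.comm_z hi))

theorem conj_code {g i : ℕ} (hg : g < 1920) (hi : i < 1920) :
    F.φ (Code.mul (Code.mul g i) (Code.inv g)) = F.φ g * F.φ i * (F.φ g)⁻¹ := by
  rw [F.map_mul (Code.mul_lt hg hi) (inv_lt hg), F.map_mul hg hi, F.map_inv hg]

theorem cls_conj_code (F : Frame G) {g i : ℕ} (hg : g < 1920) (hi : i < 1920) :
    cls (Code.mul (Code.mul g i) (Code.inv g)) = cls i := by
  let P : ℕ → Prop := fun g => g < 1920 ∧ ∀ i < 1920, cls (Code.mul (Code.mul g i) (Code.inv g)) = cls i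
  have hmul : ∀ a b, P a → P b → P (Code.mul a b) := by
    rintro a b ⟨ha, Pa⟩ ⟨hb, Pb⟩
    refine ⟨Code.mul_lt ha hb, fun i hi => ?_⟩
    have hm := Code.mul_lt (Code.mul_lt hb hi) (inv_lt hb)
    rw [show Code.mul (Code.mul (Code.mul a b) i) (Code.inv (Code.mul a b)) =
        Code.mul (Code.mul a (Code.mul (Code.mul b i) (Code.inv b))) (Code.inv a) from
      F.inj (Code.mul_lt (Code.mul_lt (Code.mul_lt ha hb) hi) (inv_lt (Code.mul_lt ha hb)))
        (Code.mul_lt (Code.mul_lt ha hm) (inv_lt ha))
        (by rw [F.conj_code (Code.mul_lt ha hb) hi, F.conj_code ha hm, F.conj_code hb hi, F.map_mul ha hb]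
            group), Pa _ hm, Pb i hi]
  have hgen := gens_inv
  simp only [Bool.and_eq_true, List.all_eq_true] at hgen
  have hP : ∀ g, g < 1920 → clsInv g = true → P g := fun g hg h => ⟨hg, fun i hi => by
    have := List.all_eq_true.mp h i (List.mem_range.mpr hi)
    exact Nat.eq_of_beq_eq_true this⟩
  have h0 : P 0 := ⟨by norm_num, fun i hi => congrArg cls (F.inj
    (Code.mul_lt (Code.mul_lt (by norm_num) hi) (inv_lt (by norm_num))) hi (by
      rw [F.conj_code (by norm_num) hi, F.map_zero]; group))⟩
  have hb : ∀ v k, (k = 0 ∨ k = 1) → v ∈ [1, 2, 4, 8, 16] → P (k * v) := by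
    intro v k hk hv
    rcases hk with rfl | rfl
    · rw [zero_mul]; exact h0
    · rw [one_mul]
      exact hP v (by fin_cases hv <;> norm_num) (hgen.1 v hv)
  have hn : ∀ n < 32, P n := fun n hn => by
    rw [← decomp_n n hn]
    refine hmul _ _ (hb 16 _ (by omega) (by simp)) (hmul _ _ (hb 8 _ (by omega) (by simp))
      (hmul _ _ (hb 4 _ (by omega) (by simp)) (hmul _ _ (hb 2 _ (by omega) (by simp)) ?_)))
    have := hb 1 (n % 2) (by omega) (by simp)
    rwa [mul_one] at this
  have hp : ∀ p < 60, P (32 * p) := by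
    have ht := perm_tree
    cases hgr : grow permGens permTree 1 with
    | none => rw [hgr] at ht; simp at ht
    | some S =>
      rw [hgr] at ht
      intro p hp
      refine grow_spec P (fun x hx hxP q hq => hmul x q.1 hxP (hP _ (permGens_lt q hq) (hgen.2 q hq)))
        (fun i hi => by rw [hasBit_one hi]; exact h0) hgr _ ?_
      exact List.all_eq_true.mp ht p (List.mem_range.mpr hp)
  have hd := Nat.eq_of_beq_eq_true (List.all_eq_true.mp decomp g (List.mem_range.mpr hg))
  have := hmul _ _ (hn (g % 32) (by omega)) (hp (g / 32) (by omega))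
  rw [show Code.mul (g % 32) (32 * (g / 32)) = g from hd] at this
  exact this.2 i hi

/-- The class of an element of the centraliser. -/
noncomputable def classOf (c : G) : ℕ := cls (F.code c)

theorem classOf_conj {g c : G} (hg : g * F.z = F.z * g) (hc : c * F.z = F.z * c) :
    F.classOf (g * c * g⁻¹) = F.classOf c := by
  have hi := F.code_lt c
  have hj := F.code_lt g
  have e : g * c * g⁻¹ = F.φ (Code.mul (Code.mul (F.code g) (F.code c)) (Code.inv (F.code g))) := by
    rw [F.conj_code hj hi, F.φ_code hg, F.φ_code hc]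
  rw [classOf, e, F.code_φ (Code.mul_lt (Code.mul_lt hj hi) (inv_lt hj)), F.cls_conj_code hj hi]; rfl

theorem exists_conj_rep {i : ℕ} (hi : i < 1920) :
    ∃ y : G, y * F.z = F.z * y ∧ y * F.φ (rep (cls i)) * y⁻¹ = F.φ i := by
  have h := List.all_eq_true.mp wit_check i (List.mem_range.mpr hi)
  simp only [Bool.and_eq_true, Nat.blt_eq] at h
  obtain ⟨⟨h1, h2⟩, h3⟩ := h
  refine ⟨F.φ (wit i), F.comm_z h2, ?_⟩
  rw [mul_inv_eq_iff_eq_mul, ← F.map_mul h2 (rep_check _ h1).1, Nat.eq_of_beq_eq_true h3, F.map_mul hi h2]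

theorem sum_cls {M : Type*} [AddCommMonoid M] (f : ℕ → M) :
    ∑ i ∈ Finset.range 1920, f (cls i) = ∑ c ∈ Finset.range 16, size c • f c := by
  rw [← Finset.sum_fiberwise_of_maps_to (g := cls) (t := Finset.range 16)
    fun i hi => Finset.mem_range.mpr (cls_lt (Finset.mem_range.mp hi))]
  refine Finset.sum_congr rfl fun c hc => ?_
  rw [Finset.sum_congr rfl (g := fun _ => f c) (fun i hi => by rw [(Finset.mem_filter.mp hi).2]),
    Finset.sum_const, card_class (Finset.mem_range.mp hc)]

end Frame

end Cfsg.Agent.H52.JThree
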