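import Mathlib

/-!
Enumeration of the possible decompositions of the exceptional characters with given inner products.
-/

set_option autoImplicit false

namespace Cfsg.Agent.H52.JThree.Config

/-- Entries are stored as naturals with offset `2`. -/
def dec (e : ℕ) : ℤ := (e : ℤ) - 2

/-- The square of an entry. -/
def sq5 : ℕ → ℕ
  | 0 => 4
  | 1 => 1
  | 2 => 0
  | 3 => 1
  | _ => 4

/-- `4 - a c` for entries `a`, `c`. -/
def negProd (a c : ℕ) : ℕ := Nat.sub (Nat.add (Nat.mul 2 a) (Nat.mul 2 c)) (Nat.mul a c)

/-- Suffix capacities. -/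
def caps (r : ℕ) : List (List ℕ) → List ℕ
  | [] => List.replicate r 0
  | c :: cs => List.zipWith (fun e s => Nat.add (sq5 e) s) c (caps r cs)

/-- Attach the capacities. -/
def withCaps (r : ℕ) : List (List ℕ) → List (List ℕ × List ℕ)
  | [] => []
  | c :: cs => (c, caps r (c :: cs)) :: withCaps r cs

/-- The Cauchy–Schwarz condition. -/
def capOK (rem : ℕ) : List ℕ → List ℕ → Bool
  | n :: ns, s :: ss =>
    let d := Nat.add (Nat.sub n 1000) (Nat.sub 1000 n)
    and (Nat.ble (Nat.mul d d) (Nat.mul rem s)) (capOK rem ns ss)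
  | _, _ => true

/-- Update of the remaining inner products. -/
def upd (a : ℕ) : List ℕ → List ℕ → List ℕ
  | n :: ns, c :: cs => Nat.sub (Nat.add n (negProd a c)) 4 :: upd a ns cs
  | _, _ => []

/-- All possible new rows on the old columns. -/
def ext : List (List ℕ × List ℕ) → ℕ → List ℕ → List (List ℕ × ℕ)
  | [], rem, needs => cond (needs.all fun n => Nat.beq n 1000) [([], rem)] []
  | (c, s) :: cs, rem, needs =>
    cond (capOK rem needs s)
      ([2, 3, 1, 4, 0].flatMap fun a =>
        cond (Nat.ble (sq5 a) rem)
          ((ext cs (Nat.sub rem (sq5 a)) (cond (Nat.beq a 2) needs (upd a needs c))).map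
            fun p => (a :: p.1, p.2)) [])
      []

/-- The entries in the private constituents. -/
def freshOpts (rem : ℕ) : List (List ℕ) :=
  List.replicate rem 3 :: cond (Nat.ble 4 rem) [4 :: List.replicate (Nat.sub rem 4) 3] []

/-- Normalisation of the sign. -/
def flipNorm : List ℕ → List ℕ
  | [] => []
  | e :: es =>
    cond (Nat.beq e 2) (e :: flipNorm es)
      (cond (Nat.blt e 2) (Nat.sub 4 e :: es.map (Nat.sub 4)) (e :: es))

/-- Code of a column. -/
def code : List ℕ → ℕ
  | [] => 0
  | e :: es => Nat.add e (Nat.mul 5 (code es))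

/-- Decoding. -/
def decode : ℕ → ℕ → List ℕ
  | 0, _ => []
  | r + 1, n => Nat.mod n 5 :: decode r (Nat.div n 5)

/-- Insertion into a sorted list. -/
def ins (x : ℕ) : List ℕ → List ℕ
  | [] => [x]
  | y :: ys => cond (Nat.ble x y) (x :: y :: ys) (y :: ins x ys)

/-- Insertion sort. -/
def sortN : List ℕ → List ℕ
  | [] => []
  | x :: xs => ins x (sortN xs)

/-- Key of a configuration. -/
def key : List ℕ → ℕ
  | [] => 0
  | x :: xs => Nat.add (Nat.add x 1) (Nat.mul 100000 (key xs))

/-- The columns after adding a row. -/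
def newCols (r : ℕ) (cols : List (List ℕ)) (row fresh : List ℕ) : List (List ℕ) :=
  List.zipWith (fun c a => flipNorm (c ++ [a])) cols row ++
    fresh.map fun f => List.replicate r 2 ++ [f]

/-- One step of the certificate. -/
def stepOK (r norm : ℕ) (needs : List ℕ) (cur nxt : List (List ℕ)) : Bool :=
  let keys := nxt.map fun st => key (sortN st)
  cur.all fun st =>
    let cols := st.map (decode r)
    (ext (withCaps r cols) norm needs).all fun p =>
      (freshOpts p.2).all fun fr =>
        let k := key (sortN ((newCols r cols p.1 fr).map code))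
        keys.any fun k' => Nat.beq k' k

end Cfsg.Agent.H52.JThree.Config
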