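import Cfsg.Agent.H52.JThree.ConfigData

/-!
Certificates for the first six steps of the enumeration.
-/

set_option autoImplicit false

namespace Cfsg.Agent.H52.JThree.Config

/-- The norms of the seven vectors, less the principal constituent. -/
def norms : ℕ → ℕ
  | 0 => 3
  | 1 => 3
  | 2 => 3
  | 3 => 3
  | 4 => 4
  | 5 => 5
  | _ => 5

/-- The inner products with the previous vectors, with offset. -/
def needs : ℕ → List ℕ
  | 0 => []
  | 1 => [1000]
  | 2 => [1000, 1001]
  | 3 => [1001, 999, 999]
  | 4 => [1001, 1000, 1000, 999]
  | 5 => [999, 1001, 1001, 1000, 1000]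
  | _ => [1000, 1001, 1001, 1000, 999, 1000]

theorem step0 : stepOK 0 (norms 0) (needs 0) stage0 stage1 = true := by decide +kernel
theorem step1 : stepOK 1 (norms 1) (needs 1) stage1 stage2 = true := by decide +kernel
theorem step2 : stepOK 2 (norms 2) (needs 2) stage2 stage3 = true := by decide +kernel
theorem step3 : stepOK 3 (norms 3) (needs 3) stage3 stage4 = true := by decide +kernel
theorem step4 : stepOK 4 (norms 4) (needs 4) stage4 stage5 = true := by decide +kernel
theorem step5 : stepOK 5 (norms 5) (needs 5) stage5 stage6 = true := by decide +kernel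

end Cfsg.Agent.H52.JThree.Config
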