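import Cfsg.Agent.H52.JThree.Config

/-!
Soundness of the enumeration of configurations.
-/

set_option autoImplicit false
set_option linter.unusedSectionVars false

namespace Cfsg.Agent.H52.JThree.Config

theorem dec_flip {e : ℕ} (h : e < 5) : dec (Nat.sub 4 e) = -dec e := by
  interval_cases e <;> rfl

theorem sq5_spec {e : ℕ} (h : e < 5) : (sq5 e : ℤ) = dec e * dec e := by
  interval_cases e <;> rfl

theorem negProd_spec {a c : ℕ} (ha : a < 5) (hc : c < 5) : (negProd a c : ℤ) = 4 - dec a * dec c := by
  interval_cases a <;> interval_cases c <;> rfl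

variable {ι : Type*} [Fintype ι] [DecidableEq ι] (vec : ℕ → ι → ℤ)

/-- The column of a constituent, up to `n`. -/
def col (n : ℕ) (χ : ι) : List ℤ := (List.range n).map fun i => vec i χ

/-- A stored column represents a constituent up to sign. -/
def Rel (n : ℕ) (χ : ι) (c : List ℕ) : Prop :=
  (∀ e ∈ c, e < 5) ∧ ∃ s : ℤ, (s = 1 ∨ s = -1) ∧ c.map dec = (col vec n χ).map (s * ·)

/-- The invariant of the enumeration. -/
def Inv (n : ℕ) (tbl : List (List ℕ)) : Prop :=
  ∃ st ∈ tbl, ∃ l : List ι, l.Nodup ∧ (∀ χ, χ ∉ l → ∀ i < n, vec i χ = 0) ∧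
    List.Forall₂ (Rel vec n) l (st.map (decode n))

theorem flipNorm_cases : ∀ {c : List ℕ}, (∀ e ∈ c, e < 5) →
    flipNorm c = c ∨ flipNorm c = c.map (Nat.sub 4) := by
  intro c
  induction c with
  | nil => intro _; exact Or.inl rfl
  | cons e es ih =>
    intro h
    rw [flipNorm]
    by_cases h2 : e = 2
    · subst h2
      rcases ih (fun x hx => h x (List.mem_cons_of_mem _ hx)) with r | r
      · left; simp [r]
      · right
        simp only [List.map_cons, r]
        rfl
    · rw [show Nat.beq e 2 = false from Bool.eq_false_iff.mpr fun q => h2 (Nat.eq_of_beq_eq_true q), cond_false]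
      cases hb : Nat.blt e 2
      · left; rfl
      · right; rfl

theorem rel_flipNorm {n : ℕ} {χ : ι} {c : List ℕ} (h : Rel vec n χ c) : Rel vec n χ (flipNorm c) := by
  rcases flipNorm_cases h.1 with r | r
  · rw [r]; exact h
  rw [r]
  obtain ⟨h5, s, hs, hc⟩ := h
  refine ⟨fun e he => ?_, -s, by omega, ?_⟩
  · obtain ⟨x, -, rfl⟩ := List.mem_map.mp he
    exact lt_of_le_of_lt (Nat.sub_le 4 x) (by norm_num)
  · rw [List.map_map]
    calc c.map (dec ∘ Nat.sub 4) = (c.map dec).map (fun t => -t) := by
          rw [List.map_map]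
          exact List.map_congr_left fun e he => dec_flip (h5 e he)
      _ = _ := by rw [hc, List.map_map]; exact List.map_congr_left fun t _ => by simp

/-- The inner products of the new row with the old ones over a list of constituents. -/
def T (r : ℕ) (l : List ι) : List ℤ :=
  (List.range r).map fun q => (l.map fun χ => vec r χ * vec q χ).sum

/-- The norms of the old rows over a list of constituents. -/
def S (r : ℕ) (l : List ι) : List ℤ :=
  (List.range r).map fun q => (l.map fun χ => vec q χ * vec q χ).sum

theorem map_eq_zip {α : Type*} {f g : α → ℤ} {c s : List ℕ} {L : List α}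
    {φ : ℕ → ℤ} {ψ : ℕ → ℤ} {op : ℕ → ℕ → ℕ} {op' : ℤ → ℤ → ℤ}
    (hc : c.map φ = L.map f) (hs : s.map ψ = L.map g)
    (hop : ∀ x ∈ c, ∀ y ∈ s, ψ (op x y) = op' (φ x) (ψ y)) :
    (List.zipWith op c s).map ψ = L.map fun a => op' (f a) (g a) := by
  induction L generalizing c s with
  | nil => simp [List.map_eq_nil_iff.mp hc]
  | cons a L ih =>
    cases c with
    | nil => simp at hc
    | cons x xs =>
      cases s with
      | nil => simp at hs
      | cons y ys =>
        simp only [List.map_cons, List.cons.injEq] at hc hs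
        simp only [List.zipWith_cons_cons, List.map_cons]
        rw [hop x List.mem_cons_self y List.mem_cons_self, hc.1, hs.1,
          ih hc.2 hs.2 fun p hp q hq => hop p (List.mem_cons_of_mem _ hp) q (List.mem_cons_of_mem _ hq)]

theorem caps_spec {r : ℕ} : ∀ {l : List ι} {cols : List (List ℕ)}, List.Forall₂ (Rel vec r) l cols →
    (caps r cols).map (fun n : ℕ => (n : ℤ)) = S vec r l := by
  intro l cols h
  induction h with
  | nil => simp [caps, S]
  | @cons χ c l cs hr _ ih =>
    obtain ⟨h5, s, hs, hc⟩ := hr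
    simp only [col, List.map_map] at hc
    rw [caps, S] at *
    rw [map_eq_zip (op' := fun a b => a * a + b) hc ih fun x hx y _ => by
      simp only [Nat.add_eq, Nat.cast_add, sq5_spec (h5 x hx)]]
    refine List.map_congr_left fun q _ => ?_
    have : s * s = 1 := by rcases hs with rfl | rfl <;> rfl
    simp only [Function.comp, List.map_cons, List.sum_cons]
    rw [show s * vec q χ * (s * vec q χ) = s * s * (vec q χ * vec q χ) by ring, this, one_mul]

theorem upd_eq (a : ℕ) : ∀ (ns cs : List ℕ),
    upd a ns cs = List.zipWith (fun c n => Nat.sub (Nat.add n (negProd a c)) 4) cs ns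
  | [], cs => by cases cs <;> rfl
  | n :: ns, [] => rfl
  | n :: ns, c :: cs => by simp [upd, upd_eq a ns cs]

theorem cs_list (v w : ι → ℤ) : ∀ l : List ι, (l.map fun χ => v χ * w χ).sum ^ 2 ≤
    (l.map fun χ => v χ * v χ).sum * (l.map fun χ => w χ * w χ).sum := by
  intro l
  classical
  induction l with
  | nil => simp
  | cons χ l ih =>
    have hp : 0 ≤ (l.map fun χ => v χ * v χ).sum :=
      List.sum_nonneg fun x hx => by obtain ⟨y, -, rfl⟩ := List.mem_map.mp hx; exact mul_self_nonneg _
    have hq : 0 ≤ (l.map fun χ => w χ * w χ).sum :=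
      List.sum_nonneg fun x hx => by obtain ⟨y, -, rfl⟩ := List.mem_map.mp hx; exact mul_self_nonneg _
    simp only [List.map_cons, List.sum_cons]
    set X := (l.map fun χ => v χ * w χ).sum
    set P := (l.map fun χ => v χ * v χ).sum
    set R := (l.map fun χ => w χ * w χ).sum
    have h2 : 2 * (v χ * w χ) * X ≤ P * (w χ * w χ) + (v χ * v χ) * R := by
      by_contra hc
      push Not at hc
      have h0 : 0 ≤ P * (w χ * w χ) + (v χ * v χ) * R := by
        have := mul_self_nonneg (v χ); have := mul_self_nonneg (w χ); positivity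
      nlinarith [mul_le_mul_of_nonneg_left ih (mul_nonneg (mul_self_nonneg (v χ)) (mul_self_nonneg (w χ))),
        sq_nonneg (P * (w χ * w χ) - (v χ * v χ) * R)]
    nlinarith

theorem capOK_map {α : Type*} {f g : α → ℤ} {rem : ℕ} : ∀ {L : List α} {ns ss : List ℕ},
    ns.map (fun n : ℕ => (n : ℤ) - 1000) = L.map f → ss.map (fun n : ℕ => (n : ℤ)) = L.map g →
    (∀ a ∈ L, f a ^ 2 ≤ rem * g a) → capOK rem ns ss = true := by
  intro L
  induction L with
  | nil =>
    intro ns ss h1 _ _
    rw [List.map_eq_nil_iff.mp h1]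
    cases ss <;> rfl
  | cons a L ih =>
    intro ns ss h1 h2 h
    cases ns with
    | nil => simp at h1
    | cons n ns =>
      cases ss with
      | nil => simp at h2
      | cons s ss =>
        simp only [List.map_cons, List.cons.injEq] at h1 h2
        rw [capOK]
        simp only [Nat.add_eq, Nat.sub_eq, Nat.mul_eq, Bool.and_eq_true, Nat.ble_eq]
        refine ⟨?_, ih h1.2 h2.2 fun x hx => h x (List.mem_cons_of_mem _ hx)⟩
        have := h a List.mem_cons_self
        rw [← h1.1, ← h2.1] at this
        rcases le_total n 1000 with e | e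
        · rw [Nat.sub_eq_zero_of_le e, zero_add]
          have e' : (((1000 - n) * (1000 - n) : ℕ) : ℤ) ≤ ((rem * s : ℕ) : ℤ) := by
            push_cast [Nat.cast_sub e]; nlinarith
          exact_mod_cast e'
        · rw [Nat.sub_eq_zero_of_le e, add_zero]
          have e' : (((n - 1000) * (n - 1000) : ℕ) : ℤ) ≤ ((rem * s : ℕ) : ℤ) := by
            push_cast [Nat.cast_sub e]; nlinarith
          exact_mod_cast e'

theorem exists_entry {x : ℤ} (h : |x| ≤ 2) : ∃ a : ℕ, a < 5 ∧ dec a = x :=
  ⟨(x + 2).toNat, by rw [abs_le] at h; omega, by rw [abs_le] at h; simp only [dec]; omega⟩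

theorem sum_abs_le {r q : ℕ} : ∀ l : List ι, (∀ χ, |vec r χ| ≤ 2) → (∀ χ, |vec q χ| ≤ 2) →
    |(l.map fun χ => vec r χ * vec q χ).sum| ≤ 4 * l.length := by
  intro l h1 h2
  induction l with
  | nil => simp
  | cons χ l ih =>
    simp only [List.map_cons, List.sum_cons, List.length_cons]
    refine (abs_add_le _ _).trans ?_
    rw [abs_mul]
    have := mul_le_mul (h1 χ) (h2 χ) (abs_nonneg _) (by norm_num)
    push_cast
    linarith

theorem ext_complete {r : ℕ} (hb : ∀ i, i ≤ r → ∀ χ, |vec i χ| ≤ 2) :
    ∀ {l : List ι} {cols : List (List ℕ)}, List.Forall₂ (Rel vec r) l cols →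
    ∀ (rem : ℕ) (needs : List ℕ), l.length ≤ 200 →
      (l.map fun χ => vec r χ * vec r χ).sum ≤ rem →
      needs.map (fun n : ℕ => (n : ℤ) - 1000) = T vec r l →
      ∃ p ∈ ext (withCaps r cols) rem needs,
        (p.2 : ℤ) = rem - (l.map fun χ => vec r χ * vec r χ).sum ∧
        List.Forall₂ (Rel vec (r + 1)) l (List.zipWith (fun c a => flipNorm (c ++ [a])) cols p.1) := by
  intro l cols h
  induction h with
  | nil =>
    intro rem needs _ _ hn
    refine ⟨([], rem), ?_, by simp, by simp⟩
    rw [withCaps, ext, show (needs.all fun n => Nat.beq n 1000) = true from ?_]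
    · simp
    · rw [List.all_eq_true]
      intro n hn'
      have hm := List.mem_map_of_mem (f := fun n : ℕ => (n : ℤ) - 1000) hn'
      rw [hn, T] at hm
      obtain ⟨q, -, e⟩ := List.mem_map.mp hm
      simp only [List.map_nil, List.sum_nil] at e
      exact Nat.beq_eq ▸ (by simpa using (by omega : n = 1000))
  | @cons χ c l cs hr htl ih =>
    intro rem needs hlen hsum hn
    obtain ⟨h5, s, hs, hc⟩ := hr
    obtain ⟨a, ha5, ha⟩ := exists_entry (x := s * vec r χ) (by
      have := hb r le_rfl χ
      rcases hs with rfl | rfl <;> simp [this])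
    have hss : s * s = 1 := by rcases hs with rfl | rfl <;> rfl
    have hsq : (sq5 a : ℤ) = vec r χ * vec r χ := by
      rw [sq5_spec ha5, ha]; linear_combination (vec r χ * vec r χ) * hss
    simp only [List.map_cons, List.sum_cons] at hsum
    have hge : 0 ≤ (l.map fun χ => vec r χ * vec r χ).sum :=
      List.sum_nonneg fun x hx => by obtain ⟨y, -, rfl⟩ := List.mem_map.mp hx; exact mul_self_nonneg _
    have hle : sq5 a ≤ rem := by
      have : (sq5 a : ℤ) ≤ rem := by linarith
      exact_mod_cast this
    simp only [col, List.map_map] at hc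
    simp only [List.length_cons] at hlen
    have hn' := hn
    simp only [T] at hn
    have hupd : (upd a needs c).map (fun n : ℕ => (n : ℤ) - 1000) = T vec r l := by
      rw [upd_eq, map_eq_zip (op' := fun e N => N - dec a * e) hc hn fun x hx y hy => ?_]
      · rw [T]
        refine List.map_congr_left fun q _ => ?_
        simp only [Function.comp, List.map_cons, List.sum_cons, ha]
        linear_combination -(vec r χ * vec q χ) * hss
      · have hy' := List.mem_map_of_mem (f := fun n : ℕ => (n : ℤ) - 1000) hy
        rw [hn] at hy'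
        obtain ⟨q, hq, e⟩ := List.mem_map.mp hy'
        have hbd := sum_abs_le vec (χ :: l) (hb r le_rfl) (hb q (List.mem_range.mp hq).le) (r := r) (q := q)
        rw [e, abs_le] at hbd
        simp only [List.length_cons] at hbd
        have hp := negProd_spec ha5 (h5 x hx)
        simp only [Nat.add_eq, Nat.sub_eq]
        rw [Nat.cast_sub (by omega), Nat.cast_add, hp]
        push_cast
        ring
    have hzero : a = 2 → needs.map (fun n : ℕ => (n : ℤ) - 1000) = T vec r l := by
      rintro rfl
      have h0 : vec r χ = 0 := by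
        rcases hs with rfl | rfl <;> simp [dec] at ha <;> omega
      rw [hn]
      exact List.map_congr_left fun q _ => by simp [h0]
    have hneeds : (cond (Nat.beq a 2) needs (upd a needs c)).map (fun n : ℕ => (n : ℤ) - 1000) = T vec r l := by
      cases h2 : Nat.beq a 2
      · exact hupd
      · exact hzero (Nat.eq_of_beq_eq_true h2)
    obtain ⟨p, hp, hp2, hp3⟩ := ih (Nat.sub rem (sq5 a)) _ (by omega)
      (by simp only [Nat.sub_eq]; rw [Nat.cast_sub hle, hsq]; linarith) hneeds
    refine ⟨(a :: p.1, p.2), ?_, ?_, ?_⟩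
    · rw [withCaps, ext]
      rw [capOK_map hn' (caps_spec vec (List.Forall₂.cons ⟨h5, s, hs, by simp only [col, List.map_map]; exact hc⟩ htl))
        fun q hq => (cs_list (vec r) (vec q) (χ :: l)).trans (by
          refine mul_le_mul_of_nonneg_right ?_ (List.sum_nonneg fun x hx => by
            obtain ⟨y, -, rfl⟩ := List.mem_map.mp hx; exact mul_self_nonneg _)
          simp only [List.map_cons, List.sum_cons]
          exact hsum), cond_true, List.mem_flatMap]
      refine ⟨a, by interval_cases a <;> simp, ?_⟩
      rw [show Nat.ble (sq5 a) rem = true from Nat.ble_eq.mpr hle, cond_true]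
      exact List.mem_map.mpr ⟨p, hp, rfl⟩
    · rw [hp2]
      simp only [List.map_cons, List.sum_cons, Nat.sub_eq]
      rw [Nat.cast_sub hle, hsq]
      ring
    · rw [List.zipWith_cons_cons]
      refine List.Forall₂.cons (rel_flipNorm vec ⟨?_, s, hs, ?_⟩) hp3
      · intro e he
        rcases List.mem_append.mp he with he | he
        · exact h5 e he
        · rw [List.mem_singleton.mp he]; exact ha5
      · simp only [col, List.range_succ, List.map_append, List.map_map, List.map_cons, List.map_nil, hc, ha]

theorem code_lt : ∀ {c : List ℕ}, (∀ e ∈ c, e < 5) → code c < 5 ^ c.length := by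
  intro c
  induction c with
  | nil => intro; simp [code]
  | cons e es ih =>
    intro h
    have := ih fun x hx => h x (List.mem_cons_of_mem _ hx)
    have := h e List.mem_cons_self
    simp only [code, Nat.add_eq, Nat.mul_eq, List.length_cons, pow_succ]
    omega

theorem decode_code : ∀ {c : List ℕ}, (∀ e ∈ c, e < 5) → decode c.length (code c) = c := by
  intro c
  induction c with
  | nil => intro; rfl
  | cons e es ih =>
    intro h
    have := h e List.mem_cons_self
    simp only [List.length_cons, decode, code, Nat.add_eq, Nat.mul_eq]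
    rw [show Nat.mod (e + 5 * code es) 5 = (e + 5 * code es) % 5 from rfl,
      show Nat.div (e + 5 * code es) 5 = (e + 5 * code es) / 5 from rfl,
      show (e + 5 * code es) % 5 = e by omega, show (e + 5 * code es) / 5 = code es by omega,
      ih fun x hx => h x (List.mem_cons_of_mem _ hx)]

theorem key_inj : ∀ {a b : List ℕ}, (∀ x ∈ a, x < 99999) → (∀ x ∈ b, x < 99999) → key a = key b → a = b := by
  intro a
  induction a with
  | nil =>
    intro b _ _ h
    cases b with
    | nil => rfl
    | cons y ys => simp only [key, Nat.add_eq, Nat.mul_eq] at h; omega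
  | cons x xs ih =>
    intro b ha hb h
    cases b with
    | nil => simp only [key, Nat.add_eq, Nat.mul_eq] at h; omega
    | cons y ys =>
      simp only [key, Nat.add_eq, Nat.mul_eq] at h
      have := ha x List.mem_cons_self
      have := hb y List.mem_cons_self
      rw [show x = y by omega, ih (fun p hp => ha p (List.mem_cons_of_mem _ hp))
        (fun p hp => hb p (List.mem_cons_of_mem _ hp)) (by omega)]

theorem ins_perm (x : ℕ) : ∀ l : List ℕ, (ins x l).Perm (x :: l)
  | [] => List.Perm.refl _
  | y :: ys => by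
    rw [ins]
    cases Nat.ble x y
    · exact (List.Perm.cons y (ins_perm x ys)).trans (List.Perm.swap x y ys)
    · exact List.Perm.refl _

theorem sortN_perm : ∀ l : List ℕ, (sortN l).Perm l
  | [] => List.Perm.refl _
  | x :: xs => (ins_perm x (sortN xs)).trans (List.Perm.cons x (sortN_perm xs))

/-- The initial invariant. -/
theorem inv_zero : Inv vec 0 [[]] :=
  ⟨[], List.mem_singleton_self _, [], List.nodup_nil, fun _ _ i hi => absurd hi (Nat.not_lt_zero i), List.Forall₂.nil⟩

/-- Size conditions on a table. -/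
def wellSized (tbl : List (List ℕ)) : Bool :=
  tbl.all fun st => and (Nat.ble st.length 100) (st.all fun c => Nat.blt c 78125)

theorem exists_left {α β : Type*} {R : α → β → Prop} {as : List α} {bs : List β}
    (h : List.Forall₂ R as bs) {b : β} (hb : b ∈ bs) : ∃ a ∈ as, R a b := by
  induction h with
  | nil => simp at hb
  | @cons x y xs ys hxy _ ih =>
    rcases List.mem_cons.mp hb with rfl | hb
    · exact ⟨x, List.mem_cons_self, hxy⟩
    · obtain ⟨a, ha, ha'⟩ := ih hb
      exact ⟨a, List.mem_cons_of_mem _ ha, ha'⟩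

/-- One step. -/
theorem step_sound {r norm : ℕ} {needs : List ℕ} {cur nxt : List (List ℕ)}
    (h : stepOK r norm needs cur nxt = true) (hw : wellSized cur = true) (hw' : wellSized nxt = true)
    (hr : r < 7) (hnorm : norm < 8)
    (hb : ∀ i, i ≤ r → ∀ χ, |vec i χ| ≤ 2)
    (hgn : ∑ χ, vec r χ * vec r χ = norm)
    (hgq : needs.map (fun n : ℕ => (n : ℤ) - 1000) = (List.range r).map fun q => ∑ χ, vec r χ * vec q χ)
    (hinv : Inv vec r cur) : Inv vec (r + 1) nxt := by
  classical
  obtain ⟨st, hst, l, hnd, hout, hF⟩ := hinv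
  have hlen : l.length ≤ 100 := by
    rw [hF.length_eq, List.length_map]
    rw [wellSized, List.all_eq_true] at hw
    have := hw st hst
    simp only [Bool.and_eq_true, Nat.ble_eq] at this
    exact this.1
  have hTl : T vec r l = (List.range r).map fun q => ∑ χ, vec r χ * vec q χ := by
    refine List.map_congr_left fun q hq => ?_
    rw [← List.sum_toFinset _ hnd]
    exact Finset.sum_subset (Finset.subset_univ _) fun χ _ hχ => by
      rw [hout χ (fun hm => hχ (List.mem_toFinset.mpr hm)) q (List.mem_range.mp hq), mul_zero]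
  have hsum : ((l.map fun χ => vec r χ * vec r χ).sum : ℤ) ≤ norm := by
    rw [← List.sum_toFinset _ hnd, ← hgn]
    exact Finset.sum_le_univ_sum_of_nonneg fun χ => mul_self_nonneg _
  obtain ⟨p, hp, hp2, hp3⟩ := ext_complete vec hb hF norm needs (by omega) hsum (hgq.trans hTl.symm)
  set F := Finset.univ.filter fun χ => χ ∉ l ∧ vec r χ ≠ 0
  set l2 := (F.filter fun χ => vec r χ * vec r χ = 4).toList with hl2
  set l1 := (F.filter fun χ => ¬ vec r χ * vec r χ = 4).toList with hl1
  have hval : ∀ χ ∈ F, vec r χ = 1 ∨ vec r χ = -1 ∨ vec r χ = 2 ∨ vec r χ = -2 := by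
    intro χ hχ
    have := abs_le.mp (hb r le_rfl χ)
    have := (Finset.mem_filter.mp hχ).2.2
    omega
  have hF' : (p.2 : ℤ) = 4 * l2.length + l1.length := by
    rw [hp2, ← List.sum_toFinset _ hnd, ← hgn, ← Finset.sum_compl_add_sum l.toFinset, add_sub_cancel_right]
    have e : ∑ χ ∈ l.toFinsetᶜ, vec r χ * vec r χ = ∑ χ ∈ F, vec r χ * vec r χ := by
      refine (Finset.sum_subset (fun χ hχ => ?_) fun χ hχ hn => ?_).symm
      · simpa using (Finset.mem_filter.mp hχ).2.1
      · have hχ' : χ ∉ l := by simpa using hχ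
        have : vec r χ = 0 := by
          by_contra hne
          exact hn (Finset.mem_filter.mpr ⟨Finset.mem_univ _, hχ', hne⟩)
        rw [this, mul_zero]
    have e4 : ∑ χ ∈ F.filter (fun χ => vec r χ * vec r χ = 4), vec r χ * vec r χ = 4 * (l2.length : ℤ) := by
      rw [hl2, Finset.length_toList, Finset.sum_congr rfl fun χ hχ => (Finset.mem_filter.mp hχ).2,
        Finset.sum_const, nsmul_eq_mul, mul_comm]
    have e1 : ∑ χ ∈ F.filter (fun χ => ¬ vec r χ * vec r χ = 4), vec r χ * vec r χ = (l1.length : ℤ) := by
      rw [hl1, Finset.length_toList, Finset.sum_congr rfl (g := fun _ => (1 : ℤ)) fun χ hχ => ?_,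
        Finset.sum_const, nsmul_eq_mul, mul_one]
      obtain ⟨h1, h2⟩ := Finset.mem_filter.mp hχ
      rcases hval χ h1 with e | e | e | e <;> simp [e] at h2 ⊢
    rw [e, ← Finset.sum_filter_add_sum_filter_not F fun χ => vec r χ * vec r χ = 4, e4, e1]
  have hpn : p.2 ≤ norm := by
    have : 0 ≤ (l.map fun χ => vec r χ * vec r χ).sum :=
      List.sum_nonneg fun x hx => by obtain ⟨y, -, rfl⟩ := List.mem_map.mp hx; exact mul_self_nonneg _
    omega
  have hfr : List.replicate l2.length 4 ++ List.replicate l1.length 3 ∈ freshOpts p.2 := by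
    rw [freshOpts]
    rcases (show l2.length = 0 ∨ l2.length = 1 by omega) with e | e
    · rw [e, List.replicate_zero, List.nil_append, show l1.length = p.2 by omega]
      exact List.mem_cons_self
    · rw [e, show Nat.ble 4 p.2 = true from Nat.ble_eq.mpr (by omega), cond_true,
        show Nat.sub p.2 4 = l1.length by simp only [Nat.sub_eq]; omega]
      exact List.mem_cons_of_mem _ (List.mem_singleton_self _)
  set fr := List.replicate l2.length 4 ++ List.replicate l1.length 3
  have hrel : ∀ χ ∈ F, ∀ e : ℕ, (e = 4 ∧ vec r χ * vec r χ = 4 ∨ e = 3 ∧ ¬ vec r χ * vec r χ = 4) →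
      Rel vec (r + 1) χ (List.replicate r 2 ++ [e]) := by
    intro χ hχ e he
    refine ⟨fun x hx => ?_, if 0 < vec r χ then 1 else -1, by split_ifs <;> simp, ?_⟩
    · rcases List.mem_append.mp hx with hx | hx
      · rw [List.eq_of_mem_replicate hx]; norm_num
      · rw [List.mem_singleton.mp hx]; omega
    · simp only [col, List.range_succ, List.map_append, List.map_map, List.map_cons, List.map_nil]
      congr 1
      · rw [List.map_replicate]
        refine (List.eq_replicate_iff.mpr ⟨by simp, fun x hx => ?_⟩).symm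
        obtain ⟨i, hi, rfl⟩ := List.mem_map.mp hx
        simp [hout χ (Finset.mem_filter.mp hχ).2.1 i (List.mem_range.mp hi), dec]
      · rcases hval χ hχ with h | h | h | h <;> rcases he with ⟨rfl, h'⟩ | ⟨rfl, h'⟩ <;>
          simp [h, dec] at h' ⊢
  have hfresh : ∀ (L : List ι) (e : ℕ), (∀ χ ∈ L, Rel vec (r + 1) χ (List.replicate r 2 ++ [e])) →
      List.Forall₂ (Rel vec (r + 1)) L ((List.replicate L.length e).map fun f => List.replicate r 2 ++ [f]) := by
    intro L e
    induction L with
    | nil => intro; simp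
    | cons χ L ih =>
      intro h
      simp only [List.length_cons, List.replicate_succ, List.map_cons]
      exact List.Forall₂.cons (h χ List.mem_cons_self) (ih fun x hx => h x (List.mem_cons_of_mem _ hx))
  set cols' := newCols r (st.map (decode r)) p.1 fr with hcols'
  set l' := l ++ (l2 ++ l1) with hl'
  have hmem : ∀ {χ}, χ ∈ l2 ++ l1 → χ ∈ F := fun {χ} hm => by
    rcases List.mem_append.mp hm with hm | hm <;> exact (Finset.mem_filter.mp (Finset.mem_toList.mp hm)).1
  have hF2 : List.Forall₂ (Rel vec (r + 1)) l' cols' := by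
    rw [hcols', newCols, List.map_append, hl']
    refine List.rel_append hp3 (List.rel_append (hfresh l2 4 ?_) (hfresh l1 3 ?_))
    · intro χ hχ
      exact hrel χ (hmem (List.mem_append_left _ hχ)) 4 (Or.inl ⟨rfl, (Finset.mem_filter.mp (Finset.mem_toList.mp hχ)).2⟩)
    · intro χ hχ
      exact hrel χ (hmem (List.mem_append_right _ hχ)) 3 (Or.inr ⟨rfl, (Finset.mem_filter.mp (Finset.mem_toList.mp hχ)).2⟩)
  have hnd' : l'.Nodup := by
    rw [hl', List.nodup_append, List.nodup_append]
    refine ⟨hnd, ⟨Finset.nodup_toList _, Finset.nodup_toList _, ?_⟩, ?_⟩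
    · intro a ha b hb hab
      subst hab
      exact (Finset.mem_filter.mp (Finset.mem_toList.mp hb)).2 (Finset.mem_filter.mp (Finset.mem_toList.mp ha)).2
    · intro a ha b hb hab
      subst hab
      exact (Finset.mem_filter.mp (hmem hb)).2.1 ha
  have hout' : ∀ χ, χ ∉ l' → ∀ i < r + 1, vec i χ = 0 := by
    intro χ hχ i hi
    rcases Nat.lt_succ_iff_lt_or_eq.mp hi with hi | rfl
    · exact hout χ (fun h => hχ (List.mem_append_left _ h)) i hi
    · by_contra hne
      have hχF : χ ∈ F := Finset.mem_filter.mpr ⟨Finset.mem_univ _, fun h => hχ (List.mem_append_left _ h), hne⟩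
      refine hχ (List.mem_append_right _ (List.mem_append.mpr ?_))
      by_cases h4 : vec i χ * vec i χ = 4
      · exact Or.inl (Finset.mem_toList.mpr (Finset.mem_filter.mpr ⟨hχF, h4⟩))
      · exact Or.inr (Finset.mem_toList.mpr (Finset.mem_filter.mpr ⟨hχF, h4⟩))
  rw [stepOK, List.all_eq_true] at h
  have h2 := h st hst
  rw [List.all_eq_true] at h2
  have h3 := h2 p hp
  rw [List.all_eq_true] at h3
  have h4 := h3 fr hfr
  rw [List.any_eq_true] at h4
  obtain ⟨k', hk', hkk⟩ := h4
  obtain ⟨st', hst', rfl⟩ := List.mem_map.mp hk'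
  have hkey := Nat.eq_of_beq_eq_true hkk
  have hc5 : ∀ c ∈ cols', (∀ e ∈ c, e < 5) ∧ c.length = r + 1 := by
    intro c hc
    obtain ⟨χ, -, hχ⟩ := exists_left hF2 hc
    refine ⟨hχ.1, ?_⟩
    obtain ⟨s, -, e⟩ := hχ.2
    simpa [col] using congrArg List.length e
  have hsort : sortN st' = sortN (cols'.map code) := by
    refine key_inj (fun x hx => ?_) (fun x hx => ?_) hkey
    · rw [wellSized, List.all_eq_true] at hw'
      have := hw' st' hst'
      simp only [Bool.and_eq_true, List.all_eq_true, Nat.blt_eq] at this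
      have := this.2 x ((sortN_perm st').mem_iff.mp hx)
      omega
    · obtain ⟨c, hc, rfl⟩ := List.mem_map.mp ((sortN_perm _).mem_iff.mp hx)
      obtain ⟨a, b⟩ := hc5 c hc
      have := code_lt a
      rw [b] at this
      have : 5 ^ (r + 1) ≤ 5 ^ 7 := Nat.pow_le_pow_right (by norm_num) (by omega)
      norm_num at this
      omega
  have hperm : (st'.map (decode (r + 1))).Perm cols' := by
    have : st'.Perm (cols'.map code) := ((sortN_perm st').symm.trans (hsort ▸ sortN_perm _))
    refine (this.map _).trans (List.Perm.of_eq ?_)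
    rw [List.map_map]
    calc cols'.map (decode (r + 1) ∘ code) = cols'.map id := List.map_congr_left fun c hc => by
          obtain ⟨a, b⟩ := hc5 c hc
          simp only [Function.comp, id]
          rw [← b, decode_code a]
      _ = cols' := List.map_id _
  obtain ⟨l'', hF3, hpl⟩ := List.perm_comp_forall₂ hperm hF2.flip
  exact ⟨st', hst', l'', hpl.symm.nodup_iff.mp hnd', fun χ hχ => hout' χ fun hm => hχ (hpl.mem_iff.mpr hm),
    hF3.flip⟩

end Cfsg.Agent.H52.JThree.Config
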