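import Cfsg.Agent.H43.JTwo.FromCentralizer
import Cfsg.Prelude.Def_SporadicB

/-!
A centraliser `2^{1+4}.A₅` of a 2-central involution in a simple group: the extraspecial core
contains its own centraliser.
-/

set_option autoImplicit false
set_option linter.style.haveILetI false
set_option linter.unusedSectionVars false

namespace Cfsg.Agent.H52.JThree

open Subgroup

universe u

variable {G : Type u} [Group G] [Finite G]

theorem a5_two_or_odd : ∀ a : alternatingGroup (Fin 5),
    a * a = 1 ∨ a * a * a = 1 ∨ a * a * a * a * a = 1 := by decide +kernel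

theorem a5_center : ∀ a : alternatingGroup (Fin 5), (∀ b, a * b = b * a) → a = 1 := by decide +kernel

theorem a5_sq {a : alternatingGroup (Fin 5)} {k : ℕ} (h : a ^ (2 ^ k) = 1) : a * a = 1 := by
  have key : ∀ n : ℕ, Nat.Coprime (2 ^ k) n → a ^ n = 1 → a * a = 1 := fun n hn ha => by
    have h1 : a = 1 := orderOf_eq_one_iff.mp
      (Nat.eq_one_of_dvd_coprimes hn (orderOf_dvd_of_pow_eq_one h) (orderOf_dvd_of_pow_eq_one ha))
    rw [h1, one_mul]
  rcases a5_two_or_odd a with e | e | e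
  · exact e
  · exact key 3 (Nat.Coprime.pow_left k (by norm_num)) (by rw [pow_succ, pow_two]; exact e)
  · exact key 5 (Nat.Coprime.pow_left k (by norm_num))
      (by rw [pow_succ, pow_succ, pow_succ, pow_two]; exact e)

theorem two_central_of_hone (hone : ∀ x y : G, orderOf x = 2 → orderOf y = 2 → IsConj x y) {t : G}
    (ht : orderOf t = 2) : Cfsg.IsTwoCentralInvolution t := by
  haveI : Fact (Nat.Prime 2) := ⟨Nat.prime_two⟩
  obtain ⟨T, hT⟩ := (IsPGroup.of_card (n := 1)
    (by rw [Nat.card_zpowers, ht, pow_one]) : IsPGroup 2 (zpowers t)).exists_le_sylow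
  haveI : Nontrivial (T : Subgroup G) := ⟨⟨⟨t, hT (mem_zpowers t)⟩, 1, fun e => by
    have : t = 1 := congrArg Subtype.val e
    rw [this, orderOf_one] at ht; omega⟩⟩
  have hz := T.isPGroup'.center_nontrivial
  haveI := hz
  obtain ⟨k, hk⟩ := IsPGroup.iff_card.mp (T.isPGroup'.to_subgroup (center (T : Subgroup G)))
  have h1 : 1 < Nat.card (center (T : Subgroup G)) := Finite.one_lt_card
  obtain ⟨y, hy⟩ := exists_prime_orderOf_dvd_card' (G := center (T : Subgroup G)) 2 (by
    rw [hk] at h1 ⊢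
    exact dvd_pow_self 2 fun e => by rw [e] at h1; simp at h1)
  have hy' : orderOf ((y : (T : Subgroup G)) : G) = 2 := by
    rw [Subgroup.orderOf_coe, Subgroup.orderOf_coe, hy]
  obtain ⟨g, hg⟩ := isConj_iff.mp (hone _ t hy' ht)
  refine ⟨ht, g • T, ?_, fun x hx => ?_⟩
  · show t ∈ ((g • T : Sylow 2 G) : Subgroup G)
    rw [← hg, Sylow.coe_subgroup_smul]
    exact ⟨_, (y : (T : Subgroup G)).2, rfl⟩
  · have hx' : x ∈ ((g • T : Sylow 2 G) : Subgroup G) := hx
    rw [Sylow.coe_subgroup_smul] at hx'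
    obtain ⟨w, hw, rfl⟩ := hx'
    have hc : w * ((y : (T : Subgroup G)) : G) = ((y : (T : Subgroup G)) : G) * w :=
      congrArg Subtype.val (mem_center_iff.mp y.2 ⟨w, hw⟩)
    rw [← hg]
    show g * w * g⁻¹ * (g * _ * g⁻¹) = g * _ * g⁻¹ * (g * w * g⁻¹)
    calc g * w * g⁻¹ * (g * ((y : (T : Subgroup G)) : G) * g⁻¹)
        = g * (w * ((y : (T : Subgroup G)) : G)) * g⁻¹ := by group
      _ = _ := by rw [hc]; group

theorem comm_cases {H : Type*} [Group H] {Q : Subgroup H} [Finite H] (hX : Cfsg.IsExtraspecial 2 Q)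
    {w : H} (hwQ : w ∈ Q) (hw : ∀ q ∈ Q, q * w = w * q) (hw1 : w ≠ 1) {x : H}
    (hxQ : x ∈ Q) (hx : ∀ q ∈ Q, q * x = x * q) : x = 1 ∨ x = w := by
  refine H92.eq_one_or_center hX ⟨⟨w, hwQ⟩, mem_center_iff.mpr fun q => Subtype.ext (hw q q.2), rfl⟩ hw1
    ⟨⟨x, hxQ⟩, mem_center_iff.mpr fun q => Subtype.ext (hx q q.2), rfl⟩

/-- Two elements of the extraspecial group commuting with a third but not with each other. -/
theorem exists_noncomm_pair {H : Type*} [Group H] [Finite H] {Q : Subgroup H} {w : H} (hw1 : w ≠ 1)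
    (hwQ : w ∈ Q) (hcard : Nat.card Q = 32) (hwc : ∀ q ∈ Q, q * w = w * q)
    (hcen : ∀ x ∈ Q, (∀ q ∈ Q, q * x = x * q) → x = 1 ∨ x = w)
    (hcomm : ∀ a ∈ Q, ∀ b ∈ Q, a * b = b * a ∨ a * b = w * (b * a)) {q0 : H} (hq0 : q0 ∈ Q) :
    ∃ a ∈ Q, ∃ b ∈ Q, a * q0 = q0 * a ∧ b * q0 = q0 * b ∧ a * b ≠ b * a := by
  by_contra hno
  push Not at hno
  set A : Set H := {q | q ∈ Q ∧ q * q0 = q0 * q} with hA
  have hww : ∀ {a b c : H}, a ∈ Q → b ∈ Q → c ∈ Q → a * c = w * (c * a) → b * c = w * (c * b) →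
      (b⁻¹ * a) * c = c * (b⁻¹ * a) := by
    intro a b c ha hb hc e1 e2
    have hbw : b⁻¹ * w = w * b⁻¹ := hwc _ (inv_mem hb)
    calc (b⁻¹ * a) * c = b⁻¹ * (w * (c * a)) := by rw [mul_assoc, e1]
      _ = (b⁻¹ * w) * (c * a) := by group
      _ = w * b⁻¹ * (c * a) := by rw [hbw]
      _ = w * (b⁻¹ * (c * b)) * (b⁻¹ * a) := by group
      _ = w * (b⁻¹ * (w⁻¹ * (b * c))) * (b⁻¹ * a) := by rw [e2]; group
      _ = w * (b⁻¹ * w⁻¹) * (b * c) * (b⁻¹ * a) := by group
      _ = w * (w⁻¹ * b⁻¹) * (b * c) * (b⁻¹ * a) := by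
            rw [show b⁻¹ * w⁻¹ = w⁻¹ * b⁻¹ from (Commute.inv_right hbw).eq]
      _ = c * (b⁻¹ * a) := by group
  have hQab : ¬ ∀ a ∈ Q, ∀ b ∈ Q, a * b = b * a := by
    intro hab
    have hsub : (Q : Set H) ⊆ {1, w} := fun q hq => by
      rcases hcen q hq (fun r hr => hab r hr q hq) with e | e <;> simp [e]
    have h2 := Set.ncard_le_ncard hsub (Set.toFinite _)
    rw [show (Q : Set H).ncard = 32 from hcard] at h2
    have : ({1, w} : Set H).ncard ≤ 2 := (Set.ncard_insert_le _ _).trans (by simp)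
    omega
  obtain ⟨y, hy, hyq⟩ : ∃ y ∈ Q, y * q0 ≠ q0 * y := by
    by_contra h
    push Not at h
    exact hQab fun a ha b hb => hno a ha b hb (h a ha) (h b hb)
  have hy' : y * q0 = w * (q0 * y) := (hcomm y hy q0 hq0).resolve_left hyq
  have hQA : (Q : Set H) ⊆ A ∪ (fun a => y * a) '' A := by
    intro q hq
    rcases hcomm q hq q0 hq0 with e | e
    · exact Or.inl ⟨hq, e⟩
    · exact Or.inr ⟨y⁻¹ * q, ⟨mul_mem (inv_mem hy) hq, hww hq hy hq0 e hy'⟩, mul_inv_cancel_left y q⟩
  have hAy : ∀ a ∈ A, a * y = y * a → a = 1 ∨ a = w := by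
    intro a ha hay
    refine hcen a ha.1 fun q hq => ?_
    rcases hQA hq with hqA | ⟨b, hb, rfl⟩
    · exact hno q hqA.1 a ha.1 hqA.2 ha.2
    · have hab : b * a = a * b := hno b hb.1 a ha.1 hb.2 ha.2
      show y * b * a = a * (y * b)
      rw [mul_assoc, hab, ← mul_assoc, ← hay, mul_assoc]
  obtain ⟨a1, ha1, hA4⟩ : ∃ a1, a1 ∈ Q ∧ A ⊆ {1, w} ∪ (fun a => a1 * a) '' {1, w} := by
    by_cases h : ∀ a ∈ A, a * y = y * a
    · exact ⟨1, one_mem _, fun a ha => Or.inl (by rcases hAy a ha (h a ha) with e | e <;> simp [e])⟩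
    · push Not at h
      obtain ⟨a1, ha1, hne⟩ := h
      have e1 : a1 * y = w * (y * a1) := (hcomm a1 ha1.1 y hy).resolve_left hne
      refine ⟨a1, ha1.1, fun a ha => ?_⟩
      rcases hcomm a ha.1 y hy with e | e
      · exact Or.inl (by rcases hAy a ha e with r | r <;> simp [r])
      · have hmem : a1⁻¹ * a ∈ A := by
          refine ⟨mul_mem (inv_mem ha1.1) ha.1, ?_⟩
          exact (Commute.mul_left (Commute.inv_left ha1.2) ha.2).eq
        refine Or.inr ⟨a1⁻¹ * a, ?_, mul_inv_cancel_left _ _⟩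
        rcases hAy _ hmem (hww ha.1 ha1.1 hy e e1) with r | r <;> simp [r]
  have h1 := Set.ncard_le_ncard hQA (Set.toFinite _)
  rw [show (Q : Set H).ncard = 32 from hcard] at h1
  have h2 := Set.ncard_le_ncard hA4 (Set.toFinite _)
  have h3 : ({1, w} : Set H).ncard ≤ 2 := (Set.ncard_insert_le _ _).trans (by simp)
  have := Set.ncard_union_le A ((fun a => y * a) '' A)
  have := Set.ncard_image_le (s := A) (f := fun a => y * a) (Set.toFinite _)
  have := Set.ncard_union_le ({1, w} : Set H) ((fun a => a1 * a) '' {1, w})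
  have := Set.ncard_image_le (s := ({1, w} : Set H)) (f := fun a => a1 * a) (Set.toFinite _)
  omega

theorem centralizer_le [IsSimpleGroup G] {t : G} (h2 : Cfsg.IsTwoCentralInvolution t)
    (Q : Subgroup (centralizer ({t} : Set G))) [Q.Normal] (hcard : Nat.card Q = 32)
    (hX : Cfsg.IsExtraspecial 2 Q)
    (e : (centralizer ({t} : Set G)) ⧸ Q ≃* alternatingGroup (Fin 5)) :
    centralizer (Q : Set (centralizer ({t} : Set G))) ≤ Q := by
  haveI : Fact (Nat.Prime 2) := ⟨Nat.prime_two⟩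
  obtain ⟨ht, P, htP, hPt⟩ := h2
  have ht1 : t ≠ 1 := fun r => by rw [r, orderOf_one] at ht; omega
  by_contra hnot
  set K := centralizer (Q : Set (centralizer ({t} : Set G))) with hK
  haveI hKn : K.Normal := ⟨fun k hk c => mem_centralizer_iff.mpr fun q hq => by
    have hq' : c⁻¹ * q * c ∈ Q := by simpa using (inferInstance : Q.Normal).conj_mem q hq c⁻¹
    calc q * (c * k * c⁻¹) = c * (c⁻¹ * q * c * k) * c⁻¹ := by group
      _ = c * (k * (c⁻¹ * q * c)) * c⁻¹ := by rw [mem_centralizer_iff.mp hk _ hq']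
      _ = c * k * c⁻¹ * q := by group⟩
  let f : (centralizer ({t} : Set G)) →* alternatingGroup (Fin 5) := e.toMonoidHom.comp (QuotientGroup.mk' Q)
  have hfs : Function.Surjective f := e.surjective.comp (QuotientGroup.mk'_surjective Q)
  have hf1 : ∀ x, f x = 1 → x ∈ Q := fun x hx =>
    (QuotientGroup.eq_one_iff x).mp ((map_eq_one_iff e e.injective).mp hx)
  have hQf : ∀ x ∈ Q, f x = 1 := fun x hx => by
    show e _ = 1
    rw [QuotientGroup.mk'_apply, (QuotientGroup.eq_one_iff x).mpr hx, map_one]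
  have hKtop : K.map f = ⊤ := by
    rcases (hKn.map f hfs).eq_bot_or_eq_top with r | r
    · exfalso
      refine hnot fun k hk => hf1 k ?_
      have h' := mem_map_of_mem f hk
      rwa [r, mem_bot] at h'
    · exact r
  have hdec : ∀ c : (centralizer ({t} : Set G)), ∃ k ∈ K, k⁻¹ * c ∈ Q := fun c => by
    obtain ⟨k, hk, hkc⟩ := hKtop.ge (mem_top (f c))
    exact ⟨k, hk, hf1 _ (by rw [map_mul, map_inv, hkc, inv_mul_cancel])⟩
  have htC : t ∈ (centralizer ({t} : Set G)) := mem_centralizer_singleton_iff.mpr rfl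
  set w : (centralizer ({t} : Set G)) := ⟨t, htC⟩ with hw
  have hwc : ∀ c : (centralizer ({t} : Set G)), c * w = w * c := fun c => Subtype.ext (mem_centralizer_singleton_iff.mp c.2)
  have hwQ : w ∈ Q := hf1 _ (a5_center _ fun b => by
    obtain ⟨c, rfl⟩ := hfs b
    rw [← map_mul, ← map_mul, hwc])
  have hw1 : w ≠ 1 := fun r => ht1 (congrArg Subtype.val r)
  have hww : w * w = 1 := Subtype.ext (by
    show t * t = 1
    rw [← pow_two, ← ht, pow_orderOf_eq_one])
  have hcen : ∀ x ∈ Q, (∀ q ∈ Q, q * x = x * q) → x = 1 ∨ x = w := fun x hx hxc =>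
    comm_cases hX hwQ (fun q _ => hwc q) hw1 hx hxc
  have hcomm : ∀ a ∈ Q, ∀ b ∈ Q, a * b = b * a ∨ a * b = w * (b * a) := by
    intro a ha b hb
    rcases H92.eq_one_or_center hX ⟨⟨w, hwQ⟩, mem_center_iff.mpr fun q => Subtype.ext (hwc q), rfl⟩
        hw1 (H92.commutator_mem_center_map hX ha hb) with r | r
    · left
      calc a * b = (a * b * a⁻¹ * b⁻¹) * (b * a) := by group
        _ = b * a := by rw [r, one_mul]
    · right
      calc a * b = (a * b * a⁻¹ * b⁻¹) * (b * a) := by group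
        _ = _ := by rw [r]; rfl
  -- commutators inside 2-subgroups of `(centralizer ({t} : Set G))`
  have hfact : ∀ (S : Subgroup (centralizer ({t} : Set G))), IsPGroup 2 S → ∀ x ∈ S, ∀ y ∈ S,
      x * y = y * x ∨ x * y = w * (y * x) := by
    intro S hS x hx y hy
    have hsq : ∀ z ∈ S, f z * f z = 1 := fun z hz => by
      obtain ⟨k, hk⟩ := hS ⟨z, hz⟩
      refine a5_sq (k := k) ?_
      rw [← map_pow, show z ^ (2 ^ k) = 1 from congrArg Subtype.val hk, map_one]
    obtain ⟨k, hk, hq⟩ := hdec x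
    obtain ⟨k', hk', hq'⟩ := hdec y
    have hfk : f k = f x := by
      have := hQf _ hq
      rw [map_mul, map_inv, inv_mul_eq_one] at this
      exact this
    have hfk' : f k' = f y := by
      have := hQf _ hq'
      rw [map_mul, map_inv, inv_mul_eq_one] at this
      exact this
    set q := k⁻¹ * x with hqd
    set q' := k'⁻¹ * y with hqd'
    have hfc : f x * f y = f y * f x := by
      have h3 := hsq _ (mul_mem hx hy)
      rw [map_mul] at h3
      calc f x * f y = f x * (f x * f y * (f x * f y)) * f y := by rw [h3, mul_one]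
        _ = (f x * f x) * (f y * f x) * (f y * f y) := by group
        _ = f y * f x := by rw [hsq _ hx, hsq _ hy, one_mul, mul_one]
    have hkk : k * k' = k' * k ∨ k * k' = w * (k' * k) := by
      set r := k * k' * k⁻¹ * k'⁻¹ with hr
      have hrK : r ∈ K := mul_mem (mul_mem (mul_mem hk hk') (inv_mem hk)) (inv_mem hk')
      have hrQ : r ∈ Q := hf1 _ (by
        simp only [hr, map_mul, map_inv, hfk, hfk', hfc]; group)
      rcases hcen r hrQ (fun a ha => mem_centralizer_iff.mp hrK a ha) with e | e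
      · left
        calc k * k' = r * (k' * k) := by rw [hr]; group
          _ = _ := by rw [e, one_mul]
      · right
        calc k * k' = r * (k' * k) := by rw [hr]; group
          _ = _ := by rw [e]
    have c1 : q * k' = k' * q := mem_centralizer_iff.mp hk' q hq
    have c2 : q' * k = k * q' := mem_centralizer_iff.mp hk q' hq'
    have hxy : x * y = (k * k') * (q * q') := by
      calc x * y = k * q * (k' * q') := by rw [hqd, hqd']; group
        _ = k * (q * k') * q' := by group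
        _ = _ := by rw [c1]; group
    have hyx : y * x = (k' * k) * (q' * q) := by
      calc y * x = k' * q' * (k * q) := by rw [hqd, hqd']; group
        _ = k' * (q' * k) * q := by group
        _ = _ := by rw [c2]; group
    rcases hkk with e1 | e1 <;> rcases hcomm q hq q' hq' with e2 | e2
    · exact Or.inl (by rw [hxy, hyx, e1, e2])
    · refine Or.inr ?_
      rw [hxy, hyx, e1, e2, ← mul_assoc, hwc (k' * k)]
      group
    · exact Or.inr (by rw [hxy, hyx, e1, e2]; group)
    · refine Or.inl ?_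
      rw [hxy, hyx, e1, e2]
      calc w * (k' * k) * (w * (q' * q)) = w * ((k' * k) * w) * (q' * q) := by group
        _ = (w * w) * (k' * k * (q' * q)) := by rw [hwc]; group
        _ = _ := by rw [hww, one_mul]
  have hG : ∀ (T : Subgroup G), IsPGroup 2 T → T ≤ (centralizer ({t} : Set G)) → ∀ x ∈ T, ∀ y ∈ T,
      x * y = y * x ∨ x * y = t * (y * x) := by
    intro T hT hTC x hx y hy
    rcases hfact (T.subgroupOf (centralizer ({t} : Set G))) (hT.comap_of_injective (centralizer ({t} : Set G)).subtype (centralizer ({t} : Set G)).subtype_injective)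
      ⟨x, hTC hx⟩ (mem_subgroupOf.mpr hx) ⟨y, hTC hy⟩ (mem_subgroupOf.mpr hy) with r | r
    · exact Or.inl (congrArg Subtype.val r)
    · exact Or.inr (congrArg Subtype.val r)
  have hPC : (P : Subgroup G) ≤ (centralizer ({t} : Set G)) := fun x hx => mem_centralizer_singleton_iff.mpr (hPt x hx)
  set P' := P.subtype hPC with hP'
  have hQP : Q ≤ (P' : Subgroup (centralizer ({t} : Set G))) := by
    have hQp : IsPGroup 2 Q := IsPGroup.of_card (n := 5) (by rw [hcard]; norm_num)
    have hp := hQp.to_sup_of_normal_left P'.isPGroup'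
    have := P'.is_maximal' hp le_sup_right
    exact this ▸ le_sup_left
  have hnwc : ∃ g : G, g * t * g⁻¹ ∈ (P : Subgroup G) ∧ g * t * g⁻¹ ≠ t := by
    by_contra hno
    push Not at hno
    obtain ⟨N, hN, hodd, hcom⟩ := Cfsg.Agent.S0215.result P t ht htP hno
    rcases hN.eq_bot_or_eq_top with r | r
    · have hzc : ∀ g : G, g * t = t * g := fun g => by
        have h := hcom g
        rw [r, mem_bot] at h
        calc g * t = (t * g * t⁻¹ * g⁻¹) * (g * t) := by rw [h, one_mul]
          _ = t * g := by group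
      haveI hZn : (zpowers t).Normal := ⟨fun a ha g => by
        obtain ⟨n, rfl⟩ := mem_zpowers_iff.mp ha
        rw [((show Commute g t from hzc g).zpow_right n).eq, mul_inv_cancel_right]
        exact zpow_mem (mem_zpowers t) n⟩
      rcases hZn.eq_bot_or_eq_top with r' | r'
      · exact ht1 (by simpa [r', mem_bot] using mem_zpowers t)
      · have h1 : Nat.card G = 2 := by rw [← Subgroup.card_top, ← r', Nat.card_zpowers, ht]
        have h2 : Nat.card Q ≤ Nat.card (centralizer ({t} : Set G)) := Subgroup.card_le_card_group Q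
        have h3 : Nat.card (centralizer ({t} : Set G)) ≤ Nat.card G := Subgroup.card_le_card_group (centralizer ({t} : Set G))
        omega
    · rw [r, Subgroup.card_top] at hodd
      have h2 : orderOf t ∣ Nat.card G := orderOf_dvd_natCard t
      rw [ht] at h2
      exact (Nat.not_even_iff_odd.mpr hodd) (even_iff_two_dvd.mpr h2)
  obtain ⟨g, hgP, hgt⟩ := hnwc
  set u : G := g * t * g⁻¹ with hu
  obtain ⟨k0, hk0, hq0⟩ := hdec ⟨u, hPC hgP⟩
  obtain ⟨a, ha, b, hb, ha0, hb0, hab⟩ :=
    exists_noncomm_pair hw1 hwQ hcard (fun q _ => hwc q) hcen hcomm hq0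
  have hau : ∀ a ∈ Q, a * (k0⁻¹ * ⟨u, hPC hgP⟩) = (k0⁻¹ * ⟨u, hPC hgP⟩) * a →
      (a : G) * u = u * a := by
    intro a ha h
    have h1 : a * k0 = k0 * a := mem_centralizer_iff.mp hk0 a ha
    have : a * (k0 * (k0⁻¹ * ⟨u, hPC hgP⟩)) = (k0 * (k0⁻¹ * ⟨u, hPC hgP⟩)) * a := by
      rw [← mul_assoc, h1, mul_assoc, h, ← mul_assoc]
    rw [mul_inv_cancel_left] at this
    exact congrArg Subtype.val this
  have hT : IsPGroup 2 ((P : Subgroup G) ⊓ centralizer ({u} : Set G) : Subgroup G) :=
    P.isPGroup'.to_le inf_le_left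
  set T := (P : Subgroup G) ⊓ centralizer ({u} : Set G) with hTdef
  have haT : (a : G) ∈ T := ⟨hQP ha, mem_centralizer_singleton_iff.mpr (hau a ha ha0)⟩
  have hbT : (b : G) ∈ T := ⟨hQP hb, mem_centralizer_singleton_iff.mpr (hau b hb hb0)⟩
  have habG : (a : G) * b ≠ b * a := fun r => hab (Subtype.ext r)
  have r1 := (hG P P.isPGroup' hPC _ (hQP ha) _ (hQP hb)).resolve_left habG
  -- the same seen from the conjugate
  have hmap : T.map (MulAut.conj g⁻¹).toMonoidHom ≤ (centralizer ({t} : Set G)) := by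
    rintro _ ⟨x, hx, rfl⟩
    refine mem_centralizer_singleton_iff.mpr ?_
    have hxu := mem_centralizer_singleton_iff.mp hx.2
    show g⁻¹ * x * g⁻¹⁻¹ * t = t * (g⁻¹ * x * g⁻¹⁻¹)
    calc g⁻¹ * x * g⁻¹⁻¹ * t = g⁻¹ * (x * u) * g := by rw [hu]; group
      _ = g⁻¹ * (u * x) * g := by rw [hxu]
      _ = _ := by rw [hu]; group
  rcases hG _ (hT.map _) hmap _ (mem_map_of_mem _ haT) _ (mem_map_of_mem _ hbT) with r2 | r2
  · simp only [← map_mul] at r2
    exact habG ((MulEquiv.injective _) r2)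
  · have r3 : (a : G) * b = u * (b * a) := by
      apply (MulAut.conj g⁻¹).injective
      have hut : (MulAut.conj g⁻¹) u = t := by simp [hu, mul_assoc]
      rw [map_mul, map_mul, hut, map_mul]
      exact r2
    exact hgt (mul_right_cancel (r3.symm.trans r1))

end Cfsg.Agent.H52.JThree
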