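import Cfsg.Agent.H52.JThree.Classes
import Cfsg.Agent.H52.JThree.CharTables
import Cfsg.Agent.Coprime.J1.Chars

/-!
Seven generalised characters of the centraliser, vanishing off the special classes.
-/

set_option autoImplicit false
set_option linter.style.haveILetI false
set_option linter.unusedSectionVars false
set_option maxRecDepth 100000
set_option synthInstance.maxSize 4000
set_option synthInstance.maxHeartbeats 400000

namespace Cfsg.Agent.H52.JThree

open Code Subgroup
open Cfsg.Agent.CharBasic Cfsg.Agent.CharInduce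
open Cfsg.Agent.Coprime.J1 (ω ζ ω_pow ζ_pow ω_sum ζ_sum)
open scoped ComplexConjugate

namespace Code

/-- A root of unity of order 30. -/
noncomputable def γ : ℂˣ := -(ω * ζ)

/-- Coefficients of a power of `γ`. -/
def red (e : ℕ) : V8 :=
  let s : ℤ := if e % 2 = 0 then 1 else -1
  let w : ℤ × ℤ := if e % 3 = 0 then (1, 0) else if e % 3 = 1 then (0, 1) else (-1, -1)
  let c : ℤ × ℤ × ℤ × ℤ := if e % 5 = 0 then (1, 0, 0, 0) else if e % 5 = 1 then (0, 1, 0, 0)
    else if e % 5 = 2 then (0, 0, 1, 0) else if e % 5 = 3 then (0, 0, 0, 1) else (-1, -1, -1, -1)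
  (s * w.1 * c.1, s * w.1 * c.2.1, s * w.1 * c.2.2.1, s * w.1 * c.2.2.2,
    s * w.2 * c.1, s * w.2 * c.2.1, s * w.2 * c.2.2.1, s * w.2 * c.2.2.2)

/-- Evaluation. -/
noncomputable def ev (v : V8) : ℂ :=
  (v.1 : ℂ) + v.2.1 * ζ + v.2.2.1 * (ζ : ℂ) ^ 2 + v.2.2.2.1 * (ζ : ℂ) ^ 3 +
    (ω : ℂ) * ((v.2.2.2.2.1 : ℂ) + v.2.2.2.2.2.1 * ζ + v.2.2.2.2.2.2.1 * (ζ : ℂ) ^ 2 +
      v.2.2.2.2.2.2.2 * (ζ : ℂ) ^ 3)

theorem ev_zero : ev 0 = 0 := by simp [ev]

theorem ev_add (v w : V8) : ev (v + w) = ev v + ev w := by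
  simp only [ev, Prod.fst_add, Prod.snd_add]; push_cast; ring

theorem ev_smul (k : ℤ) (v : V8) : ev (k • v) = (k : ℂ) * ev v := by
  simp only [ev, Prod.smul_fst, Prod.smul_snd, smul_eq_mul]; push_cast; ring

theorem ev_sum {ι : Type*} (s : Finset ι) (f : ι → V8) : ev (∑ i ∈ s, f i) = ∑ i ∈ s, ev (f i) := by
  classical
  induction s using Finset.induction_on with
  | empty => simp [ev_zero]
  | insert i s hi ih => rw [Finset.sum_insert hi, Finset.sum_insert hi, ev_add, ih]

theorem γ_pow_thirty : γ ^ 30 = 1 := by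
  have hw : ω ^ 30 = 1 := by rw [show (30 : ℕ) = 3 * 10 by norm_num, pow_mul, ω_pow, one_pow]
  have hz : ζ ^ 30 = 1 := by rw [show (30 : ℕ) = 5 * 6 by norm_num, pow_mul, ζ_pow, one_pow]
  rw [γ, neg_pow, mul_pow, hw, hz, Even.neg_one_pow ⟨15, rfl⟩, mul_one, mul_one]

theorem ev_red (e : ℕ) : ev (red e) = (γ : ℂ) ^ e := by
  have h3 : (ω : ℂ) ^ 3 = 1 := by rw [← Units.val_pow_eq_pow_val, ω_pow]; rfl
  have h5 : (ζ : ℂ) ^ 5 = 1 := by rw [← Units.val_pow_eq_pow_val, ζ_pow]; rfl
  have hg : (γ : ℂ) ^ e = (-1) ^ (e % 2) * (ω : ℂ) ^ (e % 3) * (ζ : ℂ) ^ (e % 5) := by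
    rw [γ, Units.val_neg, Units.val_mul, neg_pow, mul_pow, ← mul_assoc,
      pow_eq_pow_mod e (by norm_num : ((-1 : ℂ)) ^ 2 = 1), pow_eq_pow_mod e h3, pow_eq_pow_mod e h5]
  rw [hg]
  have i2 : e % 2 = 0 ∨ e % 2 = 1 := by omega
  have i3 : e % 3 = 0 ∨ e % 3 = 1 ∨ e % 3 = 2 := by omega
  have i5 : e % 5 = 0 ∨ e % 5 = 1 ∨ e % 5 = 2 ∨ e % 5 = 3 ∨ e % 5 = 4 := by omega
  have hw : (ω : ℂ) ^ 2 = -1 - ω := by linear_combination ω_sum
  have hz : (ζ : ℂ) ^ 4 = -1 - ζ - (ζ : ℂ) ^ 2 - (ζ : ℂ) ^ 3 := by linear_combination ζ_sum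
  rcases i2 with a | a <;> rcases i3 with b | b | b <;> rcases i5 with c | c | c | c | c <;>
    simp [red, ev, a, b, c, hw, hz] <;> ring

/-- A real value `u + v (ζ + ζ⁴)`. -/
noncomputable def realV (p : ℤ × ℤ) : ℂ := (p.1 : ℂ) + p.2 * ((ζ : ℂ) + (ζ : ℂ) ^ 4)

/-- Its coefficients. -/
def emb (p : ℤ × ℤ) : V8 := (p.1 - p.2, 0, -p.2, -p.2, 0, 0, 0, 0)

theorem ev_emb (p : ℤ × ℤ) : ev (emb p) = realV p := by
  simp only [ev, emb, realV]
  push_cast
  linear_combination -(p.2 : ℂ) * ζ_sum

theorem conj_realV (p : ℤ × ℤ) : conj (realV p) = realV p := by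
  have h5 : (ζ : ℂ) ^ 5 = 1 := by rw [← Units.val_pow_eq_pow_val, ζ_pow]; rfl
  simp only [realV, map_add, map_mul, map_intCast, map_pow, Cfsg.Agent.Coprime.J1.conj_ζ]
  linear_combination ((p.2 : ℂ) * ((ζ : ℂ) ^ 11 + (ζ : ℂ) ^ 6 + ζ)) * h5

/-- The value of a combination. -/
def val (r c : ℕ) : ℤ × ℤ := (valTab.getD r []).getD c (0, 0)

/-- The product of two values. -/
def mulV (p q : ℤ × ℤ) : ℤ × ℤ := (p.1 * q.1 + p.2 * q.2, p.1 * q.2 + p.2 * q.1 - p.2 * q.2)

theorem realV_mul (p q : ℤ × ℤ) : realV (mulV p q) = realV p * realV q := by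
  simp only [realV, mulV]
  have h5 : (ζ : ℂ) ^ 5 = 1 := by rw [← Units.val_pow_eq_pow_val, ζ_pow]; rfl
  push_cast
  linear_combination (-(p.2 : ℂ) * q.2) * ζ_sum + ((p.2 : ℂ) * q.2 * (-2 - (ζ : ℂ) ^ 3)) * h5

theorem realV_add (p q : ℤ × ℤ) : realV (p + q) = realV p + realV q := by
  simp only [realV, Prod.fst_add, Prod.snd_add]; push_cast; ring

theorem realV_int (n : ℤ) : realV (n, 0) = n := by simp [realV]

theorem realV_smul (k : ℤ) (p : ℤ × ℤ) : realV (k • p) = (k : ℂ) * realV p := by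
  simp only [realV, Prod.smul_fst, Prod.smul_snd, smul_eq_mul]; push_cast; ring

theorem realV_sum {ι : Type*} (s : Finset ι) (f : ι → ℤ × ℤ) :
    realV (∑ i ∈ s, f i) = ∑ i ∈ s, realV (f i) := by
  classical
  induction s using Finset.induction_on with
  | empty => simp [realV]
  | insert i s hi ih => rw [Finset.sum_insert hi, Finset.sum_insert hi, realV_add, ih]

/-- Checks on one linear character. -/
def linCheck (L : LinData) : Bool :=
  (L.gens.all fun g => Nat.blt g.1 1920) &&
  (match grow L.gens L.tree 1 with | some S => Nat.beq S L.mem | none => false) &&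
  hasBit L.mem 0 && Nat.beq (look L.tab 5 0) 0 &&
  (((List.range 1920).filter fun i => hasBit L.mem i).all fun x => L.gens.all fun g =>
    hasBit L.mem (mul x g.1) && Nat.beq (look L.tab 5 (mul x g.1)) ((look L.tab 5 x + g.2) % 30)) &&
  Nat.beq (L.fac * ((List.range 1920).filter fun i => hasBit L.mem i).length) 1920

theorem lin_check : linAll.all linCheck = true := by decide +kernel

/-- The stored sum over one class. -/
def tsum (k c : ℕ) : V8 := (sumTab.getD k []).getD c 0

/-- The stored linear character. -/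
def lin (k : ℕ) : LinData := linAll.getD k lin0

/-- The sum over one class, computed. -/
def csum (L : LinData) (c : ℕ) : V8 :=
  ((((List.range 1920).filter fun i => hasBit L.mem i).filter fun i => Nat.beq (cls i) c).map
    fun i => red (look L.tab 5 i)).sum

theorem sum_check : ∀ k < 16, ∀ c < 16, csum (lin k) c = tsum k c := by decide +kernel

/-- The combinations give the values. -/
def combCheck (r c : ℕ) : Bool :=
  decide (((combTab.getD r []).map fun p => (p.2 * ((lin p.1).fac : ℤ)) • tsum p.1 c).sum =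
    (size c : ℤ) • emb (val r c)) && (combTab.getD r []).all fun p => Nat.blt p.1 16

theorem comb_check : ∀ r < 7, ∀ c < 16, combCheck r c = true := by decide +kernel

theorem lin_mem {k : ℕ} (hk : k < 16) : lin k ∈ linAll := by
  have : k < linAll.length := hk
  rw [lin, List.getD_eq_getElem _ _ this]
  exact List.getElem_mem this

end Code

namespace Frame

variable {G : Type*} [Group G] (F : Frame G)

/-- The centraliser. -/
abbrev Cz : Subgroup G := centralizer ({F.z} : Set G)

theorem mem_Cz {c : G} : c ∈ F.Cz ↔ c * F.z = F.z * c := mem_centralizer_singleton_iff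

theorem comm (c : F.Cz) : (c : G) * F.z = F.z * c := F.mem_Cz.mp c.2

/-- An element of the centraliser. -/
def el (i : Fin 1920) : F.Cz := ⟨F.φ i, F.mem_Cz.mpr (F.comm_z i.2)⟩

theorem el_bij : Function.Bijective F.el :=
  ⟨fun i j h => Fin.ext (F.inj i.2 j.2 (congrArg Subtype.val h)),
   fun c => ⟨⟨F.code c, F.code_lt c⟩, Subtype.ext (F.φ_code (F.comm c))⟩⟩

theorem card_Cz : Nat.card F.Cz = 1920 := by
  rw [← Nat.card_congr (Equiv.ofBijective _ F.el_bij), Nat.card_eq_fintype_card, Fintype.card_fin]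

variable [Fintype F.Cz]

theorem sum_Cz {M : Type*} [AddCommMonoid M] (f : G → M) :
    ∑ c : F.Cz, f c = ∑ i ∈ Finset.range 1920, f (F.φ i) := by
  rw [← Fin.sum_univ_eq_sum_range (fun i => f (F.φ i)) 1920]
  exact (Fintype.sum_bijective F.el F.el_bij _ _ fun i => rfl).symm

/-- The combination on the centraliser. -/
noncomputable def psi (r : ℕ) (c : F.Cz) : ℂ := realV (val r (F.classOf c))

theorem psi_class (r : ℕ) : Cfsg.IsClassFunction F.Cz (F.psi r) := fun c g => by
  simp only [psi]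
  rw [show (((g * c * g⁻¹ : F.Cz) : G)) = (g : G) * c * (g : G)⁻¹ from rfl,
    F.classOf_conj (F.comm g) (F.comm c)]

theorem el_rep {f : F.Cz → ℂ} (hf : Cfsg.IsClassFunction F.Cz f) {i : ℕ} (hi : i < 1920) :
    f (F.el ⟨i, hi⟩) = f (F.el ⟨rep (cls i), (rep_check _ (cls_lt hi)).1⟩) := by
  obtain ⟨y, hy, he⟩ := F.exists_conj_rep hi
  have := hf (F.el ⟨rep (cls i), (rep_check _ (cls_lt hi)).1⟩) ⟨y, F.mem_Cz.mpr hy⟩
  rw [← this]
  exact congrArg f (Subtype.ext he.symm)

/-- The subgroup of a linear character. -/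
noncomputable def linSub (k : ℕ) : Subgroup F.Cz :=
  Subgroup.closure {c : F.Cz | hasBit (lin k).mem (F.code c) = true}

include F in
theorem lin_props {k : ℕ} (hk : k < 16) :
    hasBit (lin k).mem 0 = true ∧ look (lin k).tab 5 0 = 0 ∧
    (lin k).fac * ((List.range 1920).filter fun i => hasBit (lin k).mem i).length = 1920 ∧
    ∀ y < 1920, hasBit (lin k).mem y = true → ∀ x < 1920, hasBit (lin k).mem x = true →
      hasBit (lin k).mem (Code.mul x y) = true ∧
        look (lin k).tab 5 (Code.mul x y) % 30 = (look (lin k).tab 5 x + look (lin k).tab 5 y) % 30 := by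
  have h := List.all_eq_true.mp lin_check _ (lin_mem hk)
  simp only [linCheck, Bool.and_eq_true, List.all_eq_true, Nat.blt_eq, List.mem_filter,
    List.mem_range] at h
  obtain ⟨⟨⟨⟨⟨hg, hgrow⟩, h0⟩, ht0⟩, hstep⟩, hcard⟩ := h
  refine ⟨h0, Nat.eq_of_beq_eq_true ht0, Nat.eq_of_beq_eq_true hcard, ?_⟩
  set L := lin k with hL
  cases hgr : grow L.gens L.tree 1 with
  | none => rw [hgr] at hgrow; simp at hgrow
  | some S =>
    rw [hgr] at hgrow
    have hS : S = L.mem := Nat.eq_of_beq_eq_true hgrow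
    intro y hy hym
    let P : ℕ → Prop := fun y => y < 1920 ∧ hasBit L.mem y = true ∧ ∀ x < 1920, hasBit L.mem x = true →
      hasBit L.mem (Code.mul x y) = true ∧
        look L.tab 5 (Code.mul x y) % 30 = (look L.tab 5 x + look L.tab 5 y) % 30
    refine (grow_spec P ?_ ?_ hgr y (hS ▸ hym)).2.2
    · rintro a ha ⟨-, ham, hax⟩ g hgm
      have hgl := hg g hgm
      obtain ⟨s1, s2⟩ := hstep a ⟨ha, ham⟩ g hgm
      refine ⟨Code.mul_lt ha hgl, s1, fun x hx hxm => ?_⟩
      obtain ⟨x1, x2⟩ := hax x hx hxm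
      obtain ⟨t1, t2⟩ := hstep _ ⟨Code.mul_lt hx ha, x1⟩ g hgm
      have e : Code.mul x (Code.mul a g.1) = Code.mul (Code.mul x a) g.1 :=
        F.inj (Code.mul_lt hx (Code.mul_lt ha hgl)) (Code.mul_lt (Code.mul_lt hx ha) hgl)
          (by rw [F.map_mul hx (Code.mul_lt ha hgl), F.map_mul ha hgl, F.map_mul (Code.mul_lt hx ha) hgl,
            F.map_mul hx ha, mul_assoc])
      rw [e]
      refine ⟨t1, ?_⟩
      rw [Nat.eq_of_beq_eq_true t2, Nat.eq_of_beq_eq_true s2]
      omega
    · intro i hi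
      rw [hasBit_one hi]
      refine ⟨by norm_num, h0, fun x hx hxm => ?_⟩
      have e : Code.mul x 0 = x := F.inj (Code.mul_lt hx (by norm_num)) hx
        (by rw [F.map_mul hx (by norm_num), F.map_zero, mul_one])
      rw [e]
      exact ⟨hxm, by rw [Nat.eq_of_beq_eq_true ht0, add_zero]⟩

theorem mem_linSub {k : ℕ} (hk : k < 16) {c : F.Cz} :
    c ∈ F.linSub k ↔ hasBit (lin k).mem (F.code c) = true := by
  refine ⟨fun h => ?_, fun h => subset_closure h⟩
  have hcode : ∀ a b : F.Cz, F.code ((a * b : F.Cz) : G) = Code.mul (F.code a) (F.code b) := fun a b =>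
    F.inj (F.code_lt _) (Code.mul_lt (F.code_lt _) (F.code_lt _)) (by
      rw [F.φ_code (F.comm (a * b)), F.map_mul (F.code_lt _) (F.code_lt _), F.φ_code (F.comm a),
        F.φ_code (F.comm b)]; rfl)
  obtain ⟨h0, -, -, hclosed⟩ := F.lin_props hk
  let M : Submonoid F.Cz :=
    { carrier := {c | hasBit (lin k).mem (F.code c) = true}
      one_mem' := by
        show hasBit (lin k).mem (F.code ((1 : F.Cz) : G)) = true
        rw [OneMemClass.coe_one, ← F.map_zero, F.code_φ (by norm_num)]
        exact h0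
      mul_mem' := fun {a b} ha hb => by
        show hasBit (lin k).mem (F.code ((a * b : F.Cz) : G)) = true
        rw [hcode]
        exact (hclosed _ (F.code_lt _) hb _ (F.code_lt _) ha).1 }
  have hc : (Subgroup.closure (M : Set F.Cz)).toSubmonoid = Submonoid.closure (M : Set F.Cz) :=
    Subgroup.closure_toSubmonoid_of_finite
  have hh : c ∈ (Subgroup.closure (M : Set F.Cz)).toSubmonoid := h
  rw [hc, Submonoid.closure_eq] at hh
  exact hh

open scoped Classical in
/-- The exponent of a linear character. -/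
noncomputable def linHom (k : ℕ) : F.linSub k →* ℂˣ :=
  if hk : k < 16 then
    { toFun := fun c => γ ^ look (lin k).tab 5 (F.code ((c : F.Cz) : G))
      map_one' := by
        rw [OneMemClass.coe_one, OneMemClass.coe_one, ← F.map_zero, F.code_φ (by norm_num),
          (F.lin_props hk).2.1, pow_zero]
      map_mul' := fun a b => by
        have ha := (F.mem_linSub hk).mp a.2
        have hb := (F.mem_linSub hk).mp b.2
        have hcode : F.code (((a * b : F.linSub k) : F.Cz) : G) =
            Code.mul (F.code ((a : F.Cz) : G)) (F.code ((b : F.Cz) : G)) :=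
          F.inj (F.code_lt _) (Code.mul_lt (F.code_lt _) (F.code_lt _)) (by
            rw [F.φ_code (F.comm _), F.map_mul (F.code_lt _) (F.code_lt _), F.φ_code (F.comm a.1),
              F.φ_code (F.comm b.1)]; rfl)
        rw [hcode, ← pow_add]
        have hm := ((F.lin_props hk).2.2.2 _ (F.code_lt _) hb _ (F.code_lt _) ha).2
        rw [pow_eq_pow_mod _ γ_pow_thirty, hm, ← pow_eq_pow_mod _ γ_pow_thirty] }
  else 1

/-- The induced character. -/
noncomputable def linInd (k : ℕ) : F.Cz → ℂ := Cfsg.indFun (F.linSub k) fun h => (F.linHom k h : ℂ)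

theorem sum_linSub [∀ k, Fintype (F.linSub k)] {k : ℕ} (hk : k < 16) (f : ℕ → ℂ) :
    ∑ h : F.linSub k, f (F.code ((h : F.Cz) : G)) =
      (((List.range 1920).filter fun i => hasBit (lin k).mem i).map f).sum := by
  classical
  rw [← List.sum_toFinset _ (List.nodup_range.filter _)]
  refine Finset.sum_bij' (fun h _ => F.code ((h : F.Cz) : G))
    (fun i hi => (⟨F.el ⟨i, List.mem_range.mp (List.mem_filter.mp (List.mem_toFinset.mp hi)).1⟩, by
      rw [F.mem_linSub hk]
      obtain ⟨h1, h2⟩ := List.mem_filter.mp (List.mem_toFinset.mp hi)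
      show hasBit _ (F.code (F.φ i)) = true
      rw [F.code_φ (List.mem_range.mp h1)]; exact h2⟩ : F.linSub k))
    (fun h _ => List.mem_toFinset.mpr (List.mem_filter.mpr
      ⟨List.mem_range.mpr (F.code_lt _), (F.mem_linSub hk).mp h.2⟩))
    (fun _ _ => Finset.mem_univ _) (fun h _ => Subtype.ext (Subtype.ext (F.φ_code (F.comm h.1))))
    (fun i hi => F.code_φ (List.mem_range.mp (List.mem_filter.mp (List.mem_toFinset.mp hi)).1))
    (fun h _ => rfl)

theorem card_linSub {k : ℕ} (hk : k < 16) : ((lin k).fac : ℂ) * (Nat.card (F.linSub k) : ℂ) = 1920 := by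
  classical
  have : ∀ j, Fintype (F.linSub j) := fun j => Fintype.ofFinite _
  have h := F.sum_linSub hk (fun _ => (1 : ℂ))
  simp only [Finset.sum_const, Finset.card_univ, nsmul_eq_mul, mul_one, List.map_const',
    List.sum_replicate] at h
  rw [Nat.card_eq_fintype_card, h]
  exact_mod_cast (F.lin_props hk).2.2.1

theorem inner_indicator {f : F.Cz → ℂ} (hf : Cfsg.IsClassFunction F.Cz f) {c : ℕ} (hc : c < 16) :
    Cfsg.classInner f (fun x => if F.classOf x = c then 1 else 0) =
      (1920 : ℂ)⁻¹ * ((size c : ℂ) * f (F.el ⟨rep c, (rep_check _ hc).1⟩)) := by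
  classical
  rw [classInner_def, F.card_Cz]
  congr 1
  let g : ℕ → ℂ := fun d => if h : d < 16 then
    if d = c then f (F.el ⟨rep d, (rep_check _ h).1⟩) else 0 else 0
  have e : ∑ x : F.Cz, f x * conj (if F.classOf x = c then (1 : ℂ) else 0) =
      ∑ i ∈ Finset.range 1920, g (cls i) := by
    rw [← Fin.sum_univ_eq_sum_range (fun i => g (cls i)) 1920]
    refine (Fintype.sum_bijective F.el F.el_bij _ _ fun i => ?_).symm
    have hci : F.classOf ((F.el i : F.Cz) : G) = cls i := congrArg cls (F.code_φ i.2)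
    simp only [g, dif_pos (cls_lt i.2), hci]
    split_ifs with h
    · rw [_root_.map_one, mul_one]; exact (F.el_rep hf i.2).symm
    · rw [_root_.map_zero, mul_zero]
  rw [e, Frame.sum_cls, Finset.sum_eq_single c]
  · simp only [g, dif_pos hc, if_pos, nsmul_eq_mul]
  · intro d _ hd
    simp only [g, hd, if_false, dite_eq_ite, ite_self, smul_zero]
  · exact fun h => absurd (Finset.mem_range.mpr hc) h

theorem linInd_rep {k : ℕ} (hk : k < 16) {c : ℕ} (hc : c < 16) :
    (size c : ℂ) * F.linInd k (F.el ⟨rep c, (rep_check _ hc).1⟩) = ((lin k).fac : ℂ) * ev (tsum k c) := by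
  classical
  have : ∀ j, Fintype (F.linSub j) := fun j => Fintype.ofFinite _
  have hχ : Cfsg.IsClassFunction F.Cz (fun x : F.Cz => if F.classOf x = c then (1 : ℂ) else 0) :=
    fun x g => by
      show (if F.classOf ((g * x * g⁻¹ : F.Cz) : G) = c then (1 : ℂ) else 0) = _
      rw [show F.classOf ((g * x * g⁻¹ : F.Cz) : G) = F.classOf x from F.classOf_conj (F.comm g) (F.comm x)]
  have h := F.inner_indicator (f := F.linInd k) (isClassFunction_indFun _ _) hc
  rw [linInd, classInner_indFun_left _ _ _ hχ, classInner_def] at h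
  have hs : ∑ x : F.linSub k, (F.linHom k x : ℂ) *
      conj (if F.classOf ((x : F.Cz) : G) = c then (1 : ℂ) else 0) = ev (tsum k c) := by
    rw [← sum_check k hk c hc]
    have h2 := F.sum_linSub hk fun i => if cls i = c then (γ : ℂ) ^ look (lin k).tab 5 i else 0
    have h3 : ∀ x : F.linSub k, (F.linHom k x : ℂ) *
        conj (if F.classOf ((x : F.Cz) : G) = c then (1 : ℂ) else 0) =
        if cls (F.code ((x : F.Cz) : G)) = c then (γ : ℂ) ^ look (lin k).tab 5 (F.code ((x : F.Cz) : G))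
          else 0 := fun x => by
      rw [linHom, dif_pos hk]
      show ((γ ^ look (lin k).tab 5 (F.code ((x : F.Cz) : G)) : ℂˣ) : ℂ) * _ = _
      unfold classOf
      split_ifs <;> simp [Units.val_pow_eq_pow_val]
    rw [Finset.sum_congr rfl fun x _ => h3 x, h2, csum]
    generalize (List.range 1920).filter (fun i => hasBit (lin k).mem i) = l
    induction l with
    | nil => simp [ev_zero]
    | cons a l ih =>
      rw [List.map_cons, List.sum_cons, ih, List.filter_cons]
      by_cases hb : cls a = c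
      · rw [if_pos hb, if_pos (hb ▸ Nat.beq_refl _), List.map_cons, List.sum_cons, ev_add, ev_red]
      · rw [if_neg hb, if_neg (fun q => hb (Nat.eq_of_beq_eq_true q)), zero_add]
  rw [hs] at h
  have hfac := F.card_linSub hk
  have h0 : (Nat.card (F.linSub k) : ℂ) ≠ 0 := card_ne_zero_complex _
  have h4 : ((lin k).fac : ℂ) * ev (tsum k c) =
      (1920 : ℂ) * ((Nat.card (F.linSub k) : ℂ)⁻¹ * ev (tsum k c)) := by
    rw [← hfac]; field_simp
  rw [h4, h]
  show (size c : ℂ) * F.linInd k _ = _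
  rw [← mul_assoc, mul_inv_cancel₀ (by norm_num : (1920 : ℂ) ≠ 0), one_mul]
  rfl

theorem psi_eq {r : ℕ} (hr : r < 7) (x : F.Cz) :
    F.psi r x = ((combTab.getD r []).map fun p => (p.2 : ℂ) * F.linInd p.1 x).sum := by
  classical
  obtain ⟨i, rfl⟩ := F.el_bij.2 x
  have hc := cls_lt i.2
  have hcl : Cfsg.IsClassFunction F.Cz
      (fun x => ((combTab.getD r []).map fun p => (p.2 : ℂ) * F.linInd p.1 x).sum) := fun x g => by
    simp only [show ∀ k, F.linInd k (g * x * g⁻¹) = F.linInd k x from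
      fun k => isClassFunction_indFun _ _ x g]
  rw [F.el_rep (F.psi_class r) i.2, F.el_rep hcl i.2]
  have h := comb_check r hr _ hc
  simp only [combCheck, Bool.and_eq_true, decide_eq_true_iff, List.all_eq_true, Nat.blt_eq] at h
  obtain ⟨he, hlt⟩ := h
  have he' := congrArg ev he
  rw [ev_smul, ev_emb] at he'
  have hs : ev ((combTab.getD r []).map fun p => (p.2 * ((lin p.1).fac : ℤ)) • tsum p.1 (cls i)).sum =
      (size (cls i) : ℂ) * ((combTab.getD r []).map fun p => (p.2 : ℂ) *
        F.linInd p.1 (F.el ⟨rep (cls i), (rep_check _ hc).1⟩)).sum := by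
    generalize combTab.getD r [] = l at hlt ⊢
    induction l with
    | nil => simp [ev_zero]
    | cons a l ih =>
      simp only [List.map_cons, List.sum_cons, ev_add, mul_add]
      rw [ih fun p hp => hlt p (List.mem_cons_of_mem _ hp), ev_smul]
      congr 1
      push_cast
      rw [mul_assoc, ← F.linInd_rep (hlt a List.mem_cons_self) hc]
      ring
  rw [hs] at he'
  have hsz : (size (cls i) : ℂ) ≠ 0 := by
    have : ∀ c < 16, size c ≠ 0 := by decide +kernel
    exact_mod_cast this _ hc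
  have hpsi : F.psi r (F.el ⟨rep (cls i), (rep_check _ hc).1⟩) = realV (val r (cls i)) := by
    simp only [psi, classOf, el, F.code_φ (rep_check _ hc).1, (rep_check _ hc).2]
  rw [hpsi]
  push_cast at he'
  exact (mul_left_cancel₀ hsz he').symm

theorem isGen_psi {r : ℕ} (hr : r < 7) : Cfsg.IsGeneralizedCharacter F.Cz (F.psi r) := by
  classical
  rw [show F.psi r = ((combTab.getD r []).map fun p => (p.2 : ℤ) • F.linInd p.1).sum from funext fun x => by
    rw [F.psi_eq hr, Pi.list_sum_apply, List.map_map]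
    congr 1
    exact List.map_congr_left fun p _ => by simp [zsmul_eq_mul]]
  generalize combTab.getD r [] = l
  induction l with
  | nil => exact CharInduce.IsGen.zero
  | cons a l ih =>
    rw [List.map_cons, List.sum_cons]
    exact CharInduce.IsGen.add
      (CharInduce.IsGen.zsmul (CharInduce.IsGen.of_char (IsChar.ind _ (isCharacter_hom _))) _) ih

end Frame

end Cfsg.Agent.H52.JThree
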