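import Cfsg.Agent.H52.JThree.QModel
import Cfsg.Agent.H24.Gaschuetz

/-!
With one class of involutions in `G` the centraliser is the split extension `2^{1+4}:A₅`.
-/

set_option autoImplicit false
set_option linter.style.haveILetI false
set_option linter.unusedSectionVars false
set_option linter.unusedSimpArgs false
set_option synthInstance.maxSize 4000

namespace Cfsg.Agent.H52.JThree

open Subgroup Equiv
open Cfsg.Agent.H43.JTwo
open Cfsg.Agent.H43.JTwo.Uniq (QN qn0 zf lm qmul act qel zp ap Mo CModel phi)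

variable {G : Type*} [Group G] [Finite G] {z : G} {Q : Subgroup G}

namespace NCoord

variable (D : NCoord z Q)

/-- Exact lifts, as a subgroup. -/
def lifts : Subgroup G where
  carrier := {c | ∃ π, D.Exact c π}
  mul_mem' := fun ⟨π, hπ⟩ ⟨ρ, hρ⟩ => ⟨π * ρ, hπ.mul hρ⟩
  one_mem' := ⟨1, D.exact_one⟩
  inv_mem' := fun ⟨π, hπ⟩ => ⟨π⁻¹, hπ.inv⟩

theorem exact_pm (c : D.lifts) : D.Exact (c : G) (D.pm c) := by
  obtain ⟨π, hπ⟩ := c.2
  rwa [hπ.pm_eq]

/-- The permutation of an exact lift. -/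
noncomputable def liftPerm : D.lifts →* alternatingGroup (Fin 5) where
  toFun c := ⟨D.pm c, Perm.mem_alternatingGroup.mpr (D.exact_pm c).even⟩
  map_one' := Subtype.ext D.pm_one
  map_mul' c d := Subtype.ext (((D.exact_pm c).mul (D.exact_pm d)).pm_eq)

theorem liftPerm_surj : Function.Surjective D.liftPerm := fun π => by
  obtain ⟨c, hc⟩ := D.exists_exact (Perm.mem_alternatingGroup.mp π.2)
  exact ⟨⟨c, π, hc⟩, Subtype.ext hc.pm_eq⟩

theorem mem_ker {c : D.lifts} (h : c ∈ D.liftPerm.ker) : (c : G) = 1 ∨ (c : G) = z := by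
  have h' : D.pm (c : G) = 1 := congrArg Subtype.val (MonoidHom.mem_ker.mp h)
  exact (h' ▸ D.exact_pm c : D.Exact (c : G) 1).trivial

/-- Squares of exact lifts of involutions are constant. -/
theorem sq_uniform {c0 c : G} {τ0 τ : Perm (Fin 5)} (h0 : IsInv5 τ0) (h : IsInv5 τ)
    (hc0 : D.Exact c0 τ0) (hc : D.Exact c τ) : c * c = c0 * c0 := by
  obtain ⟨g, hg, hgc⟩ := Coord.inv5_conj _ _ h0 h
  obtain ⟨d, hd⟩ := D.exists_exact hg
  have hconj : d * c0 * d⁻¹ * (d * c0 * d⁻¹) = c0 * c0 := by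
    have hsq := hc0.mul hc0
    rw [h0.2.1] at hsq
    rw [show d * c0 * d⁻¹ * (d * c0 * d⁻¹) = d * (c0 * c0) * d⁻¹ by group]
    rcases hsq.trivial with e | e <;> rw [e]
    · group
    · rw [hd.1, mul_inv_cancel_right]
  have h2 := hc0.conj hd
  rw [hgc] at h2
  rcases h2.unique hc with e | e
  · rw [e, hconj]
  · rw [e, mul_assoc, ← mul_assoc (d * c0 * d⁻¹) z, h2.1, mul_assoc z, D.base.mulZ_inv, hconj]

/-- Involutive exact lifts give a complement. -/
theorem exists_hom (hA : ∀ (τ : Perm (Fin 5)) (c : G), IsInv5 τ → D.Exact c τ → c * c = 1) :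
    ∃ k : alternatingGroup (Fin 5) →* G, ∀ π, D.Exact (k π) π := by
  classical
  set p := D.liftPerm with hp
  have hzp : IsInv5 zp := by decide +kernel
  have hap : IsInv5 ap := by decide +kernel
  have hza : IsInv5 (zp * ap) := by decide +kernel
  obtain ⟨c1, hc1⟩ := D.exists_exact hzp.2.2
  obtain ⟨c2, hc2⟩ := D.exists_exact hap.2.2
  have s1 : c1 * c1 = 1 := hA _ _ hzp hc1
  have s2 : c2 * c2 = 1 := hA _ _ hap hc2
  have s3 : c1 * c2 * (c1 * c2) = 1 := hA _ _ hza (hc1.mul hc2)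
  have hcomm : c2 * c1 = c1 * c2 := by
    calc c2 * c1 = (c1 * c1) * (c2 * c1) * (c2 * c2) := by rw [s1, s2, one_mul, mul_one]
      _ = c1 * (c1 * c2 * (c1 * c2)) * c2 := by group
      _ = c1 * c2 := by rw [s3, mul_one]
  set a1 : D.lifts := ⟨c1, zp, hc1⟩ with ha1
  set a2 : D.lifts := ⟨c2, ap, hc2⟩ with ha2
  have t1 : a1 * a1 = 1 := Subtype.ext s1
  have t2 : a2 * a2 = 1 := Subtype.ext s2
  have tc : a2 * a1 = a1 * a2 := Subtype.ext hcomm
  have t1' : ∀ x, a1 * (a1 * x) = x := fun x => by rw [← mul_assoc, t1, one_mul]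
  have t2' : ∀ x, a2 * (a2 * x) = x := fun x => by rw [← mul_assoc, t2, one_mul]
  have tc' : ∀ x, a2 * (a1 * x) = a1 * (a2 * x) := fun x => by rw [← mul_assoc, tc, mul_assoc]
  let A : Subgroup D.lifts :=
    { carrier := {1, a1, a2, a1 * a2}
      one_mem' := by simp
      mul_mem' := by
        rintro x y (rfl | rfl | rfl | rfl) (rfl | rfl | rfl | rfl) <;>
          simp [mul_assoc, t1, t2, tc, t1', t2', tc']
      inv_mem' := by
        rintro x (rfl | rfl | rfl | rfl) <;>
          simp [mul_inv_rev, inv_eq_of_mul_eq_one_left t1, inv_eq_of_mul_eq_one_left t2, tc] }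
  have p1 : (p a1 : Perm (Fin 5)) = zp := hc1.pm_eq
  have p2 : (p a2 : Perm (Fin 5)) = ap := hc2.pm_eq
  have p3 : (p (a1 * a2) : Perm (Fin 5)) = zp * ap := (hc1.mul hc2).pm_eq
  set K := p.ker with hK
  haveI : K.Normal := inferInstanceAs p.ker.Normal
  have hKc : IsMulCommutative K := ⟨⟨fun x y => by
    apply Subtype.ext
    apply Subtype.ext
    show ((x : D.lifts) : G) * ((y : D.lifts) : G) = ((y : D.lifts) : G) * ((x : D.lifts) : G)
    rcases D.mem_ker x.2 with e | e <;> rcases D.mem_ker y.2 with e' | e' <;> simp [e, e']⟩⟩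
  have hAK : A ⊓ K = ⊥ := by
    rw [eq_bot_iff]
    rintro x ⟨hx, hxK⟩
    have hx1 : (p x : Perm (Fin 5)) = 1 := congrArg Subtype.val (MonoidHom.mem_ker.mp hxK)
    rw [mem_bot]
    rcases hx with rfl | rfl | rfl | rfl
    · rfl
    · exact absurd (p1 ▸ hx1) hzp.1
    · exact absurd (p2 ▸ hx1) hap.1
    · exact absurd (p3 ▸ hx1) hza.1
  set U : Subgroup D.lifts := K ⊔ A with hU
  have S : H24.Gaschuetz.Setup K U A := ⟨inferInstance, hKc, le_sup_left, le_sup_right, hAK, rfl⟩
  have hidx : U.index = 15 := by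
    have hUc : U = (A.map p).comap p := by
      rw [comap_map_eq, sup_comm]
    rw [hUc, index_comap_of_surjective _ D.liftPerm_surj]
    have hAcard : Nat.card (A.map p) = 4 := by
      rw [← SetLike.coe_sort_coe, Nat.card_coe_set_eq, coe_map]
      show (p '' {1, a1, a2, a1 * a2}).ncard = 4
      have hinj : Function.Injective (Subtype.val : alternatingGroup (Fin 5) → Perm (Fin 5)) :=
        Subtype.val_injective
      rw [← Set.ncard_image_of_injective _ hinj, ← Set.image_comp]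
      simp only [Set.image_insert_eq, Set.image_singleton, Function.comp_apply, map_one, p1, p2, p3,
        OneMemClass.coe_one]
      rw [show ({1, zp, ap, zp * ap} : Set (Perm (Fin 5))) = ↑({1, zp, ap, zp * ap} : Finset (Perm (Fin 5)))
        by simp, Set.ncard_coe_finset]
      decide +kernel
    have h60 : Nat.card (alternatingGroup (Fin 5)) = 60 := by
      rw [Nat.card_eq_fintype_card]; rfl
    have := (A.map p).card_mul_index
    rw [hAcard, h60] at this
    omega
  have hK2 : Nat.card K ∣ 2 := by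
    have hsub : ∀ x : K, x = 1 ∨ ((x : D.lifts) : G) = z := fun x => by
      rcases D.mem_ker x.2 with e | e
      · exact Or.inl (Subtype.ext (Subtype.ext e))
      · exact Or.inr e
    let f : K → Bool := fun x => decide (x = (1 : K))
    have hf : Function.Injective f := fun x y h => by
      rcases hsub x with rfl | ex <;> rcases hsub y with rfl | ey
      · rfl
      · by_contra hne
        have hh : decide ((1 : K) = 1) = decide (y = 1) := h
        rw [decide_eq_true rfl, decide_eq_false (Ne.symm hne)] at hh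
        exact Bool.noConfusion hh
      · by_contra hne
        have hh : decide (x = 1) = decide ((1 : K) = 1) := h
        rw [decide_eq_true rfl, decide_eq_false hne] at hh
        exact Bool.noConfusion hh
      · exact Subtype.ext (Subtype.ext (ex.trans ey.symm))
    have h2 := Nat.card_le_card_of_injective f hf
    rw [Nat.card_eq_fintype_card (α := Bool), Fintype.card_bool] at h2
    have h1 : 0 < Nat.card K := Nat.card_pos
    interval_cases Nat.card K <;> norm_num
  have hcop : (Nat.card K).Coprime U.index := by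
    rw [hidx]; exact Nat.Coprime.coprime_dvd_left hK2 (by norm_num)
  obtain ⟨H, hH⟩ := H24.Gaschuetz.exists_complement S hcop
  have hbij : Function.Bijective (p.comp H.subtype) := by
    constructor
    · rw [injective_iff_map_eq_one]
      intro x hx
      apply Subtype.ext
      exact disjoint_def.mp hH.disjoint (MonoidHom.mem_ker.mpr hx) x.2
    · intro π
      obtain ⟨g, hg⟩ := D.liftPerm_surj π
      obtain ⟨⟨k, h⟩, hkh⟩ := hH.2 g
      refine ⟨h, ?_⟩
      have hk1 : p (k : D.lifts) = 1 := MonoidHom.mem_ker.mp k.2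
      show p (h : D.lifts) = π
      rw [← hg, ← hkh, map_mul, hk1, one_mul]
  let e := MulEquiv.ofBijective _ hbij
  refine ⟨D.lifts.subtype.comp (H.subtype.comp e.symm.toMonoidHom), fun π => ?_⟩
  have h1 : p ((e.symm π : H) : D.lifts) = π := e.apply_symm_apply π
  have h2 := D.exact_pm ((e.symm π : H) : D.lifts)
  rw [show D.pm (((e.symm π : H) : D.lifts) : G) = (π : Perm (Fin 5)) from congrArg Subtype.val h1] at h2
  exact h2

theorem twisted_no_invol : ∀ τ : Perm (Fin 5), IsInv5 τ → ∀ m : QN, qmul m (act τ m) ≠ zf qn0 := by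
  decide +kernel

/-- The solutions of `x * x = z` and of `x * x = e` commuting with `e = s 4`, in twisted coordinates. -/
def sqSols (tgt : QN) : Finset (Perm (Fin 5) × QN) :=
  Finset.univ.filter fun x => Perm.sign x.1 = 1 ∧ x.1 * x.1 = 1 ∧ x.1 4 = 4 ∧
    qmul x.2 (lm 4 qn0) = qmul (lm 4 qn0) x.2 ∧
    qmul (qmul x.2 (act x.1 x.2)) (if x.1 = 1 then qn0 else zf qn0) = tgt

theorem mem_sqSols {tgt : QN} {π : Perm (Fin 5)} {m : QN} :
    (π, m) ∈ sqSols tgt ↔ Perm.sign π = 1 ∧ π * π = 1 ∧ π 4 = 4 ∧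
      qmul m (lm 4 qn0) = qmul (lm 4 qn0) m ∧
      qmul (qmul m (act π m)) (if π = 1 then qn0 else zf qn0) = tgt := by
  unfold sqSols
  rw [Finset.mem_filter, and_iff_right (Finset.mem_univ _)]

theorem sqSols_card_ne : (sqSols (zf qn0)).card ≠ (sqSols (lm 4 qn0)).card := by decide +kernel

attribute [irreducible] sqSols

/-- Squares of exact lifts of involutions cannot all be `z`. -/
theorem not_twisted (hone : ∀ x y : G, orderOf x = 2 → orderOf y = 2 → IsConj x y)
    (hB : ∀ (τ : Perm (Fin 5)) (c : G), IsInv5 τ → D.Exact c τ → c * c = z) : False := by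
  classical
  have M := D.qrel
  have hlift : ∀ π : Perm (Fin 5), ∃ c, Perm.sign π = 1 → D.Exact c π ∧ (π = 1 → c = 1) := fun π => by
    by_cases h1 : π = 1
    · exact ⟨1, fun _ => ⟨h1 ▸ D.exact_one, fun _ => rfl⟩⟩
    by_cases h : Perm.sign π = 1
    · obtain ⟨c, hc⟩ := D.exists_exact h
      exact ⟨c, fun _ => ⟨hc, fun e => absurd e h1⟩⟩
    · exact ⟨1, fun e => absurd e h⟩
  choose l hl using hlift
  have hinvQ : ∀ x : G, x * z = z * x → x * x = 1 → x ∈ Q := by
    intro x hxz hxx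
    by_contra hxQ
    have hτ := D.pm_inv5 hxx hxz hxQ
    obtain ⟨hc, -⟩ := hl _ hτ.2.2
    have hd : x * (l (D.pm x))⁻¹ ∈ Q := by
      refine D.mem_of_pm_eq_one (Commute.mul_left hxz (Commute.inv_left hc.1)) ?_
      rw [D.pm_mul hxz (Commute.inv_left hc.1), D.pm_inv hc.1, hc.pm_eq, mul_inv_cancel]
    obtain ⟨m, hm⟩ := D.qel_surj hd
    apply twisted_no_invol _ hτ m
    apply D.qel_inj
    rw [M.qel_qmul, M.qel_act hc.1 hc.2, M.qel_zf, QRel.qel_zero, mul_one, hm]
    set c := l (D.pm x)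
    calc x * c⁻¹ * (c * (x * c⁻¹) * c⁻¹) = (x * x) * (c * c)⁻¹ := by group
      _ = z := by rw [hxx, hB _ _ hτ hc, D.base.z_inv, one_mul]
  have ho : ∀ i, orderOf (D.s i) = 2 := fun i =>
    orderOf_eq_prime (by rw [pow_two, D.ss]) (D.s_ne i).1
  obtain ⟨g, hg⟩ := isConj_iff.mp (hone z (D.s 4) D.base.hzo (ho 4))
  -- an element exchanging `z` and `s 4`
  have hz4 : D.s 4 * z = z * D.s 4 := D.base.zc (D.mem 4)
  set z' := g⁻¹ * z * g with hz'
  have hz'z : z' * z = z * z' := by
    calc z' * z = g⁻¹ * (z * (g * z * g⁻¹)) * g := by rw [hz']; group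
      _ = g⁻¹ * ((g * z * g⁻¹) * z) * g := by rw [hg, hz4]
      _ = z * z' := by rw [hz']; group
  have hz'2 : z' * z' = 1 := by
    rw [hz', show g⁻¹ * z * g * (g⁻¹ * z * g) = g⁻¹ * (z * z) * g by group, D.base.zz]; group
  have hz'ne : z' ≠ z := fun r => by
    have hgz : g * z * g⁻¹ = z := by
      nth_rw 1 [← r]; rw [hz']; group
    exact (D.s_ne 4).2 (hg ▸ hgz)
  have hperm4 : ∀ j : Fin 5, ∃ π : Perm (Fin 5), Perm.sign π = 1 ∧ π 4 = j := by decide +kernel
  obtain ⟨c, hcz, hc4⟩ : ∃ c, c * z = z * c ∧ c * D.s 4 * c⁻¹ = z' := by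
    rcases D.invol_cases (hinvQ z' hz'z hz'2) hz'2 with e | e | ⟨j, e⟩
    · exfalso
      refine D.base.z_ne_one (conj_eq_one_iff.mp (?_ : g⁻¹ * z * g⁻¹⁻¹ = 1))
      rw [inv_inv]; exact e
    · exact absurd e hz'ne
    · obtain ⟨π, hπ, hπj⟩ := hperm4 j
      obtain ⟨hc, -⟩ := hl π hπ
      have h4 := hc.2 4
      rw [hπj] at h4
      rcases e with e | e
      · exact ⟨_, hc.1, h4.trans e.symm⟩
      · obtain ⟨i, hi⟩ : ∃ i : Fin 5, j ≠ i := ⟨j + 1, (by decide : ∀ j : Fin 5, j ≠ j + 1) j⟩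
        refine ⟨D.s i * l π, Commute.mul_left (D.base.zc (D.mem i)) hc.1, ?_⟩
        rw [show D.s i * l π * D.s 4 * (D.s i * l π)⁻¹ = D.s i * (l π * D.s 4 * (l π)⁻¹) * (D.s i)⁻¹
          by group, h4, D.noncomm j i hi, e]
        group
  set n := g * c with hn
  have hnz : n * z * n⁻¹ = D.s 4 := by
    rw [hn, show g * c * z * (g * c)⁻¹ = g * (c * z * c⁻¹) * g⁻¹ by group, hcz, mul_inv_cancel_right, hg]
  have hn4 : n * D.s 4 * n⁻¹ = z := by
    rw [hn, show g * c * D.s 4 * (g * c)⁻¹ = g * (c * D.s 4 * c⁻¹) * g⁻¹ by group, hc4, hz']; group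
  let S : G → Set G := fun v => {x | x * z = z * x ∧ x * D.s 4 = D.s 4 * x ∧ x * x = v}
  have hswap : (S z).ncard = (S (D.s 4)).ncard := by
    have hcomm : ∀ x a b : G, n * a * n⁻¹ = b → x * a = a * x → n * x * n⁻¹ * b = b * (n * x * n⁻¹) := by
      intro x a b e h
      rw [← e, show n * x * n⁻¹ * (n * a * n⁻¹) = n * (x * a) * n⁻¹ by group, h]; group
    rw [← Set.ncard_image_of_injective (S z) (f := fun x => n * x * n⁻¹) (MulAut.conj n).injective]
    congr 1
    ext y
    constructor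
    · rintro ⟨x, ⟨h1, h2, h3⟩, rfl⟩
      refine ⟨hcomm x _ _ hn4 h2, hcomm x _ _ hnz h1, ?_⟩
      rw [show n * x * n⁻¹ * (n * x * n⁻¹) = n * (x * x) * n⁻¹ by group, h3, hnz]
    · rintro ⟨h1, h2, h3⟩
      refine ⟨n⁻¹ * y * n, ⟨?_, ?_, ?_⟩, by group⟩
      · calc n⁻¹ * y * n * z = n⁻¹ * (y * (n * z * n⁻¹)) * n := by group
          _ = n⁻¹ * ((n * z * n⁻¹) * y) * n := by rw [hnz, h2]
          _ = _ := by group
      · calc n⁻¹ * y * n * D.s 4 = n⁻¹ * (y * (n * D.s 4 * n⁻¹)) * n := by group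
          _ = n⁻¹ * ((n * D.s 4 * n⁻¹) * y) * n := by rw [hn4, h1]
          _ = _ := by group
      · rw [show n⁻¹ * y * n * (n⁻¹ * y * n) = n⁻¹ * (y * y) * n by group, h3]
        calc n⁻¹ * D.s 4 * n = n⁻¹ * (n * z * n⁻¹) * n := by rw [hnz]
          _ = z := by group
  -- count in the model
  have h40 : qel z D.s (lm 4 qn0) = D.s 4 := by rw [M.qel_lm, QRel.qel_zero, mul_one]
  have hcount : ∀ (tgt : QN) (v : G), qel z D.s tgt = v → (S v).ncard = (sqSols tgt).card := by
    intro tgt v hv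
    set φ : Perm (Fin 5) × QN → G := fun x => qel z D.s x.2 * l x.1 with hφ
    have hsq : ∀ (π : Perm (Fin 5)) (m : QN), Perm.sign π = 1 → π * π = 1 →
        qel z D.s (qmul (qmul m (act π m)) (if π = 1 then qn0 else zf qn0)) = φ (π, m) * φ (π, m) := by
      intro π m hπ hππ
      obtain ⟨hc, hc1⟩ := hl π hπ
      have hcc : qel z D.s (if π = 1 then qn0 else zf qn0) = l π * l π := by
        split_ifs with h
        · rw [hc1 h, QRel.qel_zero, one_mul]
        · rw [hB π _ ⟨h, hππ, hπ⟩ hc, M.qel_zf, QRel.qel_zero, mul_one]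
      rw [M.qel_qmul, M.qel_qmul, M.qel_act hc.1 hc.2, hcc, hφ]
      group
    have hφz : ∀ (π : Perm (Fin 5)) (m : QN), Perm.sign π = 1 → φ (π, m) * z = z * φ (π, m) :=
      fun π m hπ => Commute.mul_left (D.base.zc (D.qel_mem m)) (hl π hπ).1.1
    have hpm : ∀ (π : Perm (Fin 5)) (m : QN), Perm.sign π = 1 → D.pm (φ (π, m)) = π := fun π m hπ => by
      rw [hφ, D.pm_mul (D.base.zc (D.qel_mem m)) (hl π hπ).1.1, D.pm_of_mem (D.qel_mem m),
        (hl π hπ).1.pm_eq, one_mul]
    have h4iff : ∀ (π : Perm (Fin 5)) (m : QN), Perm.sign π = 1 →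
        (φ (π, m) * D.s 4 = D.s 4 * φ (π, m) ↔
          π 4 = 4 ∧ qmul m (lm 4 qn0) = qmul (lm 4 qn0) m) := by
      intro π m hπ
      obtain ⟨hc, -⟩ := hl π hπ
      have e : φ (π, m) * D.s 4 = qel z D.s m * D.s (π 4) * l π := by
        rw [hφ, ← hc.2 4]; group
      rw [e, hφ, ← mul_assoc (D.s 4), mul_left_inj]
      constructor
      · intro h
        have h4 : π 4 = 4 := by
          rcases D.base.comm _ (D.qel_mem m) _ (D.mem (π 4)) with r | r
          · rw [r] at h
            exact D.s_inj (Or.inl (mul_right_cancel h))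
          · rw [r, ← mul_assoc] at h
            refine D.s_inj (Or.inr ?_)
            rw [← mul_right_cancel h, D.base.mulZ_inv]
        refine ⟨h4, D.qel_inj ?_⟩
        rw [h4] at h
        rw [M.qel_qmul, M.qel_qmul, h40, h]
      · rintro ⟨h4, hm⟩
        have := congrArg (qel z D.s) hm
        rw [M.qel_qmul, M.qel_qmul, h40] at this
        rw [h4, this]
    rw [← Set.ncard_coe_finset, ← Set.InjOn.ncard_image (f := φ) (s := ↑(sqSols tgt))]
    · congr 1
      ext x
      constructor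
      · rintro ⟨hxz, hx4, hxx⟩
        set π := D.pm x with hπd
        have hπ : Perm.sign π = 1 := D.pm_even hxz
        obtain ⟨hc, -⟩ := hl π hπ
        obtain ⟨m, hm⟩ := D.qel_surj (q := x * (l π)⁻¹) (D.mem_of_pm_eq_one
          (Commute.mul_left hxz (Commute.inv_left hc.1))
          (by rw [D.pm_mul hxz (Commute.inv_left hc.1), D.pm_inv hc.1, hc.pm_eq, mul_inv_cancel]))
        have hxφ : φ (π, m) = x := by rw [hφ]; simp [hm]
        have hππ : π * π = 1 := by
          rw [hπd, ← D.pm_mul hxz hxz, hxx, ← hv]; exact D.pm_of_mem (D.qel_mem tgt)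
        rw [← hxφ] at hx4
        have h4 := (h4iff π m hπ).mp hx4
        refine ⟨(π, m), Finset.mem_coe.mpr (mem_sqSols.mpr ⟨hπ, hππ, h4.1, h4.2,
          D.qel_inj ?_⟩), hxφ⟩
        rw [hsq π m hπ hππ, hxφ, hxx, hv]
      · rintro ⟨⟨π, m⟩, hx, rfl⟩
        obtain ⟨hπ, hππ, h4, hm, ht⟩ := mem_sqSols.mp (Finset.mem_coe.mp hx)
        exact ⟨hφz π m hπ, (h4iff π m hπ).mpr ⟨h4, hm⟩, by rw [← hsq π m hπ hππ, ← hv]; exact congrArg _ ht⟩
    · rintro ⟨π, m⟩ hx ⟨π', m'⟩ hx' he
      obtain ⟨hπ, -⟩ := mem_sqSols.mp (Finset.mem_coe.mp hx)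
      obtain ⟨hπ', -⟩ := mem_sqSols.mp (Finset.mem_coe.mp hx')
      have h1 : π = π' := by rw [← hpm π m hπ, he, hpm π' m' hπ']
      subst h1
      rw [D.qel_inj (mul_right_cancel he : qel z D.s m = qel z D.s m')]
  exact sqSols_card_ne (by
    rw [← hcount _ _ (by rw [M.qel_zf, QRel.qel_zero, mul_one]), hswap, hcount _ _ h40])

/-- The centraliser is coordinatised by the model. -/
theorem exists_model (hone : ∀ x y : G, orderOf x = 2 → orderOf y = 2 → IsConj x y) :
    ∃ k : Perm (Fin 5) → G, CModel z D.s k ∧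
      (∀ c : G, c * z = z * c → ∃ x : Mo, Perm.sign x.2 = 1 ∧ phi z D.s k x = c) ∧
      (∀ x y : Mo, Perm.sign x.2 = 1 → Perm.sign y.2 = 1 → phi z D.s k x = phi z D.s k y → x = y) := by
  classical
  have hA : ∀ (τ : Perm (Fin 5)) (c : G), IsInv5 τ → D.Exact c τ → c * c = 1 := by
    by_contra hno
    push Not at hno
    obtain ⟨τ0, c0, h0, hc0, hne⟩ := hno
    have hsq := hc0.mul hc0
    rw [h0.2.1] at hsq
    have hz0 : c0 * c0 = z := hsq.trivial.resolve_left hne
    exact D.not_twisted hone fun τ c h hc => (D.sq_uniform h0 h hc0 hc).trans hz0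
  obtain ⟨κ, hκ⟩ := D.exists_hom hA
  let k : Perm (Fin 5) → G := fun π =>
    if h : Perm.sign π = 1 then κ ⟨π, Perm.mem_alternatingGroup.mpr h⟩ else 1
  have hk : ∀ π (h : Perm.sign π = 1), k π = κ ⟨π, Perm.mem_alternatingGroup.mpr h⟩ :=
    fun π h => dif_pos h
  have hex : ∀ π, Perm.sign π = 1 → D.Exact (k π) π := fun π h => by
    rw [hk π h]; exact hκ _
  have M : CModel z D.s k :=
    { zz := D.base.zz
      zs := fun j => D.base.zc (D.mem j)
      ss := D.ss
      anti := D.noncomm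
      prod := D.prod1
      kmul := fun π ρ hπ hρ => by
        rw [hk _ (by rw [map_mul, hπ, hρ, one_mul]), hk π hπ, hk ρ hρ]
        exact κ.map_mul ⟨π, _⟩ ⟨ρ, _⟩
      kz := fun π => by
        by_cases h : Perm.sign π = 1
        · exact (hex π h).1
        · simp only [k, dif_neg h, one_mul, mul_one]
      equiv := fun π h j => (hex π h).2 j }
  refine ⟨k, M, fun c hc => ?_, fun x y hx hy he => ?_⟩
  · have hπ := D.pm_even hc
    obtain ⟨m, hm⟩ := D.qel_surj (q := c * (k (D.pm c))⁻¹) (D.mem_of_pm_eq_one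
      (Commute.mul_left hc (Commute.inv_left (hex _ hπ).1))
      (by rw [D.pm_mul hc (Commute.inv_left (hex _ hπ).1), D.pm_inv (hex _ hπ).1, (hex _ hπ).pm_eq,
            mul_inv_cancel]))
    exact ⟨(m, D.pm c), hπ, by simp [phi, hm]⟩
  · have hp : ∀ x : Mo, Perm.sign x.2 = 1 → D.pm (phi z D.s k x) = x.2 := fun x hx => by
      rw [phi, D.pm_mul (D.base.zc (D.qel_mem x.1)) (hex _ hx).1, D.pm_of_mem (D.qel_mem x.1),
        (hex _ hx).pm_eq, one_mul]
    have h2 : x.2 = y.2 := by rw [← hp x hx, he, hp y hy]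
    rw [phi, phi, h2, mul_left_inj] at he
    exact Prod.ext (D.qel_inj he) h2

end NCoord

end Cfsg.Agent.H52.JThree
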