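import Cfsg.Agent.H52.JThree.Chars
import Cfsg.Agent.H52.JThree.Core
import Cfsg.Agent.H52.JThree.Split

/-!
The order of a simple group with one class of involutions and centraliser `2^{1+4}:A₅`.
-/

set_option autoImplicit false
set_option linter.style.haveILetI false
set_option linter.unusedSectionVars false
set_option synthInstance.maxSize 4000

namespace Cfsg.Agent.H52.JThree

open Subgroup
open Cfsg.Agent.H43.JTwo (Coord setup_of_cen)
open Cfsg.Agent.H43.JTwo.Uniq (qn0 zf phi)

variable {G : Type*} [Group G]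

/-- Coordinates give a frame. -/
theorem exists_frame [Finite G] {z : G} {Q : Subgroup G} (D : Coord z Q)
    (hone : ∀ x y : G, orderOf x = 2 → orderOf y = 2 → IsConj x y) :
    ∃ F : Frame G, F.z = z := by
  obtain ⟨D'⟩ := exists_ncoord D
  obtain ⟨k, M, hsurj, hinj⟩ := D'.exists_model hone
  refine ⟨{
    z := z
    φ := fun i => phi z D'.s k (Code.el i)
    hz := D.base.hzo
    map_mul := fun {i j} hi hj => by
      show phi z D'.s k (Code.el (Code.mul i j)) = _
      rw [Code.el_mul hi hj]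
      exact M.phi_mul (Code.el_sign hi) (Code.el_sign hj)
    inj := fun {i j} hi hj h => Code.el_inj hi hj (hinj _ _ (Code.el_sign hi) (Code.el_sign hj) h)
    map_z := by
      show phi z D'.s k (Code.el 16) = z
      rw [show Code.el 16 = (zf qn0, 1) from by decide +kernel, phi, M.k_one, mul_one, M.qel_zf,
        Cfsg.Agent.H43.JTwo.Uniq.CModel.qel_zero, mul_one]
    mem := fun c => by
      constructor
      · intro hc
        obtain ⟨x, hx, rfl⟩ := hsurj c hc
        obtain ⟨i, hi⟩ := Code.el_surj hx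
        exact ⟨i, i.2, by rw [hi]⟩
      · rintro ⟨i, hi, rfl⟩
        exact Commute.mul_left (D.base.zc (D'.qel_mem _)) (M.kz _)
    hone := hone }, rfl⟩

theorem sum_list_fin {ι : Type*} [Fintype ι] [DecidableEq ι] {M : Type*} [AddCommMonoid M] {l : List ι}
    (hl : l.Nodup) {f : ι → M} (hf : ∀ χ, χ ∉ l → f χ = 0) : (l.map f).sum = ∑ χ, f χ := by
  rw [← List.sum_toFinset _ hl]
  exact Finset.sum_subset (Finset.subset_univ _) fun χ _ h => hf χ fun h' => h (List.mem_toFinset.mpr h')

theorem exists_signs {ι : Type*} [Fintype ι] [DecidableEq ι] {vec : ℕ → ι → ℤ} :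
    ∀ {l : List ι} {cols : List (List ℕ)}, List.Forall₂ (Config.Rel vec 7) l cols →
      ∃ ps : List (ι × ℤ), ps.map Prod.fst = l ∧
        List.Forall₂ (fun c p => (p.2 = 1 ∨ p.2 = -1) ∧ ∀ i < 7, Arith.ent c i = p.2 * vec i p.1) cols ps := by
  intro l cols h
  induction h with
  | nil => exact ⟨[], rfl, List.Forall₂.nil⟩
  | @cons χ c l cols hc _ ih =>
    obtain ⟨ps, h1, h2⟩ := ih
    obtain ⟨-, s, hs, he⟩ := hc
    refine ⟨(χ, s) :: ps, by simp [h1], List.Forall₂.cons ⟨hs, fun i hi => ?_⟩ h2⟩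
    have hlen : c.length = 7 := by simpa [Config.col] using congrArg List.length he
    have hi' : i < c.length := by omega
    have e := congrArg (fun L : List ℤ => L[i]?) he
    simp only [Config.col, List.getElem?_map, List.getElem?_range hi, List.getElem?_eq_getElem hi',
      Option.map_some, Option.some.injEq] at e
    rw [Arith.ent, List.getD_eq_getElem _ _ hi', e]

theorem zip_sum {α β M : Type*} [AddCommMonoid M] {R : List ℕ → β → Prop} (val : β → α)
    (g : List ℕ × α → M) (h : β → M) (hgh : ∀ c p, R c p → g (c, val p) = h p) :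
    ∀ {cols : List (List ℕ)} {ps : List β}, List.Forall₂ R cols ps →
      ((cols.zip (ps.map val)).map g).sum = (ps.map h).sum := by
  intro cols ps hf
  induction hf with
  | nil => simp
  | cons hc _ ih => simp [ih, hgh _ _ hc]

theorem zip_mem {α β : Type*} {R : List ℕ → β → Prop} (val : β → α) :
    ∀ {cols : List (List ℕ)} {ps : List β}, List.Forall₂ R cols ps →
      ∀ p ∈ cols.zip (ps.map val), ∃ q, R p.1 q ∧ p.2 = val q := by
  intro cols ps hf
  induction hf with
  | nil => simp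
  | cons hc _ ih =>
    intro p hp
    rw [List.map_cons, List.zip_cons_cons, List.mem_cons] at hp
    rcases hp with rfl | hp
    · exact ⟨_, hc, rfl⟩
    · exact ih p hp

theorem seven_sum (f : ℕ → ℤ) :
    ((List.range 7).map f).sum = f 0 + f 1 + f 2 + f 3 + f 4 + f 5 + f 6 := by
  simp [List.range_succ]; ring

open scoped Classical in
/-- The order. -/
theorem Frame.card_eq [Finite G] [IsSimpleGroup G] (F : Frame G) {m : ℕ}
    (hm : Nat.card G = 1920 * m) (hodd : m % 2 = 1) : Nat.card G = 50232960 := by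
  have : Fintype G := Fintype.ofFinite G
  set T := H36.SelfCentral.triv G with hT
  let ι := {χ : Cfsg.IrrCharacter G // χ ≠ T}
  let vec : ℕ → ι → ℤ := fun r χ => F.coef r χ.1
  have hsplit : ∀ {M : Type} [AddCommMonoid M] (f : Cfsg.IrrCharacter G → M),
      ∑ χ, f χ = f T + ∑ χ : ι, f χ.1 := fun {M} _ f => by
    rw [Fintype.sum_eq_add_sum_compl T f]
    congr 1
    exact Finset.sum_subtype _ (fun χ => by simp) f
  have hg : ∀ r < 7, ∀ q ≤ r, ∑ χ, vec r χ * vec q χ = Config.gram r q := fun r hr q hq => by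
    have h := F.gram_coef hr (by omega) hq
    rw [hsplit, F.coef_triv hr, F.coef_triv (show q < 7 by omega)] at h
    show ∑ χ : ι, F.coef r χ.1 * F.coef q χ.1 = _
    linarith
  obtain ⟨st, hst, l, hl, hcov, hrel⟩ := Config.complete vec hg
  obtain ⟨ps, hps, hf⟩ := exists_signs hrel
  have hm0 : m ≠ 0 := fun e => by subst e; simp at hodd
  have hsum : ∀ {M : Type} [AddCommMonoid M] (h : ι → M), (∀ χ, (∀ i < 7, vec i χ = 0) → h χ = 0) →
      (ps.map fun p => h p.1).sum = ∑ χ, h χ := fun {M} _ h h0 => by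
    rw [← sum_list_fin hl (fun χ hχ => h0 χ (hcov χ hχ)), ← hps, List.map_map]; rfl
  let xv : ι × ℤ → ℤ := fun p => p.2 * (Frame.deg p.1.1 : ℤ)
  have hzero : ∀ (co : List ℤ) (χ : ι), (∀ i < 7, vec i χ = 0) → F.comb co χ.1 = 0 := fun co χ h => by
    rw [Frame.comb]
    exact List.sum_eq_zero fun x hx => by
      obtain ⟨r, hr, rfl⟩ := List.mem_map.mp hx
      rw [show F.coef r χ.1 = 0 from h r (List.mem_range.mp hr), mul_zero]
  have hvals : ∀ (c : List ℕ) (p : ι × ℤ), (∀ i < 7, Arith.ent c i = p.2 * vec i p.1) →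
      Arith.vA c = p.2 * F.vz p.1.1 ∧ Arith.vB c = p.2 * F.v4 p.1.1 ∧ Arith.vC c = p.2 * F.v8 p.1.1 := by
    intro c p h
    simp only [Arith.vA, Arith.vB, Arith.vC, Frame.vz, Frame.v4, Frame.v8, Frame.comb, seven_sum,
      Code.coA, Code.coB, Code.coC, List.getD_cons_zero, List.getD_cons_succ, h 0 (by norm_num),
      h 1 (by norm_num), h 2 (by norm_num), h 3 (by norm_num), h 4 (by norm_num), h 5 (by norm_num),
      h 6 (by norm_num), vec]
    refine ⟨?_, ?_, ?_⟩ <;> ring
  have hlen : (st.map (Config.decode 7)).length = (ps.map xv).length := by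
    rw [List.length_map (f := xv)]; exact hf.length_eq
  have htz : ∀ r < 7, F.coef r T = Code.trivV r := fun r hr => F.coef_triv hr
  have htriv4 : ∀ i < 4, Code.trivV i = Arith.triv i := by decide
  have H : Arith.Rows (st.map (Config.decode 7)) (ps.map xv) m := by
    refine ⟨hlen, hodd, fun p hp => ?_, fun i hi => ?_, fun i hi => ?_, ?_⟩
    · obtain ⟨q, ⟨hs, he⟩, hx⟩ := zip_mem xv hf p hp
      obtain ⟨a1, a2, a3⟩ := hvals p.1 q he
      have hd : (Frame.deg q.1.1 : ℤ) ∣ ((1920 * m : ℕ) : ℤ) := by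
        rw [← hm]; exact_mod_cast H83.charDegree_dvd_card q.1.1.2
      have hpos : (0 : ℤ) < Frame.deg q.1.1 := by exact_mod_cast Frame.deg_pos q.1.1
      obtain ⟨w, hw⟩ := F.congr128 q.1.1
      rw [hx, Arith.resI, a1, a2, a3]
      refine ⟨Int.emod_eq_zero_of_dvd ⟨q.2 * w, ?_⟩, ?_, ?_⟩
      · show q.2 * (Frame.deg q.1.1 : ℤ) - _ = _
        linear_combination q.2 * hw
      · show q.2 * (Frame.deg q.1.1 : ℤ) ≠ 0
        rcases hs with e | e <;> rw [e] <;> omega
      · show q.2 * (Frame.deg q.1.1 : ℤ) ∣ _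
        rcases hs with e | e <;> rw [e] <;> simpa using hd
    · have hi7 : i < 7 := by omega
      rw [zip_sum xv (fun p : List ℕ × ℤ => Arith.ent p.1 i * p.2)
        (fun q : ι × ℤ => vec i q.1 * (Frame.deg q.1.1 : ℤ)) (fun c q hq => by
          show Arith.ent c i * (q.2 * (Frame.deg q.1.1 : ℤ)) = _
          rw [hq.2 i hi7]
          rcases hq.1 with e | e <;> rw [e] <;> ring) hf,
        hsum (fun χ => vec i χ * (Frame.deg χ.1 : ℤ)) (fun χ h => by rw [h i hi7, zero_mul])]
      have h := F.deg_sum hi7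
      rw [hsplit, htz i hi7, htriv4 i hi,
        show (Frame.deg T : ℤ) = 1 from by
          have := Frame.apply_one T
          have h1 : (Frame.deg T : ℂ) = ((1 : ℕ) : ℂ) := by rw [← this, Nat.cast_one]; rfl
          exact_mod_cast h1, mul_one] at h
      exact h
    · have hi7 : i < 7 := by omega
      rw [zip_sum xv (fun p : List ℕ × ℤ => (Arith.ent p.1 i : ℚ) * (Arith.vA p.1 : ℚ) ^ 2 / p.2)
        (fun q : ι × ℤ => (vec i q.1 : ℚ) * (F.vz q.1.1 : ℚ) ^ 2 / (Frame.deg q.1.1 : ℚ))
        (fun c q hq => by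
          show (Arith.ent c i : ℚ) * (Arith.vA c : ℚ) ^ 2 / ((q.2 * (Frame.deg q.1.1 : ℤ) : ℤ) : ℚ) = _
          rw [hq.2 i hi7, (hvals c q hq.2).1]
          rcases hq.1 with e | e <;> rw [e] <;> push_cast <;> field_simp <;> ring) hf,
        hsum (fun χ => (vec i χ : ℚ) * (F.vz χ.1 : ℚ) ^ 2 / (Frame.deg χ.1 : ℚ))
          (fun χ h => by rw [h i hi7]; simp)]
      have h := F.structure_eq hi
      have hdT : (Frame.deg T : ℂ) = 1 := (Frame.apply_one T).symm.trans rfl
      have hzT : F.vz T = 1 := by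
        have := F.apply_z T
        have h1 : (F.vz T : ℂ) = ((1 : ℤ) : ℂ) := by rw [← this, Int.cast_one]; rfl
        exact_mod_cast h1
      rw [hsplit, htz i hi7, htriv4 i hi, hzT, show Frame.deg T = 1 from by exact_mod_cast hdT, hm] at h
      have hm' : (m : ℚ) ≠ 0 := Nat.cast_ne_zero.mpr hm0
      push_cast at h
      rw [eq_div_iff hm']
      simp only [one_pow, mul_one, div_one] at h
      linear_combination h / 1920
    · rw [zip_sum xv (fun p : List ℕ × ℤ => p.2 * p.2)
        (fun q : ι × ℤ => (Frame.deg q.1.1 : ℤ) * (Frame.deg q.1.1 : ℤ)) (fun c q hq => by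
          show q.2 * (Frame.deg q.1.1 : ℤ) * (q.2 * (Frame.deg q.1.1 : ℤ)) = _
          rcases hq.1 with e | e <;> rw [e] <;> ring) hf,
        show (fun q : ι × ℤ => (Frame.deg q.1.1 : ℤ) * (Frame.deg q.1.1 : ℤ)) =
          (fun χ : ι => (Frame.deg χ.1 : ℤ) * (Frame.deg χ.1 : ℤ)) ∘ Prod.fst from rfl,
        ← List.map_map, hps, ← List.sum_toFinset _ hl]
      have hsq : (∑ χ : Cfsg.IrrCharacter G, (Frame.deg χ : ℤ) * (Frame.deg χ : ℤ)) =
          ((1920 * m : ℕ) : ℤ) := by
        have h := CharBasic.sum_sq_degree (G := G)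
        simp only [Frame.apply_one, pow_two, hm] at h
        exact_mod_cast h
      rw [← hsq, hsplit]
      refine le_trans (Finset.sum_le_sum_of_subset_of_nonneg (Finset.subset_univ _)
        fun _ _ _ => mul_self_nonneg _) (le_add_of_nonneg_left (mul_self_nonneg _))
  rw [hm, Arith.order_eq hst H]

theorem card_of_cen [Finite G] [IsSimpleGroup G]
    (hone : ∀ x y : G, orderOf x = 2 → orderOf y = 2 → IsConj x y) {z : G} (hz : orderOf z = 2)
    (Q : Subgroup (centralizer ({z} : Set G))) [Q.Normal] (hcard : Nat.card Q = 32)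
    (hX : Cfsg.IsExtraspecial 2 Q)
    (e : (centralizer ({z} : Set G)) ⧸ Q ≃* alternatingGroup (Fin 5)) : Nat.card G = 50232960 := by
  haveI : Fact (Nat.Prime 2) := ⟨Nat.prime_two⟩
  have h2c := centralizer_le (two_central_of_hone hone hz) Q hcard hX e
  have h60 : Q.index = 60 := by
    rw [index_eq_card, Nat.card_congr e.toEquiv, Nat.card_eq_fintype_card]; rfl
  obtain ⟨D⟩ := (setup_of_cen hz Q hX hcard h2c h60).exists_coord
  obtain ⟨F, hF⟩ := exists_frame D hone
  obtain ⟨P, hP, -, -⟩ := D.exists_sylow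
  obtain ⟨m, hm⟩ : 1920 ∣ Nat.card G := by
    rw [← F.card_Cz]; exact Subgroup.card_subgroup_dvd_card _
  refine F.card_eq hm (Nat.mod_two_ne_zero.mp fun h2 => ?_)
  have hd : 2 ^ 8 ∣ Nat.card G := by
    rw [hm]
    obtain ⟨k, hk⟩ := Nat.dvd_of_mod_eq_zero h2
    exact ⟨15 * k, by rw [hk]; ring⟩
  have h8 := Nat.le_of_dvd Nat.card_pos (Sylow.pow_dvd_card_of_pow_dvd_card P hd)
  rw [hP] at h8
  norm_num at h8

end Cfsg.Agent.H52.JThree
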