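import Cfsg.Agent.H43.JTwo.FromCentralizer
import Cfsg.Agent.H43.JTwo.Uniq.Model

/-!
Normalised coordinates (`s 0 ⋯ s 4 = 1`), the numbering of `Q`, and exact lifts of permutations.
-/

set_option autoImplicit false
set_option linter.style.haveILetI false
set_option linter.unusedSectionVars false
set_option linter.unusedSimpArgs false
set_option synthInstance.maxSize 4000

namespace Cfsg.Agent.H52.JThree

open Subgroup Equiv
open Cfsg.Agent.H43.JTwo
open Cfsg.Agent.H43.JTwo.Uniq (QN qn0 zf lm lm0 lm1 lm2 lm3 ap? qmul act pw qel)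

/-- The relations among `z` and `s`. -/
structure QRel {G : Type*} [Group G] (z : G) (s : Fin 5 → G) : Prop where
  zz : z * z = 1
  zs : ∀ j, s j * z = z * s j
  ss : ∀ j, s j * s j = 1
  anti : ∀ i j, i ≠ j → s j * s i = z * (s i * s j)
  prod : s 0 * s 1 * s 2 * s 3 * s 4 = 1

namespace QRel

variable {G : Type*} [Group G] {z : G} {s : Fin 5 → G}

theorem s_four (M : QRel z s) : s 4 = s 0 * (s 1 * (s 2 * s 3)) := by
  have h4 : (s 4)⁻¹ = s 4 := inv_eq_of_mul_eq_one_left (M.ss 4)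
  rw [← h4, ← eq_inv_of_mul_eq_one_left M.prod]
  simp only [mul_assoc]

theorem qel_zero : qel z s qn0 = 1 := by simp [qel, qn0, pw]

theorem qel_zf (M : QRel z s) (n : QN) : qel z s (zf n) = z * qel z s n := by
  obtain ⟨e, a, b, c, d⟩ := n
  cases e <;> simp [qel, zf, pw, ← mul_assoc z z, M.zz]

theorem qel_lm (M : QRel z s) (j : Fin 5) (n : QN) : qel z s (lm j n) = s j * qel z s n := by
  have h1 : ∀ i x, s i * (z * x) = z * (s i * x) := fun i x => by rw [← mul_assoc, M.zs, mul_assoc]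
  have h2 : ∀ i x, s i * (s i * x) = x := fun i x => by rw [← mul_assoc, M.ss, one_mul]
  have h3 : ∀ x, z * (z * x) = x := fun x => by rw [← mul_assoc, M.zz, one_mul]
  have h4 : ∀ i l, i < l → ∀ x, s l * (s i * x) = z * (s i * (s l * x)) := fun i l h x => by
    rw [← mul_assoc, M.anti i l (ne_of_lt h)]; simp only [mul_assoc]
  have a10 := h4 0 1 (by decide); have a20 := h4 0 2 (by decide); have a30 := h4 0 3 (by decide)
  have a21 := h4 1 2 (by decide); have a31 := h4 1 3 (by decide); have a32 := h4 2 3 (by decide)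
  have b10 := M.anti 0 1 (by decide); have b20 := M.anti 0 2 (by decide)
  have b30 := M.anti 0 3 (by decide); have b21 := M.anti 1 2 (by decide)
  have b31 := M.anti 1 3 (by decide); have b32 := M.anti 2 3 (by decide)
  have base : ∀ n : QN, qel z s (lm0 n) = s 0 * qel z s n ∧ qel z s (lm1 n) = s 1 * qel z s n ∧
      qel z s (lm2 n) = s 2 * qel z s n ∧ qel z s (lm3 n) = s 3 * qel z s n := by
    rintro ⟨e, a, b, c, d⟩
    cases e <;> cases a <;> cases b <;> cases c <;> cases d <;>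
      simp [qel, lm0, lm1, lm2, lm3, pw, h1, h2, h3, a10, a20, a30, a21, a31, a32, b10, b20, b30,
        b21, b31, b32, M.ss, M.zz, M.zs]
  fin_cases j
  · exact (base n).1
  · exact (base n).2.1
  · exact (base n).2.2.1
  · exact (base n).2.2.2
  · show qel z s (lm0 (lm1 (lm2 (lm3 n)))) = s 4 * qel z s n
    rw [(base _).1, (base _).2.1, (base _).2.2.1, (base _).2.2.2, M.s_four]
    simp only [mul_assoc]

theorem qel_ap (M : QRel z s) (b : Bool) (j : Fin 5) (n : QN) :
    qel z s (ap? b (lm j) n) = pw b (s j) * qel z s n := by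
  cases b <;> simp [ap?, pw, M.qel_lm]

theorem qel_apz (M : QRel z s) (b : Bool) (n : QN) :
    qel z s (ap? b zf n) = pw b z * qel z s n := by
  cases b <;> simp [ap?, pw, M.qel_zf]

theorem qel_qmul (M : QRel z s) (m n : QN) : qel z s (qmul m n) = qel z s m * qel z s n := by
  obtain ⟨e, a, b, c, d⟩ := m
  rw [qmul, M.qel_apz, M.qel_ap, M.qel_ap, M.qel_ap, M.qel_ap]
  simp only [qel, mul_assoc]

theorem qel_act (M : QRel z s) {c : G} {π : Perm (Fin 5)} (hc : c * z = z * c)
    (he : ∀ j, c * s j * c⁻¹ = s (π j)) (n : QN) : qel z s (act π n) = c * qel z s n * c⁻¹ := by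
  obtain ⟨e, a, b, d, f⟩ := n
  have hp : ∀ (x : Bool) (j : Fin 5), c * pw x (s j) * c⁻¹ = pw x (s (π j)) := fun x j => by
    cases x <;> simp [pw, he j]
  have hzc : c * pw e z * c⁻¹ = pw e z := by cases e <;> simp [pw, hc]
  have hd : ∀ x y : G, c * (x * y) * c⁻¹ = (c * x * c⁻¹) * (c * y * c⁻¹) := fun x y => by group
  rw [act, M.qel_apz, M.qel_ap, M.qel_ap, M.qel_ap, M.qel_ap, qel_zero, mul_one, qel]
  simp only [hd, hp, hzc]

/-- The product of the `s` in any even order. -/
theorem prod_perm (M : QRel z s) {π : Perm (Fin 5)} (hπ : Perm.sign π = 1) :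
    s (π 0) * s (π 1) * s (π 2) * s (π 3) * s (π 4) = 1 := by
  have hd : ∀ π : Perm (Fin 5), Perm.sign π = 1 →
      lm (π 0) (lm (π 1) (lm (π 2) (lm (π 3) (lm (π 4) qn0)))) = qn0 := by decide +kernel
  have h := congrArg (qel z s) (hd π hπ)
  simp only [M.qel_lm, qel_zero, mul_one] at h
  simpa only [mul_assoc] using h

end QRel

variable {G : Type*} [Group G] [Finite G] {z : G} {Q : Subgroup G}

theorem exists_norm_coord (D : Coord z Q) :
    ∃ D' : Coord z Q, D'.s 0 * D'.s 1 * D'.s 2 * D'.s 3 * D'.s 4 = 1 := by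
  rcases D.prod with e | e
  · exact ⟨D, e⟩
  have h := D.base
  have hz : ∀ j x, D.s j * (z * x) = z * (D.s j * x) := fun j x => by
    rw [← mul_assoc, h.zc (D.mem j), mul_assoc]
  have hs : ∀ j, D.s j * z = z * D.s j := fun j => h.zc (D.mem j)
  have hprod : (z * D.s 0) * (z * D.s 1) * (z * D.s 2) * (z * D.s 3) * (z * D.s 4) = 1 := by
    calc (z * D.s 0) * (z * D.s 1) * (z * D.s 2) * (z * D.s 3) * (z * D.s 4)
        = z * (D.s 0 * D.s 1 * D.s 2 * D.s 3 * D.s 4) := by
          simp only [mul_assoc, hz, h.mulZ_inv]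
      _ = 1 := by rw [e, h.zz]
  refine ⟨{
    base := h
    s := fun i => z * D.s i
    mem := fun i => mul_mem h.hzQ (D.mem i)
    ss := fun i => by rw [mul_assoc, hz, D.ss, mul_one, h.zz]
    noncomm := fun i j hij => by
      simp only [mul_assoc, hz, h.mulZ_inv]
      exact D.noncomm i j hij
    gen := fun q hq => by
      refine (closure_le _).mpr ?_ (D.gen q hq)
      rintro x (rfl | ⟨i, rfl⟩)
      · exact subset_closure (Set.mem_insert _ _)
      · have : D.s i = z * (z * D.s i) := (h.mulZ_inv _).symm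
        rw [this]
        exact mul_mem (subset_closure (Set.mem_insert _ _))
          (subset_closure (Set.mem_insert_of_mem _ ⟨i, rfl⟩))
    prod := Or.inl hprod }, hprod⟩

/-- The coordinates, normalised. -/
structure NCoord (z : G) (Q : Subgroup G) extends Coord z Q where
  prod1 : s 0 * s 1 * s 2 * s 3 * s 4 = 1

theorem exists_ncoord (D : Coord z Q) : Nonempty (NCoord z Q) := by
  obtain ⟨D', h⟩ := exists_norm_coord D
  exact ⟨{ D' with prod1 := h }⟩

namespace NCoord

variable (D : NCoord z Q)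

theorem qrel : QRel z D.s :=
  ⟨D.base.zz, fun j => D.base.zc (D.mem j), D.ss, D.noncomm, D.prod1⟩

theorem qel_mem (n : QN) : qel z D.s n ∈ Q := by
  obtain ⟨e, a, b, c, d⟩ := n
  have hp : ∀ (x : Bool) (g : G), g ∈ Q → pw x g ∈ Q := fun x g hg => by
    cases x
    · exact one_mem _
    · exact hg
  exact mul_mem (hp e _ D.base.hzQ) (mul_mem (hp a _ (D.mem 0)) (mul_mem (hp b _ (D.mem 1))
    (mul_mem (hp c _ (D.mem 2)) (hp d _ (D.mem 3)))))

theorem qel_surj {q : G} (hq : q ∈ Q) : ∃ n, qel z D.s n = q := by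
  have M := D.qrel
  refine D.toCoord.induct (fun q => ∃ n, qel z D.s n = q) (fun i => ?_) ?_ ?_
    (fun a _ b _ ha hb => ?_) hq
  · exact ⟨lm i qn0, by rw [M.qel_lm, QRel.qel_zero, mul_one]⟩
  · exact ⟨zf qn0, by rw [M.qel_zf, QRel.qel_zero, mul_one]⟩
  · exact ⟨qn0, QRel.qel_zero⟩
  · obtain ⟨m, rfl⟩ := ha
    obtain ⟨n, rfl⟩ := hb
    exact ⟨qmul m n, M.qel_qmul m n⟩

theorem qel_inj : Function.Injective (qel z D.s) := by
  let f : QN → Q := fun n => ⟨qel z D.s n, D.qel_mem n⟩
  have hf : Function.Surjective f := fun q => by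
    obtain ⟨n, hn⟩ := D.qel_surj q.2
    exact ⟨n, Subtype.ext hn⟩
  have hb : Function.Bijective f := (Nat.bijective_iff_surjective_and_card f).mpr
    ⟨hf, by rw [D.base.card, Nat.card_eq_fintype_card]; rfl⟩
  exact fun m n h => hb.1 (Subtype.ext h)

/-- `c` permutes `s` by `π` with no signs. -/
def Exact (c : G) (π : Perm (Fin 5)) : Prop := c * z = z * c ∧ ∀ i, c * D.s i * c⁻¹ = D.s (π i)

theorem exact_one : D.Exact 1 1 := ⟨by simp, fun i => by simp⟩

theorem exact_z : D.Exact z 1 := ⟨rfl, fun i => by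
  rw [← D.base.zc (D.mem i), mul_inv_cancel_right]; rfl⟩

variable {D}

theorem Exact.mul {c d : G} {π ρ : Perm (Fin 5)} (h : D.Exact c π) (h' : D.Exact d ρ) :
    D.Exact (c * d) (π * ρ) := by
  refine ⟨Commute.mul_left h.1 h'.1, fun i => ?_⟩
  rw [show c * d * D.s i * (c * d)⁻¹ = c * (d * D.s i * d⁻¹) * c⁻¹ by group, h'.2, h.2]
  rfl

theorem Exact.inv {c : G} {π : Perm (Fin 5)} (h : D.Exact c π) : D.Exact c⁻¹ π⁻¹ := by
  refine ⟨Commute.inv_left h.1, fun i => ?_⟩
  rw [inv_inv]
  have := h.2 (π⁻¹ i)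
  rw [Perm.inv_def, Equiv.apply_symm_apply] at this
  rw [← this, Perm.inv_def]; group

theorem Exact.pm_eq {c : G} {π : Perm (Fin 5)} (h : D.Exact c π) : D.pm c = π :=
  Equiv.ext fun i => by
    rw [D.pm_apply h.1]
    exact D.act_eq h.1 (Or.inl (h.2 i))

theorem Exact.even {c : G} {π : Perm (Fin 5)} (h : D.Exact c π) : Perm.sign π = 1 :=
  h.pm_eq ▸ D.pm_even h.1

theorem Exact.trivial {c : G} (h : D.Exact c 1) : c = 1 ∨ c = z := by
  have hle : closure (insert z (Set.range D.s)) ≤ centralizer ({c} : Set G) := by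
    rw [closure_le]
    rintro x (rfl | ⟨i, rfl⟩)
    · exact mem_centralizer_singleton_iff.mpr h.1.symm
    · exact mem_centralizer_singleton_iff.mpr (mul_inv_eq_iff_eq_mul.mp (h.2 i)).symm
  exact D.base.cQ c fun q hq => mem_centralizer_singleton_iff.mp (hle (D.gen q hq))

theorem Exact.unique {c d : G} {π : Perm (Fin 5)} (h : D.Exact c π) (h' : D.Exact d π) :
    d = c ∨ d = z * c := by
  have hm := h'.mul h.inv
  rw [mul_inv_cancel] at hm
  rcases hm.trivial with e | e
  · exact Or.inl (mul_inv_eq_one.mp e)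
  · exact Or.inr (mul_inv_eq_iff_eq_mul.mp e)

theorem Exact.conj {c d : G} {π ρ : Perm (Fin 5)} (h : D.Exact c π) (h' : D.Exact d ρ) :
    D.Exact (d * c * d⁻¹) (ρ * π * ρ⁻¹) := (h'.mul h).mul h'.inv

variable (D)

theorem exists_exact {π : Perm (Fin 5)} (hπ : Perm.sign π = 1) : ∃ c, D.Exact c π := by
  obtain ⟨c, hc, hcπ⟩ := D.exists_pm hπ
  have hsp : ∀ i, ∃ b : Bool, c * D.s i * c⁻¹ = pw b z * D.s (π i) := fun i => by
    rcases D.pm_spec hc i with e | e <;> rw [hcπ] at e
    · exact ⟨false, by simpa [pw] using e⟩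
    · exact ⟨true, by simpa [pw] using e⟩
  choose b hb using hsp
  have hconj : c * z * c⁻¹ = z := by rw [hc, mul_inv_cancel_right]
  have hparity : pw (b 0 ^^ b 1 ^^ b 2 ^^ b 3 ^^ b 4) z = 1 := by
    have e : c * (D.s 0 * D.s 1 * D.s 2 * D.s 3 * D.s 4) * c⁻¹ =
        (c * D.s 0 * c⁻¹) * (c * D.s 1 * c⁻¹) * (c * D.s 2 * c⁻¹) * (c * D.s 3 * c⁻¹) *
          (c * D.s 4 * c⁻¹) := by group
    rw [D.prod1, hb, hb, hb, hb, hb] at e
    have hP := D.qrel.prod_perm hπ
    have hz : ∀ j x, D.s j * (z * x) = z * (D.s j * x) := fun j x => by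
      rw [← mul_assoc, D.base.zc (D.mem j), mul_assoc]
    have hzz := D.base.mulZ_inv
    revert e
    generalize b 0 = b0; generalize b 1 = b1; generalize b 2 = b2; generalize b 3 = b3
    generalize b 4 = b4
    simp only [mul_one, mul_inv_cancel, mul_assoc] at hP ⊢
    cases b0 <;> cases b1 <;> cases b2 <;> cases b3 <;> cases b4 <;>
      (simp [pw, mul_assoc, hz, hzz, hP, D.base.zz]) <;> exact fun h => h.symm
  have hev : Even5 (fun i => if b i then (1 : ZMod 2) else 0) := by
    have key : ∀ f : Fin 5 → Bool, (f 0 ^^ f 1 ^^ f 2 ^^ f 3 ^^ f 4) = false →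
        Even5 (fun i => if f i then (1 : ZMod 2) else 0) := by decide +kernel
    refine key b ?_
    by_contra h
    rw [Bool.not_eq_false] at h
    rw [h] at hparity
    exact D.base.z_ne_one hparity
  obtain ⟨q, hq, hqb⟩ := D.exists_beta hev
  have hqz : q * z = z * q := D.base.zc hq
  refine ⟨c * q, Commute.mul_left hc hqz, fun i => ?_⟩
  rw [show c * q * D.s i * (c * q)⁻¹ = c * (q * D.s i * q⁻¹) * c⁻¹ by group]
  have hv : eps q (D.s i) = if b i then (1 : ZMod 2) else 0 := congrFun hqb i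
  cases hbi : b i <;> rw [hbi] at hv
  · simp only [if_neg Bool.false_ne_true] at hv
    have e := mul_inv_eq_iff_eq_mul.mpr (eps_zero_iff.mp hv)
    rw [e, hb, hbi]; exact one_mul _
  · simp only [if_true] at hv
    have e := (D.base.noncomm_iff hq (D.mem i)).mp (eps_one_iff.mp hv)
    rw [mul_inv_eq_iff_eq_mul.mpr (e.trans (mul_assoc _ _ _).symm),
      show c * (z * D.s i) * c⁻¹ = (c * z * c⁻¹) * (c * D.s i * c⁻¹) by group, hconj, hb, hbi]
    exact D.base.mulZ_inv _

end NCoord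

end Cfsg.Agent.H52.JThree
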