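import Mathlib

/-!
The finite search for the degrees of the constituents of the first exceptional character.
All kernel arithmetic is on natural numbers (magnitudes and signs).
-/

set_option autoImplicit false

namespace Cfsg.Agent.H52.JThree

/-- A bounded universal quantifier along a progression of step 128. -/
def allStep (f : ℕ → Bool) (n y : ℕ) : Bool :=
  Nat.rec (fun _ => true) (fun _ ih y => and (f y) (ih (Nat.add y 128))) n y

/-- Residue of a signed magnitude. -/
def resOK (r : ℕ) (p : Bool) (a : ℕ) : Bool :=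
  cond p (Nat.beq (Nat.mod a 128) r) (Nat.beq (Nat.mod (Nat.add a r) 128) 0)

/-- The term in the sum belonging to one entry. -/
def pick (p : Bool) (t : ℕ) : ℕ := cond p t 0

/-- The test at a point. -/
def chkN (a1 a2 a3 r3 : ℕ) (ms : List ℕ) (px py pz : Bool) (ax ay az : ℕ) : Bool :=
  or (Nat.blt az ax) <|
    let M := Nat.mul ax (Nat.mul ay az)
    let t1 := Nat.mul a1 (Nat.mul ay az)
    let t2 := Nat.mul a2 (Nat.mul ax az)
    let t3 := Nat.mul a3 (Nat.mul ax ay)
    let P := Nat.add M (Nat.add (pick px t1) (Nat.add (pick py t2) (pick pz t3)))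
    let N := Nat.add (pick (not px) t1) (Nat.add (pick (not py) t2) (pick (not pz) t3))
    or (Nat.ble P N) <|
      let q := Nat.mul 15200 M
      let d := Nat.sub P N
      or (not (Nat.beq (Nat.mod q d) 0)) <|
        let m := Nat.div q d
        let g := Nat.mul 1920 m
        or (Nat.beq (Nat.mod m 2) 0) <| or (not (resOK r3 pz az)) <|
        or (Nat.blt g (Nat.add (Nat.mul ax ax) (Nat.add (Nat.mul ay ay) (Nat.mul az az)))) <|
        or (not (Nat.beq (Nat.mod g ax) 0)) <| or (not (Nat.beq (Nat.mod g ay) 0)) <|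
        or (not (Nat.beq (Nat.mod g az) 0)) <| ms.contains m

/-- The sign of the third entry. -/
def zpos (px py : Bool) (ax ay : ℕ) : Bool :=
  cond px (cond py false (Nat.blt (Nat.add 1 ax) ay)) (cond py (Nat.blt (Nat.add 1 ay) ax) true)

/-- The magnitude of the third entry. -/
def zabs (px py : Bool) (ax ay : ℕ) : ℕ :=
  cond px
    (cond py (Nat.add 1 (Nat.add ax ay))
      (Nat.add (Nat.sub ay (Nat.add 1 ax)) (Nat.sub (Nat.add 1 ax) ay)))
    (cond py (Nat.add (Nat.sub ax (Nat.add 1 ay)) (Nat.sub (Nat.add 1 ay) ax))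
      (Nat.sub (Nat.add ax ay) 1))

/-- The residue class of the magnitude for a given sign. -/
def magRes (r : ℕ) (p : Bool) : ℕ := cond p (Nat.mod r 128) (Nat.mod (Nat.sub 256 (Nat.mod r 128)) 128)

/-- The least number `≥ lo` in the residue class. -/
def startAt (lo r : ℕ) : ℕ := Nat.add lo (Nat.mod (Nat.sub (Nat.add r 128) (Nat.mod lo 128)) 128)

/-- The distance `|a₁ + x|`. -/
def cdist (a1 : ℕ) (px : Bool) (ax : ℕ) : ℕ :=
  cond px (Nat.add a1 ax) (Nat.add (Nat.sub a1 ax) (Nat.sub ax a1))

/-- `|x + 1|`. -/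
def sdist (px : Bool) (ax : ℕ) : ℕ := cond px (Nat.add ax 1) (Nat.sub ax 1)

/-- `|a - b|`. -/
def ndist (a b : ℕ) : ℕ := Nat.add (Nat.sub a b) (Nat.sub b a)

/-- Bisection for a bound of the roots of `c Y² - P Y - Q`. -/
def ybSearch (c P Q : ℕ) (f lo hi : ℕ) : ℕ :=
  Nat.rec (fun _ hi => hi) (fun _ ih lo hi =>
    cond (Nat.ble hi lo) hi
      (let mid := Nat.div (Nat.add lo hi) 2
       cond (and (Nat.ble (Nat.add (Nat.mul P mid) Q) (Nat.mul c (Nat.mul mid mid)))
          (Nat.ble P (Nat.mul 2 (Nat.mul c mid)))) (ih lo mid) (ih (Nat.add mid 1) hi))) f lo hi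

/-- The range of the second entry for a given first one. -/
def ybound (a1 a2 a3 : ℕ) (px : Bool) (ax : ℕ) : ℕ :=
  let s := sdist px ax
  let d := ndist a2 a3
  let c := cdist a1 px ax
  cond (Nat.beq c 0) (Nat.div (Nat.add 14592000 (Nat.mul a2 s)) d)
    (ybSearch c (Nat.add (Nat.mul c s) (Nat.mul ax d))
      (Nat.mul ax (Nat.add (Nat.mul a2 s) 14592000)) 32 1 1073741824)

/-- The certification of the range. -/
def yOK (a1 a2 a3 : ℕ) (px : Bool) (ax Y : ℕ) : Bool :=
  let s := sdist px ax
  let d := ndist a2 a3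
  let c := cdist a1 px ax
  let P := Nat.add (Nat.mul c s) (Nat.mul ax d)
  let Q := Nat.mul ax (Nat.add (Nat.mul a2 s) 14592000)
  cond (Nat.beq c 0) (Nat.blt (Nat.add 14592000 (Nat.mul a2 s)) (Nat.mul d (Nat.add Y 1)))
    (and (Nat.ble (Nat.add (Nat.mul P Y) Q) (Nat.mul c (Nat.mul Y Y))) (Nat.ble P (Nat.mul 2 (Nat.mul c Y))))

/-- A pattern: the square of the value at the involution and the residue of the signed degree. -/
abbrev Item := ℕ × ℕ

/-- The search over the second entry of given sign. -/
def loopY (p q o : Item) (ms : List ℕ) (px py : Bool) (ax Y : ℕ) : Bool :=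
  let st := startAt ax (magRes q.2 py)
  allStep (fun ay => chkN p.1 q.1 o.1 o.2 ms px py (zpos px py ax ay) ax ay (zabs px py ax ay))
    (Nat.div (Nat.sub (Nat.add Y 128) st) 128) st

/-- The search over the first entry of given sign. -/
def loopX (p q o : Item) (ms : List ℕ) (px : Bool) (X : ℕ) : Bool :=
  let st := startAt 1 (magRes p.2 px)
  allStep (fun ax =>
    let Y := ybound p.1 q.1 o.1 px ax
    and (yOK p.1 q.1 o.1 px ax Y) (and (loopY p q o ms px true ax Y) (loopY p q o ms px false ax Y)))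
    (Nat.div (Nat.sub (Nat.add X 128) st) 128) st

/-- The search with a distinguished smallest entry. -/
def searchPos (p q o : Item) (X : ℕ) (ms : List ℕ) : Bool :=
  and (loopX p q o ms true X) (loopX p q o ms false X)

/-- The certification of the first bound. -/
def xOK (A X : ℕ) : Bool := and (Nat.ble A X) (Nat.ble 9728000 (Nat.mul X (Nat.sub X A)))

/-- The whole search. -/
def search (u v w : Item) (X : ℕ) (ms : List ℕ) : Bool :=
  and (xOK (Nat.add u.1 (Nat.add v.1 w.1)) X)
    (and (searchPos u v w X ms) (and (searchPos v w u X ms) (searchPos w u v X ms)))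

end Cfsg.Agent.H52.JThree
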