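import Cfsg.Agent.H52.JThree.Arith

/-!
The patterns of the first row with the orders they allow, and the excluding rows.
-/

set_option autoImplicit false

namespace Cfsg.Agent.H52.JThree.Arith

/-- Part 0 of the first table. -/
def table1_0 : List (List (ℕ × ℕ) × ℕ × List ℕ) := [
  ([(1, 1), (225, 49), (1225, 77)], 3928, []),
  ([(4, 110), (484, 90), (625, 55)], 3725, []),
  ([(16, 92), (441, 91), (576, 72)], 3678, []),
  ([(25, 43), (361, 29), (625, 55)], 3666, []),
  ([(36, 86), (400, 92), (1225, 77)], 4059, [85126885]),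
  ([(49, 25), (49, 25), (1225, 77)], 3850, []),
  ([(49, 25), (361, 29), (529, 73)], 3624, []),
  ([(81, 7), (225, 97), (625, 23)], 3620, []),
  ([(81, 23), (225, 49), (625, 55)], 3620, []),
  ([(100, 6), (289, 31), (484, 90)], 3586, []),
  ([(144, 84), (196, 98), (529, 73)], 3584, []),
  ([(196, 98), (225, 49), (400, 108)], 3557, [])]

/-- Part 1 of the first table. -/
def table1_1 : List (List (ℕ × ℕ) × ℕ × List ℕ) := [
  ([(1, 1), (324, 30), (1024, 96)], 3866, [28111875]),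
  ([(16, 92), (100, 86), (1225, 77)], 3861, []),
  ([(16, 92), (484, 90), (529, 73)], 3676, []),
  ([(25, 43), (400, 12), (576, 72)], 3660, [18411, 20043, 220468875]),
  ([(36, 86), (441, 91), (1156, 78)], 4041, []),
  ([(49, 25), (100, 6), (1024, 96)], 3761, []),
  ([(49, 25), (400, 12), (484, 90)], 3621, []),
  ([(81, 7), (324, 30), (484, 90)], 3595, []),
  ([(81, 23), (289, 31), (529, 73)], 3601, []),
  ([(100, 6), (361, 29), (400, 92)], 3580, [111813]),
  ([(196, 66), (196, 98), (441, 91)], 3564, []),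
  ([(225, 49), (225, 49), (361, 29)], 3551, [])]

/-- Part 2 of the first table. -/
def table1_2 : List (List (ℕ × ℕ) × ℕ × List ℕ) := [
  ([(1, 1), (361, 29), (961, 97)], 3850, []),
  ([(16, 92), (196, 66), (961, 97)], 3761, []),
  ([(25, 43), (81, 7), (1225, 77)], 3855, []),
  ([(25, 75), (144, 84), (1024, 96)], 3773, [5415, 12327, 297255, 2200295]),
  ([(36, 86), (529, 73), (1024, 96)], 4014, []),
  ([(49, 25), (144, 84), (900, 18)], 3713, []),
  ([(81, 7), (81, 23), (961, 97)], 3731, []),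
  ([(81, 7), (361, 29), (441, 91)], 3592, []),
  ([(81, 23), (400, 12), (400, 92)], 3591, []),
  ([(100, 86), (196, 98), (625, 71)], 3614, []),
  ([(196, 66), (225, 49), (400, 12)], 3557, [26163, 10127475])]

/-- Part 3 of the first table. -/
def table1_3 : List (List (ℕ × ℕ) × ℕ × List ℕ) := [
  ([(1, 1), (400, 108), (900, 18)], 3837, []),
  ([(16, 92), (400, 12), (625, 23)], 3683, []),
  ([(25, 43), (100, 6), (1156, 78)], 3825, []),
  ([(25, 75), (361, 29), (625, 23)], 3666, []),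
  ([(36, 86), (625, 23), (900, 18)], 3996, [13375]),
  ([(49, 25), (225, 97), (729, 5)], 3661, []),
  ([(81, 7), (100, 6), (900, 114)], 3706, []),
  ([(81, 7), (400, 12), (400, 108)], 3591, []),
  ([(100, 6), (196, 98), (625, 23)], 3614, []),
  ([(100, 86), (225, 97), (576, 72)], 3602, []),
  ([(196, 66), (225, 97), (400, 92)], 3557, [])]

/-- Part 4 of the first table. -/
def table1_4 : List (List (ℕ × ℕ) × ℕ × List ℕ) := [
  ([(4, 110), (225, 49), (1024, 96)], 3808, []),
  ([(16, 92), (400, 108), (625, 55)], 3683, [41895, 67431, 114855, 16020135]),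
  ([(25, 43), (196, 66), (900, 18)], 3730, []),
  ([(25, 75), (484, 90), (484, 90)], 3655, []),
  ([(36, 86), (625, 55), (900, 114)], 3996, []),
  ([(49, 25), (324, 30), (576, 72)], 3630, [4375]),
  ([(81, 7), (225, 49), (625, 71)], 3620, []),
  ([(81, 23), (100, 86), (900, 18)], 3706, []),
  ([(100, 6), (225, 49), (576, 72)], 3602, []),
  ([(100, 86), (361, 29), (400, 12)], 3580, []),
  ([(196, 66), (289, 31), (324, 30)], 3550, [])]

/-- The first table. -/
def table1 : List (List (ℕ × ℕ) × ℕ × List ℕ) :=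
  table1_0 ++ table1_1 ++ table1_2 ++ table1_3 ++ table1_4

/-- The second table. -/
def table2 : List (ℕ × List (ℕ × ℕ) × ℕ × List (ℕ × ℕ)) := [
  (320, [(1, 1), (225, 97), (324, 30)], 28111875, [(2, 7), (3, 2), (5, 5), (11, 1), (29, 1), (47, 1)]),
  (320, [(1, 111), (1, 127), (900, 18)], 13375, [(2, 7), (3, 1), (5, 4), (107, 1)]),
  (320, [(1, 111), (16, 68), (1225, 77)], 85126885, [(2, 7), (3, 1), (5, 2), (43, 1), (599, 1), (661, 1)]),
  (320, [(1, 111), (100, 6), (441, 11)], 111813, [(2, 7), (3, 2), (5, 1), (13, 1), (47, 1), (61, 1)]),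
  (320, [(1, 111), (121, 5), (400, 12)], 18411, [(2, 7), (3, 2), (5, 1), (17, 1), (19, 2)]),
  (320, [(1, 111), (121, 5), (400, 12)], 20043, [(2, 7), (3, 3), (5, 1), (17, 1), (131, 1)]),
  (320, [(1, 111), (121, 5), (400, 12)], 10127475, [(2, 7), (3, 3), (5, 3), (19, 1), (23, 1), (103, 1)]),
  (320, [(1, 111), (121, 5), (400, 12)], 220468875, [(2, 7), (3, 2), (5, 4), (11, 1), (19, 1), (29, 1), (97, 1)]),
  (320, [(1, 111), (169, 115), (324, 30)], 4375, [(2, 7), (3, 1), (5, 5), (7, 1)]),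
  (320, [(1, 127), (121, 117), (400, 12)], 18411, [(2, 7), (3, 2), (5, 1), (17, 1), (19, 2)]),
  (320, [(1, 127), (121, 117), (400, 12)], 20043, [(2, 7), (3, 3), (5, 1), (17, 1), (131, 1)]),
  (320, [(1, 127), (121, 117), (400, 12)], 220468875, [(2, 7), (3, 2), (5, 4), (11, 1), (19, 1), (29, 1), (97, 1)]),
  (320, [(4, 50), (256, 48), (324, 30)], 28111875, [(2, 7), (3, 2), (5, 5), (11, 1), (29, 1), (47, 1)]),
  (320, [(9, 109), (121, 117), (324, 30)], 4375, [(2, 7), (3, 1), (5, 5), (7, 1)]),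
  (320, [(9, 109), (121, 117), (324, 30)], 28111875, [(2, 7), (3, 2), (5, 5), (11, 1), (29, 1), (47, 1)]),
  (320, [(16, 68), (36, 42), (900, 18)], 13375, [(2, 7), (3, 1), (5, 4), (107, 1)]),
  (320, [(16, 68), (100, 6), (676, 54)], 111813, [(2, 7), (3, 2), (5, 1), (13, 1), (47, 1), (61, 1)]),
  (320, [(16, 68), (121, 5), (625, 55)], 41895, [(2, 7), (3, 3), (5, 2), (7, 2), (19, 1)]),
  (320, [(16, 68), (121, 5), (625, 55)], 67431, [(2, 7), (3, 2), (5, 1), (7, 1), (13, 2), (19, 1)]),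
  (320, [(16, 68), (121, 5), (625, 55)], 114855, [(2, 7), (3, 2), (5, 2), (13, 1), (19, 1), (31, 1)]),
  (320, [(16, 68), (121, 5), (625, 55)], 16020135, [(2, 7), (3, 3), (5, 2), (19, 1), (41, 1), (457, 1)]),
  (320, [(16, 68), (256, 48), (400, 12)], 18411, [(2, 7), (3, 2), (5, 1), (17, 1), (19, 2)]),
  (320, [(16, 68), (256, 48), (400, 12)], 20043, [(2, 7), (3, 3), (5, 1), (17, 1), (131, 1)]),
  (320, [(16, 68), (256, 48), (400, 12)], 10127475, [(2, 7), (3, 3), (5, 3), (19, 1), (23, 1), (103, 1)]),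
  (320, [(16, 68), (256, 48), (400, 12)], 220468875, [(2, 7), (3, 2), (5, 4), (11, 1), (19, 1), (29, 1), (97, 1)]),
  (320, [(25, 75), (121, 5), (256, 48)], 5415, [(2, 7), (3, 2), (5, 2), (19, 2)]),
  (320, [(25, 75), (121, 5), (256, 48)], 12327, [(2, 7), (3, 2), (5, 1), (7, 1), (587, 1)]),
  (320, [(25, 75), (121, 5), (256, 48)], 297255, [(2, 7), (3, 2), (5, 2), (7, 1), (19, 1), (149, 1)]),
  (320, [(25, 75), (121, 5), (256, 48)], 2200295, [(2, 7), (3, 1), (5, 2), (19, 2), (23, 1), (53, 1)]),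
  (320, [(36, 42), (36, 74), (400, 12)], 18411, [(2, 7), (3, 2), (5, 1), (17, 1), (19, 2)]),
  (320, [(36, 42), (36, 74), (400, 12)], 20043, [(2, 7), (3, 3), (5, 1), (17, 1), (131, 1)]),
  (320, [(36, 42), (36, 74), (400, 12)], 10127475, [(2, 7), (3, 3), (5, 3), (19, 1), (23, 1), (103, 1)]),
  (320, [(36, 42), (36, 74), (400, 12)], 220468875, [(2, 7), (3, 2), (5, 4), (11, 1), (19, 1), (29, 1), (97, 1)]),
  (320, [(36, 74), (81, 105), (1225, 77)], 85126885, [(2, 7), (3, 1), (5, 2), (43, 1), (599, 1), (661, 1)]),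
  (320, [(36, 74), (100, 6), (256, 48)], 111813, [(2, 7), (3, 2), (5, 1), (13, 1), (47, 1), (61, 1)]),
  (320, [(81, 105), (121, 5), (900, 18)], 13375, [(2, 7), (3, 1), (5, 4), (107, 1)]),
  (320, [(196, 62), (400, 12), (676, 54)], 10127475, [(2, 7), (3, 3), (5, 3), (19, 1), (23, 1), (103, 1)]),
  (320, [(196, 62), (441, 11), (625, 55)], 41895, [(2, 7), (3, 3), (5, 2), (7, 2), (19, 1)]),
  (320, [(196, 62), (441, 11), (625, 55)], 67431, [(2, 7), (3, 2), (5, 1), (7, 1), (13, 2), (19, 1)]),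
  (320, [(196, 62), (441, 11), (625, 55)], 114855, [(2, 7), (3, 2), (5, 2), (13, 1), (19, 1), (31, 1)]),
  (320, [(196, 62), (441, 11), (625, 55)], 16020135, [(2, 7), (3, 3), (5, 2), (19, 1), (41, 1), (457, 1)])]

/-- A row of the first table is certified. -/
def check1 : List (ℕ × ℕ) × ℕ × List ℕ → Bool
  | ([u, v, w], X, ms) => and (and (Nat.blt u.2 128) (and (Nat.blt v.2 128) (Nat.blt w.2 128))) (search u v w X ms)
  | _ => false

end Cfsg.Agent.H52.JThree.Arith
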