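import Cfsg.Agent.H52.JThree.Search

/-!
Soundness of the finite search.
-/

set_option autoImplicit false

namespace Cfsg.Agent.H52.JThree

theorem allStep_spec {f : ℕ → Bool} : ∀ {n y : ℕ}, allStep f n y = true →
    ∀ k : ℕ, k < n → f (y + 128 * k) = true := by
  intro n
  induction n with
  | zero => intro y _ k hk; omega
  | succ n ih =>
    intro y h k hk
    have h' : (f y && allStep f n (y + 128)) = true := h
    rw [Bool.and_eq_true] at h'
    cases k with
    | zero => simpa using h'.1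
    | succ k =>
      have := ih h'.2 k (by omega)
      rwa [show y + 128 + 128 * k = y + 128 * (k + 1) by ring] at this

theorem loop_spec {f : ℕ → Bool} {lo r Y a : ℕ}
    (h : allStep f (Nat.div (Nat.sub (Nat.add Y 128) (startAt lo r)) 128) (startAt lo r) = true)
    (h1 : lo ≤ a) (h2 : a ≤ Y) (h3 : a % 128 = r % 128) : f a = true := by
  have key : startAt lo r ≤ a ∧ (a - startAt lo r) % 128 = 0 := by
    simp only [startAt, Nat.add_eq, Nat.sub_eq]
    simp only [show ∀ a b : ℕ, Nat.mod a b = a % b from fun _ _ => rfl]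
    omega
  have hk : a = startAt lo r + 128 * ((a - startAt lo r) / 128) := by omega
  rw [hk]
  refine allStep_spec h _ ?_
  show _ < (Y + 128 - startAt lo r) / 128
  omega

/-- The sign. -/
def sg (p : Bool) : ℤ := cond p 1 (-1)

theorem exists_sg {x : ℤ} (hx : x ≠ 0) : ∃ p : Bool, ∃ a : ℕ, 0 < a ∧ x = sg p * a := by
  rcases lt_or_gt_of_ne hx with h | h
  · exact ⟨false, x.natAbs, by omega, by simp only [sg, cond_false]; omega⟩
  · exact ⟨true, x.natAbs, by omega, by simp only [sg, cond_true]; omega⟩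

theorem magRes_spec {r a : ℕ} {p : Bool} (h : (sg p * a - (r : ℤ)) % 128 = 0) :
    a % 128 = magRes r p % 128 := by
  cases p <;> simp [sg, magRes, show ∀ a b : ℕ, Nat.mod a b = a % b from fun _ _ => rfl] at h ⊢ <;> omega

theorem resOK_spec {r a : ℕ} {p : Bool} (hr : r < 128) (h : (sg p * a - (r : ℤ)) % 128 = 0) :
    resOK r p a = true := by
  cases p <;>
    simp [sg, resOK, show ∀ a b : ℕ, Nat.mod a b = a % b from fun _ _ => rfl, Nat.beq_eq] at h ⊢ <;> omega

theorem z_spec {px py pz : Bool} {ax ay az : ℕ} (hz : 0 < az) (hax : 0 < ax) (hay : 0 < ay)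
    (hs : sg px * ax + sg py * ay + sg pz * az = -1) :
    zpos px py ax ay = pz ∧ zabs px py ax ay = az := by
  have hblt : ∀ a b : ℕ, Nat.blt a b = decide (a < b) := fun a b => by
    rw [Bool.eq_iff_iff, Nat.blt_eq, decide_eq_true_iff]
  cases px <;> cases py <;> cases pz <;>
    simp [sg, zpos, zabs, hblt] at hs ⊢ <;> omega

theorem pick_sub (p : Bool) (t : ℕ) : ((pick p t : ℕ) : ℤ) - (pick (!p) t : ℕ) = sg p * t := by
  cases p <;> simp [pick, sg]

/-- The equation in magnitudes. -/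
theorem eq_mag {a1 a2 a3 m : ℕ} {px py pz : Bool} {ax ay az : ℕ}
    (heq : (m : ℤ) * ((sg px * ax) * (sg py * ay) * (sg pz * az) + a1 * (sg py * ay) * (sg pz * az) +
        a2 * (sg px * ax) * (sg pz * az) + a3 * (sg px * ax) * (sg py * ay)) =
      15200 * ((sg px * ax) * (sg py * ay) * (sg pz * az))) :
    (m : ℤ) * ((ax * (ay * az) : ℕ) + (sg px * (a1 * (ay * az) : ℕ) + sg py * (a2 * (ax * az) : ℕ) +
      sg pz * (a3 * (ax * ay) : ℕ))) = 15200 * (ax * (ay * az) : ℕ) := by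
  have hsq : ∀ p, sg p * sg p = 1 := fun p => by cases p <;> simp [sg]
  have e : (sg px * sg py * sg pz) * (sg px * sg py * sg pz) = 1 := by
    rw [show (sg px * sg py * sg pz) * (sg px * sg py * sg pz) =
      (sg px * sg px) * (sg py * sg py) * (sg pz * sg pz) by ring, hsq, hsq, hsq]; ring
  have h1 := congrArg (fun t => (sg px * sg py * sg pz) * t) heq
  push_cast
  linear_combination h1 + (-(m : ℤ) * ax * ay * az + 15200 * ax * ay * az) * e -
    (m : ℤ) * (sg px * a1 * ay * az) * ((sg pz * sg pz) * hsq py + hsq pz) -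
    (m : ℤ) * (sg py * a2 * ax * az) * ((sg pz * sg pz) * hsq px + hsq pz) -
    (m : ℤ) * (sg pz * a3 * ax * ay) * ((sg py * sg py) * hsq px + hsq py)

theorem chk_spec {a1 a2 a3 r3 : ℕ} {ms : List ℕ} {px py pz : Bool} {ax ay az : ℕ}
    (h : chkN a1 a2 a3 r3 ms px py pz ax ay az = true) (hx : 0 < ax) (hy : 0 < ay) (hz : 0 < az)
    (h13 : ax ≤ az) (hr : resOK r3 pz az = true) {m : ℕ} (hm : m % 2 = 1)
    (hsq : ax * ax + ay * ay + az * az ≤ 1920 * m)
    (dx : ax ∣ 1920 * m) (dy : ay ∣ 1920 * m) (dz : az ∣ 1920 * m)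
    (heq : (m : ℤ) * ((ax * (ay * az) : ℕ) + (sg px * (a1 * (ay * az) : ℕ) + sg py * (a2 * (ax * az) : ℕ) +
      sg pz * (a3 * (ax * ay) : ℕ))) = 15200 * (ax * (ay * az) : ℕ)) : m ∈ ms := by
  have hmod : ∀ a b : ℕ, Nat.mod a b = a % b := fun _ _ => rfl
  have hdiv : ∀ a b : ℕ, Nat.div a b = a / b := fun _ _ => rfl
  simp only [chkN, hmod, hdiv, Nat.add_eq, Nat.mul_eq, Nat.sub_eq, Bool.or_eq_true, Bool.not_eq_true',
    Nat.ble_eq, hr] at h
  set M := ax * (ay * az) with hM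
  set P := M + (pick px (a1 * (ay * az)) + (pick py (a2 * (ax * az)) + pick pz (a3 * (ax * ay)))) with hP
  set N := pick (!px) (a1 * (ay * az)) + (pick (!py) (a2 * (ax * az)) + pick (!pz) (a3 * (ax * ay))) with hN
  have e : (m : ℤ) * ((P : ℤ) - N) = 15200 * (M : ℤ) := by
    rw [← heq, hP, hN]
    simp only [← pick_sub]
    push_cast
    ring
  have hM0 : 0 < M := Nat.mul_pos hx (Nat.mul_pos hy hz)
  have hPN : N < P := by
    by_contra hc
    push Not at hc
    nlinarith [Int.natCast_nonneg m, (by exact_mod_cast hc : (P : ℤ) ≤ N), (by exact_mod_cast hM0 : (0 : ℤ) < M)]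
  have hq : 15200 * M = m * (P - N) := by
    have : ((15200 * M : ℕ) : ℤ) = ((m * (P - N) : ℕ) : ℤ) := by
      push_cast [Nat.cast_sub hPN.le]; linarith
    exact_mod_cast this
  have hd0 : 0 < P - N := by omega
  rw [hq, Nat.mul_mod_left, Nat.mul_div_cancel _ hd0] at h
  rcases h with h | h | h | h | h | h | h | h | h | h
  · simp [Nat.blt] at h; omega
  · omega
  · simp at h
  · simp [Nat.beq_eq] at h; omega
  · simp at h
  · simp [Nat.blt] at h; omega
  · rw [Nat.mod_eq_zero_of_dvd dx] at h; simp at h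
  · rw [Nat.mod_eq_zero_of_dvd dy] at h; simp at h
  · rw [Nat.mod_eq_zero_of_dvd dz] at h; simp at h
  · simpa using h

theorem abs_sg (p : Bool) (a : ℕ) : |sg p * (a : ℤ)| = a := by cases p <;> simp [sg]

theorem cdist_spec (a : ℕ) (p : Bool) (x : ℕ) : (cdist a p x : ℤ) = |sg p * x + a| := by
  cases p <;> simp only [cdist, sg, cond_true, cond_false, Nat.add_eq, Nat.sub_eq]
  · rcases le_total a x with h | h
    · rw [abs_of_nonpos (by omega)]; omega
    · rw [abs_of_nonneg (by omega)]; omega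
  · rw [abs_of_nonneg (by omega)]; omega

theorem sdist_spec (p : Bool) {x : ℕ} (hx : 0 < x) : (sdist p x : ℤ) = |-1 - sg p * x| := by
  cases p <;> simp only [sdist, sg, cond_true, cond_false, Nat.add_eq, Nat.sub_eq]
  · rw [abs_of_nonneg (by omega)]; omega
  · rw [abs_of_nonpos (by omega)]; omega

theorem ndist_spec (a b : ℕ) : (ndist a b : ℤ) = |(a : ℤ) - b| := by
  simp only [ndist, Nat.add_eq, Nat.sub_eq]
  rcases le_total a b with h | h
  · rw [abs_of_nonpos (by omega)]; omega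
  · rw [abs_of_nonneg (by omega)]; omega

/-- The bound on the smallest entry. -/
theorem x_bound {a1 a2 a3 X m ax ay az : ℕ} {px py pz : Bool}
    (hX : xOK (Nat.add a1 (Nat.add a2 a3)) X = true) (hx : 0 < ax) (h2 : ax ≤ ay) (h3 : ax ≤ az)
    (hsq : ax * ax + ay * ay + az * az ≤ 1920 * m)
    (heq : (m : ℤ) * ((ax * (ay * az) : ℕ) + (sg px * (a1 * (ay * az) : ℕ) + sg py * (a2 * (ax * az) : ℕ) +
      sg pz * (a3 * (ax * ay) : ℕ))) = 15200 * (ax * (ay * az) : ℕ)) : ax ≤ X := by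
  simp only [xOK, Nat.add_eq, Nat.mul_eq, Nat.sub_eq, Bool.and_eq_true, Nat.ble_eq] at hX
  by_contra hlt
  push Not at hlt
  set A := a1 + (a2 + a3) with hA
  push_cast at heq
  set M : ℤ := (ax : ℤ) * (ay * az) with hM
  have hMp : 0 < M := by
    have : (0 : ℤ) < ax := by exact_mod_cast hx
    have : (0 : ℤ) < ay := by omega
    have : (0 : ℤ) < az := by omega
    positivity
  have hs : ∀ (p : Bool) (t : ℤ), 0 ≤ t → -t ≤ sg p * t := fun p t ht => by cases p <;> simp [sg] <;> linarith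
  set T := sg px * ((a1 : ℤ) * (ay * az)) + sg py * ((a2 : ℤ) * (ax * az)) + sg pz * ((a3 : ℤ) * (ax * ay)) with hT
  have hlow : (ax : ℤ) * (M + T) ≥ M * ((ax : ℤ) - A) := by
    have h1 := hs px ((a1 : ℤ) * (ay * az)) (by positivity)
    have h2' := hs py ((a2 : ℤ) * (ax * az)) (by positivity)
    have h3' := hs pz ((a3 : ℤ) * (ax * ay)) (by positivity)
    have e2 : (ax : ℤ) * ((a2 : ℤ) * (ax * az)) ≤ (a2 : ℤ) * M := by
      have : (ax : ℤ) ≤ ay := by exact_mod_cast h2
      have : (0 : ℤ) ≤ (a2 : ℤ) * ax * az := by positivity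
      rw [hM]; nlinarith
    have e3 : (ax : ℤ) * ((a3 : ℤ) * (ax * ay)) ≤ (a3 : ℤ) * M := by
      have : (ax : ℤ) ≤ az := by exact_mod_cast h3
      have : (0 : ℤ) ≤ (a3 : ℤ) * ax * ay := by positivity
      rw [hM]; nlinarith
    have hax : (0 : ℤ) ≤ ax := by positivity
    have : (A : ℤ) = a1 + (a2 + a3) := by rw [hA]; push_cast; ring
    rw [this, hT]
    have := mul_le_mul_of_nonneg_left (add_le_add (add_le_add h1 h2') h3') hax
    rw [hM] at *
    linarith
  have hm640 : ax * ax ≤ 640 * m := by nlinarith [Nat.mul_le_mul h2 h2, Nat.mul_le_mul h3 h3]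
  have hgap : (0 : ℤ) ≤ (ax : ℤ) - A := by omega
  have k1 : (m : ℤ) * ((ax : ℤ) - A) ≤ 15200 * ax := by
    refine le_of_mul_le_mul_left ?_ hMp
    have := mul_le_mul_of_nonneg_left hlow (by positivity : (0 : ℤ) ≤ m)
    have e : (m : ℤ) * ((ax : ℤ) * (M + T)) = ax * (15200 * M) := by rw [← heq]; ring
    nlinarith
  have k2 : (ax : ℤ) * ((ax : ℤ) - A) ≤ 9728000 := by
    refine le_of_mul_le_mul_left ?_ (by exact_mod_cast hx : (0 : ℤ) < ax)
    have : ((ax * ax : ℕ) : ℤ) ≤ ((640 * m : ℕ) : ℤ) := by exact_mod_cast hm640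
    push_cast at this
    nlinarith [mul_le_mul_of_nonneg_right this hgap]
  have k3 : ((9728000 : ℕ) : ℤ) ≤ ((X * (X - A) : ℕ) : ℤ) := by exact_mod_cast hX.2
  push_cast [Nat.cast_sub hX.1] at k3
  have : (X : ℤ) < ax := by exact_mod_cast hlt
  have : (0 : ℤ) ≤ (X : ℤ) - A := by omega
  nlinarith

theorem yOK_zero {a1 a2 a3 Y ax : ℕ} {px : Bool} (hY : yOK a1 a2 a3 px ax Y = true)
    (hc : cdist a1 px ax = 0) : 14592000 + a2 * sdist px ax < ndist a2 a3 * (Y + 1) := by
  rw [yOK, hc] at hY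
  exact Nat.blt_eq.mp hY

theorem yOK_pos {a1 a2 a3 Y ax : ℕ} {px : Bool} (hY : yOK a1 a2 a3 px ax Y = true)
    (hc : cdist a1 px ax ≠ 0) :
    (cdist a1 px ax * sdist px ax + ax * ndist a2 a3) * Y + ax * (a2 * sdist px ax + 14592000) ≤
      cdist a1 px ax * (Y * Y) ∧
    cdist a1 px ax * sdist px ax + ax * ndist a2 a3 ≤ 2 * (cdist a1 px ax * Y) := by
  rw [yOK, show Nat.beq (cdist a1 px ax) 0 = false from
    Bool.eq_false_iff.mpr fun e => hc (Nat.eq_of_beq_eq_true e), cond_false, Bool.and_eq_true] at hY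
  exact ⟨Nat.ble_eq.mp hY.1, Nat.ble_eq.mp hY.2⟩

set_option maxHeartbeats 1000000 in
/-- The bound on the second entry. -/
theorem y_bound {a1 a2 a3 Y m ax ay az : ℕ} {px py pz : Bool}
    (hY : yOK a1 a2 a3 px ax Y = true) (hx : 0 < ax) (hy : 0 < ay) (hz : 0 < az)
    (hs : sg px * ax + sg py * ay + sg pz * az = -1)
    (hsq : ax * ax + ay * ay + az * az ≤ 1920 * m)
    (heq : (m : ℤ) * ((ax * (ay * az) : ℕ) + (sg px * (a1 * (ay * az) : ℕ) + sg py * (a2 * (ax * az) : ℕ) +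
      sg pz * (a3 * (ax * ay) : ℕ))) = 15200 * (ax * (ay * az) : ℕ)) : ay ≤ Y := by
  by_contra hlt
  push Not at hlt
  push_cast at heq
  have hx' : (0 : ℤ) < ax := by exact_mod_cast hx
  have hy' : (0 : ℤ) < ay := by exact_mod_cast hy
  have hz' : (0 : ℤ) < az := by exact_mod_cast hz
  set x : ℤ := sg px * ax with hxdef
  set y : ℤ := sg py * ay with hydef
  set w : ℤ := sg pz * az with hwdef
  set F := (ax : ℤ) * (ay * az) + (sg px * ((a1 : ℤ) * (ay * az)) + sg py * ((a2 : ℤ) * (ax * az)) +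
      sg pz * ((a3 : ℤ) * (ax * ay))) with hF
  have hsg : ∀ p, sg p = 1 ∨ sg p = -1 := fun p => by cases p <;> simp [sg]
  have hFabs : |F| = |(x + a1) * (y * w) + x * (a2 * (-1 - x) + ((a3 : ℤ) - a2) * y)| := by
    have hwz : w = -1 - x - y := by linarith
    rw [show (a2 : ℤ) * (-1 - x) + ((a3 : ℤ) - a2) * y = a2 * w + a3 * y by rw [hwz]; ring, hF, hxdef,
      hydef, hwdef]
    rcases hsg px with e1 | e1 <;> rcases hsg py with e2 | e2 <;> rcases hsg pz with e3 | e3 <;>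
      rw [e1, e2, e3] <;>
      first
        | (congr 1; ring; done)
        | (rw [← abs_neg]; congr 1; ring; done)
  have hmpos : 0 < m := by
    by_contra h0
    have : m = 0 := by omega
    subst this
    nlinarith [Nat.mul_pos hx hx]
  have hF0 : 0 ≤ F := by
    by_contra h0
    push Not at h0
    have : (0 : ℤ) < (m : ℤ) := by exact_mod_cast hmpos
    nlinarith [mul_pos hx' (mul_pos hy' hz'), mul_neg_of_pos_of_neg this h0]
  have hFle : F ≤ 14592000 * ax := by
    have h960 : ((ay : ℤ) * az) ≤ 960 * m := by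
      have : ((ax * ax + ay * ay + az * az : ℕ) : ℤ) ≤ ((1920 * m : ℕ) : ℤ) := by exact_mod_cast hsq
      push_cast at this
      nlinarith [sq_nonneg ((ay : ℤ) - az), sq_nonneg (ax : ℤ)]
    refine le_of_mul_le_mul_left ?_ (mul_pos hy' hz')
    nlinarith [mul_le_mul_of_nonneg_right h960 hF0]
  rw [abs_of_nonneg hF0] at hFabs
  set D := (a2 : ℤ) * (-1 - x) + ((a3 : ℤ) - a2) * y with hD
  have hDle : |D| ≤ (a2 : ℤ) * sdist px ax + ndist a2 a3 * ay := by
    rw [hD, sdist_spec px hx, ndist_spec, ← hxdef, abs_sub_comm (a2 : ℤ) a3]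
    refine (abs_add_le _ _).trans (le_of_eq ?_)
    rw [abs_mul, abs_mul, Nat.abs_cast, hydef, abs_sg]
  have hc := cdist_spec a1 px ax
  rw [← hxdef] at hc
  have hmain : (cdist a1 px ax : ℤ) * (ay * az) ≤ 14592000 * ax + ax * |D| := by
    have h1 : |(x + a1) * (y * w)| = (cdist a1 px ax : ℤ) * (ay * az) := by
      rw [abs_mul, abs_mul, hc, hydef, hwdef, abs_sg, abs_sg]
    have h2 : |x * D| = ax * |D| := by rw [abs_mul, hxdef, abs_sg]
    have h3 := abs_sub_abs_le_abs_sub ((x + a1) * (y * w)) (-(x * D))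
    rw [abs_neg, sub_neg_eq_add, h1, h2, ← hFabs] at h3
    linarith
  by_cases hc0 : cdist a1 px ax = 0
  · have hY' := yOK_zero hY hc0
    have hx0 : x + a1 = 0 := abs_eq_zero.mp (by rw [← hc, hc0]; rfl)
    have hFD : |D| ≤ 14592000 := by
      refine le_of_mul_le_mul_left ?_ hx'
      have : |x * D| = ax * |D| := by rw [abs_mul, hxdef, abs_sg]
      rw [hx0, zero_mul, zero_add, this] at hFabs
      linarith
    have hlow : (ndist a2 a3 : ℤ) * ay - a2 * sdist px ax ≤ |D| := by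
      have h := abs_sub_abs_le_abs_sub (((a3 : ℤ) - a2) * y) (-((a2 : ℤ) * (-1 - x)))
      rw [abs_neg, abs_mul, abs_mul (a2 : ℤ), Nat.abs_cast, sub_neg_eq_add, abs_sub_comm (a3 : ℤ),
        ← ndist_spec] at h
      rw [show |y| = (ay : ℤ) from abs_sg py ay,
        show |-1 - x| = (sdist px ax : ℤ) from (sdist_spec px hx).symm] at h
      rw [hD, add_comm]
      exact h
    have : ((14592000 + a2 * sdist px ax : ℕ) : ℤ) < ((ndist a2 a3 * (Y + 1) : ℕ) : ℤ) := by
      exact_mod_cast hY'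
    push_cast at this
    have : (Y : ℤ) + 1 ≤ ay := by exact_mod_cast hlt
    nlinarith [(Int.natCast_nonneg (ndist a2 a3))]
  · obtain ⟨q1, q2⟩ := yOK_pos hY hc0
    have q1' := (Int.ofNat_le.mpr q1 : _)
    have q2' := (Int.ofNat_le.mpr q2 : _)
    push_cast at q1' q2'
    have hazlow : (ay : ℤ) - sdist px ax ≤ az := by
      have h := abs_sub_abs_le_abs_sub y (-1 - x)
      rw [hydef, abs_sg, hxdef, ← sdist_spec px hx] at h
      have e : |y - (-1 - x)| = az := by rw [show y - (-1 - x) = -w by linarith, abs_neg, hwdef, abs_sg]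
      rw [hydef, hxdef] at e
      rw [e] at h
      exact h
    have hcp : (1 : ℤ) ≤ cdist a1 px ax := by
      have : 1 ≤ cdist a1 px ax := Nat.one_le_iff_ne_zero.mpr hc0
      exact_mod_cast this
    have hY1 : (Y : ℤ) + 1 ≤ ay := by exact_mod_cast hlt
    have hb : (cdist a1 px ax : ℤ) * (ay * ((ay : ℤ) - sdist px ax)) ≤
        14592000 * ax + ax * ((a2 : ℤ) * sdist px ax + ndist a2 a3 * ay) := by
      refine le_trans ?_ (le_trans hmain ?_)
      · gcongr
      · gcongr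
    nlinarith [mul_pos (by linarith : (0 : ℤ) < (ay : ℤ) - Y) (by nlinarith :
      (0 : ℤ) < (cdist a1 px ax : ℤ) * (ay + Y) - ((cdist a1 px ax : ℤ) * sdist px ax + ax * ndist a2 a3))]

theorem searchPos_sound {p q o : Item} {X : ℕ} {ms : List ℕ} (h : searchPos p q o X ms = true)
    (hX : xOK (Nat.add p.1 (Nat.add q.1 o.1)) X = true) (ho : o.2 < 128)
    {x y z : ℤ} (hs : x + y + z = -1) (hx : x ≠ 0) (hy : y ≠ 0) (hz : z ≠ 0)
    (hxy : x.natAbs ≤ y.natAbs) (hxz : x.natAbs ≤ z.natAbs)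
    (rx : (x - p.2) % 128 = 0) (ry : (y - q.2) % 128 = 0) (rz : (z - o.2) % 128 = 0)
    {m : ℕ} (hm : m % 2 = 1) (hsq : x * x + y * y + z * z ≤ 1920 * m)
    (dx : x ∣ (1920 * m : ℕ)) (dy : y ∣ (1920 * m : ℕ)) (dz : z ∣ (1920 * m : ℕ))
    (heq : (m : ℤ) * (x * y * z + p.1 * y * z + q.1 * x * z + o.1 * x * y) = 15200 * (x * y * z)) :
    m ∈ ms := by
  obtain ⟨px, ax, hax, rfl⟩ := exists_sg hx
  obtain ⟨py, ay, hay, rfl⟩ := exists_sg hy
  obtain ⟨pz, az, haz, rfl⟩ := exists_sg hz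
  have habs : ∀ (p : Bool) (a : ℕ), (sg p * (a : ℤ)).natAbs = a := fun p a => by cases p <;> simp [sg]
  rw [habs, habs] at hxy hxz
  have hsq' : ax * ax + ay * ay + az * az ≤ 1920 * m := by
    have : ∀ (p : Bool) (a : ℕ), sg p * (a : ℤ) * (sg p * a) = (a : ℤ) * a := fun p a => by
      cases p <;> simp [sg]
    rw [this, this, this] at hsq
    exact_mod_cast hsq
  have hd : ∀ (p : Bool) (a : ℕ), sg p * (a : ℤ) ∣ (1920 * m : ℕ) → a ∣ 1920 * m := fun p a h => by
    have := Int.natAbs_dvd_natAbs.mpr h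
    rwa [habs, Int.natAbs_natCast] at this
  have heq' := eq_mag heq
  simp only [searchPos, Bool.and_eq_true] at h
  have hloop : loopX p q o ms px X = true := by cases px; exacts [h.2, h.1]
  have hxX := x_bound hX hax hxy hxz hsq' heq'
  have h1 := loop_spec hloop hax hxX (magRes_spec rx)
  simp only [Bool.and_eq_true] at h1
  have hyY := y_bound h1.1 hax hay haz hs hsq' heq'
  have hly : loopY p q o ms px py ax (ybound p.1 q.1 o.1 px ax) = true := by
    cases py; exacts [h1.2.2, h1.2.1]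
  have h2 := loop_spec hly hxy hyY (magRes_spec ry)
  obtain ⟨e1, e2⟩ := z_spec haz hax hay hs
  rw [e1, e2] at h2
  exact chk_spec h2 hax hay haz hxz (resOK_spec ho rz) hm hsq' (hd _ _ dx) (hd _ _ dy) (hd _ _ dz) heq'

/-- The search finds every possible order. -/
theorem search_sound {u v w : Item} {X : ℕ} {ms : List ℕ} (h : search u v w X ms = true)
    (hu : u.2 < 128) (hv : v.2 < 128) (hw : w.2 < 128)
    {x y z : ℤ} (hs : x + y + z = -1) (hx : x ≠ 0) (hy : y ≠ 0) (hz : z ≠ 0)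
    (rx : (x - u.2) % 128 = 0) (ry : (y - v.2) % 128 = 0) (rz : (z - w.2) % 128 = 0)
    {m : ℕ} (hm : m % 2 = 1) (hsq : x * x + y * y + z * z ≤ 1920 * m)
    (dx : x ∣ (1920 * m : ℕ)) (dy : y ∣ (1920 * m : ℕ)) (dz : z ∣ (1920 * m : ℕ))
    (heq : (m : ℤ) * (x * y * z + u.1 * y * z + v.1 * x * z + w.1 * x * y) = 15200 * (x * y * z)) :
    m ∈ ms := by
  simp only [search, Bool.and_eq_true] at h
  obtain ⟨hX, h1, h2, h3⟩ := h
  have e : ∀ a b c : ℕ, Nat.add a (Nat.add b c) = a + b + c := fun a b c => by simp [add_assoc]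
  by_cases c1 : x.natAbs ≤ y.natAbs ∧ x.natAbs ≤ z.natAbs
  · exact searchPos_sound h1 hX hw hs hx hy hz c1.1 c1.2 rx ry rz hm hsq dx dy dz heq
  by_cases c2 : y.natAbs ≤ z.natAbs
  · refine searchPos_sound h2 ?_ hu (x := y) (y := z) (z := x) (by linarith) hy hz hx c2
      (by omega) ry rz rx hm (by linarith) dy dz dx (by linarith [heq])
    rw [e] at hX ⊢
    rwa [show v.1 + w.1 + u.1 = u.1 + v.1 + w.1 by ring]
  · refine searchPos_sound h3 ?_ hv (x := z) (y := x) (z := y) (by linarith) hz hx hy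
      (by omega) (by omega) rz rx ry hm (by linarith) dz dx dy (by linarith [heq])
    rw [e] at hX ⊢
    rwa [show w.1 + u.1 + v.1 = u.1 + v.1 + w.1 by ring]

end Cfsg.Agent.H52.JThree
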