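import Cfsg.Agent.H52.JThree.Checks

/-!
Finite facts behind the 17- and 19-local structure.
-/

set_option autoImplicit false
set_option maxRecDepth 100000

namespace Cfsg.Agent.H52.JThree.Code

/-- The representatives and the members of the special classes. -/
def dList : List ℕ := (List.range 1920).filter fun i => dCls.any (Nat.beq (cls i))

theorem dList_card : dList.length = 885 := by decide +kernel

/-- No element of order sixteen. -/
theorem no_sixteen : ((List.range 1920).all fun i => !Nat.beq (powN i 8) 16) = true := by decide +kernel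

/-- The element of order five and its centraliser inside the centraliser of `z`. -/
theorem five_check : powN (rep 12) 5 = 0 ∧ rep 12 ≠ 0 ∧
    ((List.range 1920).filter fun i => Nat.beq (mul i (rep 12)) (mul (rep 12) i)).length = 10 ∧
    cls (powN (rep 12) 2) ≠ cls (rep 12) ∧ cls (powN (rep 12) 3) ≠ cls (rep 12) := by decide +kernel

/-- The candidates for the index of the Sylow 19-subgroup in its normaliser. -/
def k19OK (e a b d : ℕ) : Bool :=
  let k := e * (3 ^ a * 5 ^ b * 17 ^ d)
  !(Nat.beq (2643840 % k) 0 && Nat.beq ((2643840 / k) % 19) 1) || Nat.beq k 9 || Nat.beq k 1377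

theorem k19 : ∀ e ∈ [2, 3, 6, 9, 18], ∀ a < 6, ∀ b < 2, ∀ d < 2, k19OK e a b d = true := by decide +kernel

/-- The candidates for the index of the Sylow 17-subgroup in its normaliser. -/
def k17OK (e a b d : ℕ) : Bool :=
  let k := e * (3 ^ a * 5 ^ b * 19 ^ d)
  !(Nat.beq (2954880 % k) 0 && Nat.beq ((2954880 / k) % 17) 1) || (Nat.beq e 8 && Nat.beq k 8) ||
    (Nat.beq e 4 && Nat.beq k 76) || (Nat.beq e 8 && Nat.beq k 1368)

theorem k17 : ∀ e ∈ [2, 4, 8], ∀ a < 6, ∀ b < 2, ∀ d < 2, k17OK e a b d = true := by decide +kernel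

end Cfsg.Agent.H52.JThree.Code
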