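import Cfsg.Agent.H52.JThree.Main
import Cfsg.Agent.H52.JThree.SylowData

/-!
The Sylow normalisers for 17 and 19 in a group of J3-type, from the order and a count of elements.
-/

set_option autoImplicit false
set_option linter.style.haveILetI false
set_option linter.unusedSectionVars false
set_option synthInstance.maxSize 4000

namespace Cfsg.Agent.H52.JThree

open Subgroup Code

attribute [local irreducible] Code.dList

variable {G : Type*} [Group G]

section General

variable [Finite G]

/-- The conjugates of a set whose fusion is controlled by a subgroup. -/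
theorem card_conjugates (N : Subgroup G) (S : Set G)
    (h : ∀ g : G, ∀ s ∈ S, ∀ s' ∈ S, g * s * g⁻¹ = s' → g ∈ N) :
    Nat.card G * S.ncard ≤ Nat.card N * {x : G | ∃ g : G, ∃ s ∈ S, g * s * g⁻¹ = x}.ncard := by
  set T := {x : G | ∃ g : G, ∃ s ∈ S, g * s * g⁻¹ = x} with hT
  let f : (G ⧸ N) × S → T := fun p => ⟨p.1.out * p.2 * (p.1.out)⁻¹, p.1.out, p.2, p.2.2, rfl⟩
  have hf : Function.Injective f := by
    rintro ⟨q, s, hs⟩ ⟨q', s', hs'⟩ he
    have he' : q.out * s * q.out⁻¹ = q'.out * s' * q'.out⁻¹ := congrArg Subtype.val he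
    have hg : q'.out⁻¹ * q.out ∈ N := h _ s hs s' hs' (by
      calc q'.out⁻¹ * q.out * s * (q'.out⁻¹ * q.out)⁻¹ = q'.out⁻¹ * (q.out * s * q.out⁻¹) * q'.out := by group
        _ = s' := by rw [he']; group)
    have hq : q' = q := by
      rw [← q.out_eq', ← q'.out_eq']
      exact QuotientGroup.eq.mpr hg
    subst hq
    simp only [mul_left_inj, mul_right_inj] at he'
    subst he'
    rfl
  have hc := Nat.card_le_card_of_injective f hf
  rw [Nat.card_prod, Nat.card_coe_set_eq, Nat.card_coe_set_eq] at hc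
  rw [← N.card_mul_index, mul_assoc, index_eq_card]
  exact Nat.mul_le_mul_left _ hc

theorem isCyclic_mulAut_of_prime {p : ℕ} (hp : p.Prime) (X : Subgroup G) (hX : Nat.card X = p) :
    IsCyclic (MulAut X) ∧ Nat.card (MulAut X) = p - 1 := by
  haveI := Fact.mk hp
  haveI hc : IsCyclic X := isCyclic_of_prime_card hX
  constructor
  · haveI : IsCyclic (ZMod (Nat.card X))ˣ := by rw [hX]; exact ZMod.isCyclic_units_prime hp
    exact isCyclic_of_surjective (IsCyclic.mulAutMulEquiv (G := X)).symm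
      (IsCyclic.mulAutMulEquiv (G := X)).symm.surjective
  · rw [hc.card_mulAut, hX, Nat.totient_prime hp]

/-- The automiser of a subgroup of prime order. -/
theorem automiser {p : ℕ} (hp : p.Prime) (X : Subgroup G) (hX : Nat.card X = p) :
    ∃ e : ℕ, e ∣ p - 1 ∧
      Nat.card (normalizer (X : Set G)) = e * Nat.card (centralizer (X : Set G)) ∧
      IsCyclic (normalizer (X : Set G) ⧸ (X.normalizerMonoidHom).ker) ∧
      Nat.card (normalizer (X : Set G) ⧸ (X.normalizerMonoidHom).ker) = e := by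
  obtain ⟨hc, hn⟩ := isCyclic_mulAut_of_prime hp X hX
  refine ⟨Nat.card (normalizer (X : Set G) ⧸ (X.normalizerMonoidHom).ker), ?_, ?_, ?_, rfl⟩
  · rw [← hn]
    exact Subgroup.card_dvd_of_injective _ (QuotientGroup.kerLift_injective _)
  · rw [Subgroup.card_eq_card_quotient_mul_card_subgroup (X.normalizerMonoidHom).ker]
    congr 1
    rw [normalizerMonoidHom_ker]
    exact Nat.card_congr (subgroupOfEquivOfLe (Subgroup.centralizer_le_normalizer _)).toEquiv
  · exact isCyclic_of_injective _ (QuotientGroup.kerLift_injective _)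

/-- In a finite simple group which is not of prime order the automiser is nontrivial. -/
theorem automiser_ne_one [IsSimpleGroup G] {p : ℕ} [Fact p.Prime] (P : Sylow p G)
    (hP : Nat.card (P : Subgroup G) = p) (hG : Nat.card G ≠ p) :
    Nat.card (normalizer ((P : Subgroup G) : Set G)) ≠
      Nat.card (centralizer ((P : Subgroup G) : Set G)) := by
  intro he
  have hle : normalizer ((P : Subgroup G) : Set G) ≤ centralizer ((P : Subgroup G) : Set G) :=
    (eq_of_le_of_card_ge (Subgroup.centralizer_le_normalizer _) he.le).ge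
  have hc := MonoidHom.ker_transferSylow_isComplement' P hle
  rcases (MonoidHom.normal_ker (MonoidHom.transferSylow P hle)).eq_bot_or_eq_top with r | r
  · rw [r] at hc
    have := hc.card_mul
    rw [Subgroup.card_bot, one_mul, hP] at this
    exact hG this.symm
  · rw [r] at hc
    have h1 := hc.disjoint
    rw [disjoint_iff, top_inf_eq] at h1
    rw [h1, Subgroup.card_bot] at hP
    exact (Fact.out : p.Prime).ne_one hP.symm

/-- Equal fibres: the number of elements killed by the index of a central subgroup of prime order. -/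
theorem card_pow_eq_one {p r : ℕ} [Fact p.Prime] (O F : Subgroup G) (hFO : F ≤ O)
    (hF : Nat.card F = p) (hO : Nat.card O = p * r) (hr : ¬ p ∣ r)
    (hcen : ∀ f ∈ F, ∀ o ∈ O, f * o = o * f) :
    {g : G | g ∈ O ∧ g ^ r ≠ 1}.ncard = (p - 1) * r := by
  classical
  have hval : ∀ g ∈ O, g ^ r ∈ F := by
    intro g hg
    by_contra hne
    set a := g ^ r with ha
    have hap : a ^ p = 1 := by
      rw [ha, ← pow_mul, mul_comm, ← hO]
      exact congrArg Subtype.val (pow_card_eq_one' (x := (⟨g, hg⟩ : O)))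
    have haO : a ∈ O := pow_mem hg r
    have hzp : Nat.card (zpowers a) = p := by
      rw [Nat.card_zpowers]
      exact orderOf_eq_prime hap fun h => hne (by rw [h]; exact one_mem F)
    -- `F` and `⟨a⟩` give a subgroup of order `p ^ 2`
    haveI : (F.subgroupOf O).Normal := ⟨fun f hf o => by
      rw [mem_subgroupOf] at hf ⊢
      push_cast
      rw [← hcen _ hf o o.2, mul_inv_cancel_right]; exact hf⟩
    have hK : IsPGroup p ((F.subgroupOf O) ⊔ (zpowers (⟨a, haO⟩ : O)) : Subgroup O) := by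
      refine IsPGroup.to_sup_of_normal_left ?_ ?_
      · exact IsPGroup.of_card (n := 1) (by
          rw [Nat.card_congr (subgroupOfEquivOfLe hFO).toEquiv, hF, pow_one])
      · exact IsPGroup.of_card (n := 1) (by
          rw [Nat.card_zpowers, Subgroup.orderOf_mk, ← Nat.card_zpowers, hzp, pow_one])
    obtain ⟨n, hn⟩ := IsPGroup.iff_card.mp hK
    have hle : p ^ n ≤ p := by
      refine Nat.le_of_dvd (Fact.out : p.Prime).pos ?_
      have hd := card_subgroup_dvd_card ((F.subgroupOf O) ⊔ (zpowers (⟨a, haO⟩ : O)) : Subgroup O)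
      rw [hn, hO] at hd
      exact ((Nat.Coprime.pow_left n ((Fact.out : p.Prime).coprime_iff_not_dvd.mpr hr))).dvd_of_dvd_mul_right hd
    have heq : F.subgroupOf O = (F.subgroupOf O) ⊔ (zpowers (⟨a, haO⟩ : O)) :=
      eq_of_le_of_card_ge le_sup_left (by
        rw [hn, Nat.card_congr (subgroupOfEquivOfLe hFO).toEquiv, hF]; exact hle)
    exact hne (mem_subgroupOf.mp (heq.ge ((le_sup_right : zpowers (⟨a, haO⟩ : O) ≤ _) (mem_zpowers _))))
  let π : O → F := fun g => ⟨(g : G) ^ r, hval g g.2⟩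
  have hfib : ∀ f : F, Nat.card {g : O // π g = f} = Nat.card {g : O // π g = 1} := by
    intro f
    have hcop : (Nat.card F).Coprime r := by
      rw [hF]; exact (Fact.out : p.Prime).coprime_iff_not_dvd.mpr hr
    obtain ⟨f0, hf0⟩ := (powCoprime hcop).surjective f
    rw [powCoprime_apply] at hf0
    refine Nat.card_congr (Equiv.subtypeEquiv (Equiv.mulLeft (⟨f0, hFO f0.2⟩ : O)⁻¹) fun g => ?_)
    have hco : Commute ((f0 : G)⁻¹) (g : G) := Commute.inv_left (hcen _ f0.2 _ g.2)
    simp only [π, Equiv.coe_mulLeft, Subtype.ext_iff, Subgroup.coe_mul, Subgroup.coe_inv,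
      OneMemClass.coe_one]
    rw [hco.mul_pow, inv_pow, ← hf0, Subgroup.coe_pow, inv_mul_eq_one]
    exact eq_comm
  have htot : p * r = p * Nat.card {g : O // π g = 1} := by
    rw [← hO, Nat.card_congr (Equiv.sigmaFiberEquiv π).symm]
    haveI : Fintype F := Fintype.ofFinite _
    rw [Nat.card_sigma, Finset.sum_congr rfl fun f _ => hfib f, Finset.sum_const, Finset.card_univ,
      smul_eq_mul, ← Nat.card_eq_fintype_card, hF]
  have hker : Nat.card {g : O // π g = 1} = r :=
    (Nat.eq_of_mul_eq_mul_left (Fact.out : p.Prime).pos htot).symm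
  have hset : {g : G | g ∈ O ∧ g ^ r ≠ 1} = (O : Set G) \ (Subtype.val '' {g : O | π g = 1}) := by
    ext g
    simp only [Set.mem_setOf_eq, Set.mem_sdiff, SetLike.mem_coe, Set.mem_image, π, Subtype.ext_iff,
      OneMemClass.coe_one]
    exact ⟨fun h => ⟨h.1, fun ⟨x, hx, hxg⟩ => h.2 (hxg ▸ hx)⟩,
      fun h => ⟨h.1, fun h1 => h.2 ⟨⟨g, h.1⟩, h1, rfl⟩⟩⟩
  rw [hset, Set.ncard_sdiff (by rintro _ ⟨x, -, rfl⟩; exact x.2),
    Set.ncard_image_of_injective _ Subtype.val_injective,
    show (O : Set G).ncard = p * r from hO,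
    show ({g : O | π g = 1} : Set O).ncard = r from hker, Nat.sub_mul, one_mul]

theorem exists_pow_orderOf {g : G} {p r : ℕ} (hp : p.Prime) (hd : orderOf g ∣ p * r) (hr : g ^ r ≠ 1) :
    p ∣ orderOf g := by
  by_contra h
  refine hr (orderOf_dvd_iff_pow_eq_one.mp ?_)
  exact ((hp.coprime_iff_not_dvd.mpr h).symm).dvd_of_dvd_mul_left hd

theorem conj_orderOf (g s : G) : orderOf (g * s * g⁻¹) = orderOf s := by
  rw [← MulAut.conj_apply, MulEquiv.orderOf_eq]

/-- The lower bound for one family. -/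
theorem card_family {p r n : ℕ} [Fact p.Prime] (hG : Nat.card G = 50232960) (O P N : Subgroup G)
    (hPO : P ≤ O) (hP : Nat.card P = p) (hO : Nat.card O = p * r) (hr : ¬ p ∣ r) (hN : Nat.card N ≤ n)
    (hcen : ∀ f ∈ P, ∀ o ∈ O, f * o = o * f) (hNP : ∀ g : G, (∀ f ∈ P, g * f * g⁻¹ ∈ P) → g ∈ N) :
    ∃ T : Set G, 50232960 * ((p - 1) * r) ≤ n * T.ncard ∧
      ∀ x ∈ T, orderOf x ∣ p * r ∧ p ∣ orderOf x := by
  have hp : p.Prime := Fact.out
  set S := {g : G | g ∈ O ∧ g ^ r ≠ 1} with hS
  have hSo : ∀ s ∈ S, orderOf s ∣ p * r := fun s hs => by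
    rw [← hO, ← Subgroup.orderOf_mk s hs.1]
    exact orderOf_dvd_natCard _
  have huniq : ∀ s ∈ S, ∀ f ∈ P, ∃ j : ℤ, (s ^ r) ^ j = f := by
    intro s hs f hf
    have hsp : (s ^ r) ^ p = 1 := by
      rw [← pow_mul, mul_comm]; exact orderOf_dvd_iff_pow_eq_one.mp (hSo s hs)
    have hin : s ^ r ∈ P := by
      by_contra hne
      haveI : (P.subgroupOf O).Normal := ⟨fun a ha o => by
        rw [mem_subgroupOf] at ha ⊢
        push_cast
        rw [← hcen _ ha o o.2, mul_inv_cancel_right]; exact ha⟩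
      have hK : IsPGroup p ((P.subgroupOf O) ⊔ zpowers ((⟨s, hs.1⟩ : O) ^ r) : Subgroup O) := by
        refine IsPGroup.to_sup_of_normal_left ?_ ?_
        · exact IsPGroup.of_card (n := 1) (by
            rw [Nat.card_congr (subgroupOfEquivOfLe hPO).toEquiv, hP, pow_one])
        · refine IsPGroup.of_card (n := 1) ?_
          rw [Nat.card_zpowers, pow_one]
          exact orderOf_eq_prime (Subtype.ext (by push_cast; exact hsp))
            (fun h => hs.2 (congrArg Subtype.val h))
      obtain ⟨k, hk⟩ := IsPGroup.iff_card.mp hK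
      have hle : p ^ k ∣ p := by
        have hd := card_subgroup_dvd_card ((P.subgroupOf O) ⊔ zpowers ((⟨s, hs.1⟩ : O) ^ r) : Subgroup O)
        rw [hk, hO] at hd
        exact (Nat.Coprime.pow_left k (hp.coprime_iff_not_dvd.mpr hr)).dvd_of_dvd_mul_right hd
      have heq : P.subgroupOf O = (P.subgroupOf O) ⊔ zpowers ((⟨s, hs.1⟩ : O) ^ r) :=
        eq_of_le_of_card_ge le_sup_left (by
          rw [hk, Nat.card_congr (subgroupOfEquivOfLe hPO).toEquiv, hP]; exact Nat.le_of_dvd hp.pos hle)
      exact hne (mem_subgroupOf.mp (heq.ge ((le_sup_right : zpowers ((⟨s, hs.1⟩ : O) ^ r) ≤ _)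
        (mem_zpowers _))))
    have hgen : zpowers (s ^ r) = P := eq_of_le_of_card_ge (zpowers_le.mpr hin)
      (by rw [hP, Nat.card_zpowers, orderOf_eq_prime hsp hs.2])
    exact mem_zpowers_iff.mp (hgen ▸ hf)
  have hrange : ∀ s ∈ S, ∀ j : ℤ, (s ^ r) ^ j ∈ P := by
    intro s hs j
    obtain ⟨o, ho⟩ := exists_prime_orderOf_dvd_card' (G := P) p (by rw [hP])
    obtain ⟨i, hi⟩ := huniq s hs o o.2
    have hsp : (s ^ r) ^ p = 1 := by
      rw [← pow_mul, mul_comm]; exact orderOf_dvd_iff_pow_eq_one.mp (hSo s hs)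
    have heq : zpowers (o : G) = zpowers (s ^ r) := eq_of_le_of_card_ge
      (zpowers_le.mpr (mem_zpowers_iff.mpr ⟨i, hi⟩))
      (by rw [Nat.card_zpowers, Nat.card_zpowers, orderOf_eq_prime hsp hs.2, Subgroup.orderOf_coe, ho])
    have hmem : (s ^ r) ^ j ∈ zpowers (o : G) := heq ▸ zpow_mem (mem_zpowers _) j
    exact (zpowers_le.mpr o.2) hmem
  have h := card_conjugates N S (fun g s hs s' hs' he => hNP g fun f hf => by
    obtain ⟨j, rfl⟩ := huniq s hs f hf
    rw [← conj_zpow, ← conj_pow, he]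
    exact hrange s' hs' j)
  rw [card_pow_eq_one O P hPO hP hO hr hcen, hG] at h
  refine ⟨_, h.trans (Nat.mul_le_mul_right _ hN), ?_⟩
  rintro _ ⟨g, s, hs, rfl⟩
  rw [conj_orderOf]
  exact ⟨hSo s hs, exists_pow_orderOf hp (hSo s hs) hs.2⟩

end General

namespace Frame

variable [Finite G] (F : Frame G)

include F

theorem prime_ndvd_centralizer {x : G} {p : ℕ} (hx : orderOf x = p) (hp : ¬ p ∣ 1920) :
    ¬ 2 ∣ Nat.card (centralizer ({x} : Set G)) := by
  haveI : Fact (Nat.Prime 2) := ⟨Nat.prime_two⟩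
  intro h
  obtain ⟨⟨u, hu⟩, hu2⟩ := exists_prime_orderOf_dvd_card' (G := centralizer ({x} : Set G)) 2 h
  rw [Subgroup.orderOf_mk] at hu2
  obtain ⟨g, hg⟩ := isConj_iff.mp (F.hone u F.z hu2 F.hz)
  have hux : u * x = x * u := mem_centralizer_singleton_iff.mp hu
  have hmem : g * x * g⁻¹ ∈ F.Cz := F.mem_Cz.mpr (by
    rw [← hg, show g * x * g⁻¹ * (g * u * g⁻¹) = g * (x * u) * g⁻¹ by group, ← hux]; group)
  have hd := orderOf_dvd_natCard (⟨_, hmem⟩ : F.Cz)
  rw [Subgroup.orderOf_mk, F.card_Cz, ← MulAut.conj_apply, MulEquiv.orderOf_eq, hx] at hd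
  exact hp hd

theorem no_order_sixteen (h : G) : orderOf h ≠ 16 := by
  have : Fintype G := Fintype.ofFinite G
  intro ho
  have h8 : orderOf (h ^ 8) = 2 := by
    rw [orderOf_pow' _ (by norm_num), ho]; rfl
  obtain ⟨g, hg⟩ := isConj_iff.mp (F.hone _ F.z h8 F.hz)
  set k := g * h * g⁻¹ with hk
  have hk8 : k ^ 8 = F.z := by rw [hk, conj_pow, hg]
  obtain ⟨i, hi, hik⟩ := (F.mem k).mp (by rw [← hk8]; exact (Commute.self_pow k 8).eq)
  have := List.all_eq_true.mp no_sixteen i (List.mem_range.mpr hi)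
  simp only [Bool.not_eq_true'] at this
  have e : powN i 8 = 16 := F.inj (F.φ_pow hi 8).1 (by norm_num) (by
    rw [(F.φ_pow hi 8).2, hik, hk8, F.map_z])
  rw [e] at this
  exact absurd this (by decide)

/-- The basic data of a Sylow subgroup of prime order not dividing `1920`. -/
theorem sylow_data [IsSimpleGroup G] (hG : Nat.card G = 50232960) {p m : ℕ} [Fact p.Prime]
    (hpm : 50232960 = p * m) (hm : ¬ p ∣ m) (hp : ¬ p ∣ 1920) (P : Sylow p G) :
    Nat.card (P : Subgroup G) = p ∧
    ∃ e c : ℕ, e ∣ p - 1 ∧ e ≠ 1 ∧ ¬ 2 ∣ c ∧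
      Nat.card (centralizer ((P : Subgroup G) : Set G)) = p * c ∧
      Nat.card (normalizer ((P : Subgroup G) : Set G)) = p * (e * c) ∧
      (e * c) ∣ m ∧ (m / (e * c)) % p = 1 ∧ ∃ h : normalizer ((P : Subgroup G) : Set G),
        e ∣ orderOf h := by
  have hp' : p.Prime := Fact.out
  have hfac : Nat.card (P : Subgroup G) = p := by
    rw [P.card_eq_multiplicity, hG, hpm, Nat.factorization_mul hp'.ne_zero (by rintro rfl; simp at hpm),
      Finsupp.add_apply, hp'.factorization_self, Nat.factorization_eq_zero_of_not_dvd hm, pow_one]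
  obtain ⟨e, he, hN, hcyc, hq⟩ := automiser hp' (P : Subgroup G) hfac
  have hcomm : (P : Subgroup G) ≤ centralizer ((P : Subgroup G) : Set G) := by
    haveI : IsCyclic (P : Subgroup G) := isCyclic_of_prime_card hfac
    letI := IsCyclic.commGroup (α := (P : Subgroup G))
    exact fun a ha => mem_centralizer_iff.mpr fun b hb =>
      congrArg Subtype.val (mul_comm (⟨b, hb⟩ : (P : Subgroup G)) ⟨a, ha⟩)
  obtain ⟨c, hc⟩ : p ∣ Nat.card (centralizer ((P : Subgroup G) : Set G)) := by
    have := card_dvd_of_le hcomm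
    rwa [hfac] at this
  have he1 : e ≠ 1 := fun r => automiser_ne_one P hfac
    (by rw [hG]; intro h; rw [← h] at hp'; norm_num at hp') (by rw [hN, r, one_mul])
  obtain ⟨x, hx⟩ := exists_prime_orderOf_dvd_card' (G := (P : Subgroup G)) p (by rw [hfac])
  have hxo : orderOf (x : G) = p := by rw [Subgroup.orderOf_coe, hx]
  have hCx : centralizer ((P : Subgroup G) : Set G) ≤ centralizer ({(x : G)} : Set G) :=
    Subgroup.centralizer_le (Set.singleton_subset_iff.mpr x.2)
  have hc2 : ¬ 2 ∣ c := fun h => F.prime_ndvd_centralizer hxo hp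
    ((hc ▸ dvd_mul_of_dvd_right h p).trans (card_dvd_of_le hCx))
  have hN' : Nat.card (normalizer ((P : Subgroup G) : Set G)) = p * (e * c) := by rw [hN, hc]; ring
  have hidx : Nat.card (Sylow p G) * (e * c) = m := by
    have h := (normalizer ((P : Subgroup G) : Set G)).index_mul_card
    rw [hN', hG, hpm] at h
    rw [P.card_eq_index_normalizer]
    refine Nat.eq_of_mul_eq_mul_left hp'.pos ?_
    rw [← h]
    show p * ((normalizer ((P : Subgroup G) : Set G)).index * (e * c)) = _
    ring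
  have hec : 0 < e * c := Nat.pos_of_ne_zero fun h => by rw [h, mul_zero] at hN'; exact Nat.card_pos.ne' hN'
  refine ⟨hfac, e, c, he, he1, hc2, hc, hN', ⟨_, by rw [← hidx, mul_comm]⟩, ?_, ?_⟩
  · rw [← hidx, Nat.mul_div_cancel _ hec]
    exact Eq.trans (card_sylow_modEq_one p G) (Nat.mod_eq_of_lt hp'.one_lt)
  · obtain ⟨q, hq'⟩ := hcyc.exists_ofOrder_eq_natCard
    obtain ⟨h, rfl⟩ := QuotientGroup.mk'_surjective _ q
    exact ⟨h, hq ▸ hq' ▸ orderOf_map_dvd (QuotientGroup.mk' _) h⟩

omit F in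
theorem odd_dvd_split {r c : ℕ} (hr : r.Prime) (hc2 : ¬ 2 ∣ c) {j : ℕ}
    (hd : c ∣ 2 ^ j * (3 ^ 5 * 5 * r)) : ∃ a b d, a < 6 ∧ b < 2 ∧ d < 2 ∧ c = 3 ^ a * 5 ^ b * r ^ d := by
  have h1 : c ∣ 3 ^ 5 * 5 * r :=
    (Nat.Coprime.pow_right j ((Nat.prime_two.coprime_iff_not_dvd.mpr hc2).symm)).dvd_of_dvd_mul_left hd
  obtain ⟨u, v, hu, hv, rfl⟩ := Nat.dvd_mul.mp h1
  obtain ⟨u1, u2, hu1, hu2, rfl⟩ := Nat.dvd_mul.mp hu
  obtain ⟨a, ha, rfl⟩ := (Nat.dvd_prime_pow Nat.prime_three).mp hu1
  rw [← pow_one 5, Nat.dvd_prime_pow Nat.prime_five] at hu2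
  rw [← pow_one r, Nat.dvd_prime_pow hr] at hv
  obtain ⟨b, hb, rfl⟩ := hu2
  obtain ⟨d, hd, rfl⟩ := hv
  exact ⟨a, b, d, by omega, by omega, by omega, rfl⟩

theorem seventeen_pre [IsSimpleGroup G] (hG : Nat.card G = 50232960) (Y : Sylow 17 G) :
    Nat.card (Y : Subgroup G) = 17 ∧
    ∃ e c : ℕ, Nat.card (centralizer ((Y : Subgroup G) : Set G)) = 17 * c ∧
      Nat.card (normalizer ((Y : Subgroup G) : Set G)) = 17 * (e * c) ∧
      ((e = 8 ∧ c = 1) ∨ (e = 4 ∧ c = 19) ∨ (e = 8 ∧ c = 171)) := by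
  haveI : Fact (Nat.Prime 17) := ⟨by norm_num⟩
  obtain ⟨hY, e, c, he, he1, hc2, hC, hN, hd, hmod, h, hh⟩ :=
    F.sylow_data hG (p := 17) (m := 2954880) (by norm_num) (by norm_num) (by norm_num) Y
  refine ⟨hY, e, c, hC, hN, ?_⟩
  have he16 : e ≠ 16 := fun r => by
    subst r
    refine F.no_order_sixteen ((h : G) ^ (orderOf h / 16)) ?_
    have hpos : 0 < orderOf h := orderOf_pos h
    obtain ⟨q, hq⟩ := hh
    have hq0 : 0 < q := Nat.pos_of_ne_zero fun r => by rw [r, mul_zero] at hq; omega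
    rw [hq, Nat.mul_div_cancel_left _ (by norm_num : 0 < 16), orderOf_pow' _ (by omega),
      Subgroup.orderOf_coe, hq, Nat.gcd_mul_left_left, Nat.mul_div_cancel _ hq0]
  have hmem : e ∈ [2, 4, 8] := by
    have hl : e ≤ 16 := Nat.le_of_dvd (by norm_num) he
    interval_cases e <;> simp_all
  obtain ⟨a, b, d, ha, hb, hd', rfl⟩ := odd_dvd_split (r := 19) (by norm_num) hc2 (j := 7)
    ((Dvd.intro_left e rfl).trans (hd.trans (by norm_num)))
  have hk := k17 e hmem a ha b hb d hd'
  simp only [k17OK, Nat.mod_eq_zero_of_dvd, Nat.mod_eq_zero_of_dvd hd, hmod, Bool.or_eq_true,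
    Bool.not_eq_true', Bool.and_eq_false_iff, Bool.and_eq_true] at hk
  rcases hk with ((hk | ⟨h1, h2⟩) | ⟨h1, h2⟩) | ⟨h1, h2⟩
  · exfalso
    rcases hk with r | r <;> exact absurd r (by decide)
  · left
    have := Nat.eq_of_beq_eq_true h1
    have := Nat.eq_of_beq_eq_true h2
    subst e; exact ⟨rfl, by omega⟩
  · right; left
    have := Nat.eq_of_beq_eq_true h1
    have := Nat.eq_of_beq_eq_true h2
    subst e; exact ⟨rfl, by omega⟩
  · right; right
    have := Nat.eq_of_beq_eq_true h1
    have := Nat.eq_of_beq_eq_true h2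
    subst e; exact ⟨rfl, by omega⟩

theorem nineteen_pre [IsSimpleGroup G] (hG : Nat.card G = 50232960) (X : Sylow 19 G) :
    Nat.card (X : Subgroup G) = 19 ∧
    ∃ e c : ℕ, Nat.card (centralizer ((X : Subgroup G) : Set G)) = 19 * c ∧
      Nat.card (normalizer ((X : Subgroup G) : Set G)) = 19 * 9 ∧ e * c = 9 ∧
      ((e = 3 ∧ c = 3) ∨ (e = 9 ∧ c = 1)) := by
  haveI : Fact (Nat.Prime 19) := ⟨by norm_num⟩
  haveI : Fact (Nat.Prime 17) := ⟨by norm_num⟩
  obtain ⟨hX, e, c, he, he1, hc2, hC, hN, hd, hmod, -⟩ :=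
    F.sylow_data hG (p := 19) (m := 2643840) (by norm_num) (by norm_num) (by norm_num) X
  have hmem : e ∈ [2, 3, 6, 9, 18] := by
    have hl : e ≤ 18 := Nat.le_of_dvd (by norm_num) he
    interval_cases e <;> simp_all
  obtain ⟨a, b, d, ha, hb, hd', hceq⟩ := odd_dvd_split (r := 17) (by norm_num) hc2 (j := 7)
    ((Dvd.intro_left e rfl).trans (hd.trans (by norm_num)))
  have hk := k19 e hmem a ha b hb d hd'
  rw [hceq] at hd hmod
  simp only [k19OK, Nat.mod_eq_zero_of_dvd hd, hmod, Bool.or_eq_true, Bool.not_eq_true',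
    Bool.and_eq_false_iff] at hk
  rw [← hceq] at hk hd hmod
  refine ⟨hX, e, c, hC, ?_⟩
  rcases hk with (hk | hk) | hk
  · exfalso
    rcases hk with r | r <;> exact absurd r (by decide)
  · have h9 := Nat.eq_of_beq_eq_true hk
    refine ⟨by rw [hN, h9], h9, ?_⟩
    have : e ∣ 9 := ⟨c, h9.symm⟩
    rcases List.mem_cons.mp hmem with rfl | hmem
    · omega
    rcases List.mem_cons.mp hmem with rfl | hmem
    · left; omega
    rcases List.mem_cons.mp hmem with rfl | hmem
    · omega
    rcases List.mem_cons.mp hmem with rfl | hmem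
    · right; omega
    rcases List.mem_cons.mp hmem with rfl | hmem
    · omega
    exact absurd hmem (List.not_mem_nil)
  · exfalso
    have hk' := Nat.eq_of_beq_eq_true hk
    have h17 : 17 ∣ c := by
      have h1 : Nat.Coprime 17 e := by
        rcases List.mem_cons.mp hmem with rfl | hmem; · norm_num
        rcases List.mem_cons.mp hmem with rfl | hmem; · norm_num
        rcases List.mem_cons.mp hmem with rfl | hmem; · norm_num
        rcases List.mem_cons.mp hmem with rfl | hmem; · norm_num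
        rcases List.mem_cons.mp hmem with rfl | hmem; · norm_num
        exact absurd hmem (List.not_mem_nil)
      exact h1.dvd_of_dvd_mul_left ⟨81, by rw [hk']⟩
    set C := centralizer ((X : Subgroup G) : Set G) with hCd
    set N := normalizer ((X : Subgroup G) : Set G) with hNd
    obtain ⟨Y0⟩ : Nonempty (Sylow 17 C) := inferInstance
    haveI hCN : (C.subgroupOf N).Normal := by
      rw [hCd, hNd, ← normalizerMonoidHom_ker]; exact MonoidHom.normal_ker _
    -- the Sylow 17-subgroup of `C` is unique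
    have hY0 : Nat.card (Y0 : Subgroup C) = 17 := by
      obtain ⟨n, hn⟩ := IsPGroup.iff_card.mp Y0.isPGroup'
      have hd1 : 17 ^ n ∣ Nat.card G := hn ▸ (card_subgroup_dvd_card _).trans (card_subgroup_dvd_card _)
      have hn1 : n ≤ 1 := by
        by_contra hgt
        have := (pow_dvd_pow 17 (by omega : 2 ≤ n)).trans hd1
        rw [hG] at this; norm_num at this
      have hd2 : 17 ^ 1 ∣ Nat.card C := by
        rw [hC, pow_one]; exact dvd_mul_of_dvd_right h17 _
      have := Y0.pow_dvd_card_of_pow_dvd_card hd2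
      rw [hn] at this ⊢
      interval_cases n
      · norm_num at this
      · norm_num
    have hXC : (X : Subgroup G) ≤ C := by
      haveI : IsCyclic (X : Subgroup G) := isCyclic_of_prime_card hX
      letI := IsCyclic.commGroup (α := (X : Subgroup G))
      exact fun a ha => mem_centralizer_iff.mpr fun b hb =>
        congrArg Subtype.val (mul_comm (⟨b, hb⟩ : (X : Subgroup G)) ⟨a, ha⟩)
    have hc9 : c = 153 ∨ c = 459 := by
      have : e ∣ 1377 := ⟨c, hk'.symm⟩
      rcases List.mem_cons.mp hmem with rfl | hmem; · omega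
      rcases List.mem_cons.mp hmem with rfl | hmem; · omega
      rcases List.mem_cons.mp hmem with rfl | hmem; · omega
      rcases List.mem_cons.mp hmem with rfl | hmem; · omega
      rcases List.mem_cons.mp hmem with rfl | hmem; · omega
      exact absurd hmem (List.not_mem_nil)
    have huniq : Nat.card (Sylow 17 C) = 1 := by
      set M := normalizer ((Y0 : Subgroup C) : Set C)
      have hXM : (X : Subgroup G).subgroupOf C ≤ M := by
        intro w hw
        have hcw : ∀ v : C, w * v = v * w := fun v => Subtype.ext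
          (mem_centralizer_iff.mp v.2 _ (mem_subgroupOf.mp hw))
        refine mem_normalizer_iff.mpr fun y => ?_
        rw [hcw y, mul_inv_cancel_right]
      have hYM : (Y0 : Subgroup C) ≤ M := le_normalizer
      have d1 := card_dvd_of_le hXM
      rw [Nat.card_congr (subgroupOfEquivOfLe hXC).toEquiv, hX] at d1
      have d2 := card_dvd_of_le hYM
      rw [hY0] at d2
      have d3 : 323 ∣ Nat.card M := (by norm_num : Nat.Coprime 19 17).mul_dvd_of_dvd_of_dvd d1 d2
      have hidx := M.index_mul_card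
      rw [show M.index = Nat.card (Sylow 17 C) from Y0.card_eq_index_normalizer.symm, hC] at hidx
      have hmod1 : Nat.card (Sylow 17 C) % 17 = 1 := card_sylow_modEq_one 17 C
      obtain ⟨w, hw⟩ := d3
      rw [hw] at hidx
      generalize Nat.card (Sylow 17 C) = n at hidx hmod1 ⊢
      have hnd : n ∣ c / 17 := ⟨w, by
        rcases hc9 with r | r <;> rw [r] at hidx ⊢ <;> nlinarith⟩
      have hn27 : n ≤ 27 := by
        refine Nat.le_trans (Nat.le_of_dvd ?_ hnd) ?_ <;> rcases hc9 with r | r <;> rw [r] <;> norm_num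
      rcases hc9 with r | r <;> rw [r] at hnd <;> interval_cases n <;> first | rfl | omega | (norm_num at hnd)
    haveI : Subsingleton (Sylow 17 C) := (Nat.card_eq_one_iff_unique.mp huniq).1
    -- so `N` normalises it
    set Y' := (Y0 : Subgroup C).map C.subtype with hY'
    have hY'card : Nat.card Y' = 17 := by
      rw [hY', ← Nat.card_congr ((Y0 : Subgroup C).equivMapOfInjective _ C.subtype_injective).toEquiv, hY0]
    have hstab : ∀ g ∈ N, ∀ y ∈ Y', g * y * g⁻¹ ∈ Y' := by
      intro g hg y hy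
      obtain ⟨w, hw, rfl⟩ := hy
      have hwC : g * (w : G) * g⁻¹ ∈ C := by
        have := hCN.conj_mem ⟨w, Subgroup.centralizer_le_normalizer _ w.2⟩ (mem_subgroupOf.mpr w.2) ⟨g, hg⟩
        exact mem_subgroupOf.mp this
      have hord : orderOf (⟨_, hwC⟩ : C) ∣ 17 := by
        rw [Subgroup.orderOf_mk, ← MulAut.conj_apply, MulEquiv.orderOf_eq, Subgroup.orderOf_coe]
        have := orderOf_dvd_natCard (⟨w, hw⟩ : (Y0 : Subgroup C))
        rwa [Subgroup.orderOf_mk, hY0] at this
      have hp : IsPGroup 17 (zpowers (⟨_, hwC⟩ : C)) := by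
        rcases (Nat.dvd_prime (Fact.out : Nat.Prime 17)).mp hord with r | r
        · exact IsPGroup.of_card (n := 0) (by rw [Nat.card_zpowers, r, pow_zero])
        · exact IsPGroup.of_card (n := 1) (by rw [Nat.card_zpowers, r, pow_one])
      obtain ⟨Z, hZ⟩ := hp.exists_le_sylow
      rw [Subsingleton.elim Z Y0] at hZ
      exact ⟨_, hZ (mem_zpowers _), rfl⟩
    obtain ⟨Y, hY⟩ := (IsPGroup.of_card (n := 1) (by rw [hY'card, pow_one]) :
      IsPGroup 17 Y').exists_le_sylow
    obtain ⟨hY17, e', c', -, hN', hcases⟩ := F.seventeen_pre hG Y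
    have hYY : (Y : Subgroup G) = Y' :=
      (eq_of_le_of_card_ge hY (by rw [hY'card, hY17])).symm
    have hNle : N ≤ normalizer ((Y : Subgroup G) : Set G) := by
      intro g hg
      rw [hYY]
      refine mem_normalizer_iff.mpr fun y => ⟨hstab g hg y, fun hy => ?_⟩
      have := hstab g⁻¹ (inv_mem hg) _ hy
      simpa [mul_assoc] using this
    have hdvd := card_dvd_of_le hNle
    rw [hN', hN, hk'] at hdvd
    rcases hcases with ⟨rfl, rfl⟩ | ⟨rfl, rfl⟩ | ⟨rfl, rfl⟩ <;> norm_num at hdvd

theorem seventeen [IsSimpleGroup G] (hG : Nat.card G = 50232960) (Y : Sylow 17 G) :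
    Nat.card (Y : Subgroup G) = 17 ∧ Nat.card (centralizer ((Y : Subgroup G) : Set G)) = 17 ∧
      Nat.card (normalizer ((Y : Subgroup G) : Set G)) = 17 * 8 := by
  haveI : Fact (Nat.Prime 19) := ⟨by norm_num⟩
  haveI : Fact (Nat.Prime 17) := ⟨by norm_num⟩
  obtain ⟨hY, e, c, hC, hN, hcases⟩ := F.seventeen_pre hG Y
  rcases hcases with ⟨rfl, rfl⟩ | hbad
  · exact ⟨hY, by simpa using hC, by simpa using hN⟩
  exfalso
  have h19 : 19 ∣ Nat.card (centralizer ((Y : Subgroup G) : Set G)) := by
    rcases hbad with ⟨-, rfl⟩ | ⟨-, rfl⟩ <;> rw [hC] <;> norm_num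
  obtain ⟨⟨x, hx⟩, hxo⟩ := exists_prime_orderOf_dvd_card' (G := centralizer ((Y : Subgroup G) : Set G)) 19 h19
  rw [Subgroup.orderOf_mk] at hxo
  obtain ⟨X, hX⟩ := (IsPGroup.of_card (n := 1) (by rw [Nat.card_zpowers, hxo, pow_one]) :
    IsPGroup 19 (zpowers x)).exists_le_sylow
  obtain ⟨hX19, e', c', hC', -, -, hcs⟩ := F.nineteen_pre hG X
  have hXeq : (X : Subgroup G) = zpowers x :=
    (eq_of_le_of_card_ge hX (by rw [Nat.card_zpowers, hxo, hX19])).symm
  have hle : (Y : Subgroup G) ≤ centralizer ((X : Subgroup G) : Set G) := by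
    intro y hy
    rw [hXeq]
    refine mem_centralizer_iff.mpr fun w hw => ?_
    obtain ⟨n, rfl⟩ := mem_zpowers_iff.mp hw
    exact (Commute.zpow_left (show Commute x y from (mem_centralizer_iff.mp hx y hy).symm) n).eq
  have := card_dvd_of_le hle
  rw [hY, hC'] at this
  rcases hcs with ⟨-, rfl⟩ | ⟨-, rfl⟩ <;> norm_num at this

/-- The odd part of the centraliser of the element of order five, with its normaliser. -/
theorem five_data (hG : Nat.card G = 50232960) :
    ∃ (O P : Subgroup G) (N : Subgroup G) (r : ℕ), P ≤ O ∧ Nat.card P = 5 ∧ Nat.card O = 5 * r ∧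
      ¬ 5 ∣ r ∧ ¬ 2 ∣ 5 * r ∧ Nat.card N ≤ 4 * (5 * r) ∧ (∀ f ∈ P, ∀ o ∈ O, f * o = o * f) ∧
      (∀ g : G, (∀ f ∈ P, g * f * g⁻¹ ∈ P) → g ∈ N) := by
  classical
  have : Fintype G := Fintype.ofFinite G
  haveI : Fact (Nat.Prime 2) := ⟨Nat.prime_two⟩
  haveI : Fact (Nat.Prime 5) := ⟨Nat.prime_five⟩
  obtain ⟨h5, h50, hfix, hc2, hc3⟩ := five_check
  have hr := (rep_check 12 (by norm_num)).1
  set f := F.φ (rep 12) with hf
  have hfo : orderOf f = 5 := orderOf_eq_prime
    (by rw [← (F.φ_pow hr 5).2, h5, F.map_zero])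
    (fun h => h50 (F.inj hr (by norm_num) (h.trans F.map_zero.symm)))
  have hfz : f * F.z = F.z * f := F.comm_z hr
  set C := centralizer ({f} : Set G) with hC
  have hzC : F.z ∈ C := mem_centralizer_singleton_iff.mpr hfz.symm
  have h10 : Nat.card (C ⊓ F.Cz : Subgroup G) = 10 := by
    classical
    rw [← SetLike.coe_sort_coe, Nat.card_coe_set_eq,
      show ((C ⊓ F.Cz : Subgroup G) : Set G) = F.φ '' (↑(((List.range 1920).filter fun i =>
        Nat.beq (Code.mul i (rep 12)) (Code.mul (rep 12) i)).toFinset) : Set ℕ) from ?_,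
      Set.InjOn.ncard_image ?_, Set.ncard_coe_finset, List.toFinset_card_of_nodup (List.nodup_range.filter _),
      hfix]
    · intro i hi j hj
      simp only [List.coe_toFinset, List.mem_filter, List.mem_range, Set.mem_setOf_eq] at hi hj
      exact F.inj hi.1 hj.1
    · ext x
      simp only [SetLike.mem_coe, mem_inf, Set.mem_image, List.coe_toFinset, List.mem_filter,
        List.mem_range, Set.mem_setOf_eq]
      constructor
      · rintro ⟨h1, h2⟩
        obtain ⟨i, hi, rfl⟩ := (F.mem x).mp (F.mem_Cz.mp h2)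
        refine ⟨i, ⟨hi, ?_⟩, rfl⟩
        rw [F.inj (Code.mul_lt hi hr) (Code.mul_lt hr hi)
          (by rw [F.map_mul hi hr, F.map_mul hr hi]; exact mem_centralizer_singleton_iff.mp h1)]
        exact Nat.beq_refl _
      · rintro ⟨i, ⟨hi, he⟩, rfl⟩
        refine ⟨mem_centralizer_singleton_iff.mpr ?_, F.mem_Cz.mpr (F.comm_z hi)⟩
        rw [hf, ← F.map_mul hi hr, ← F.map_mul hr hi, Nat.eq_of_beq_eq_true he]
  set z' : C := ⟨F.z, hzC⟩ with hz'
  have hz'o : orderOf z' = 2 := by rw [hz', Subgroup.orderOf_mk, F.hz]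
  obtain ⟨T, hT⟩ := (IsPGroup.of_card (n := 1) (by rw [Nat.card_zpowers, hz'o, pow_one]) :
    IsPGroup 2 (zpowers z')).exists_le_sylow
  have hT2 : Nat.card (T : Subgroup C) = 2 := by
    have hzT : z' ∈ (T : Subgroup C) := hT (mem_zpowers _)
    set U := (zpowers z').subgroupOf (T : Subgroup C) with hU
    by_contra hne
    have hUlt : U < ⊤ := lt_top_iff_ne_top.mpr fun h => hne (by
      have := congrArg (fun K : Subgroup (T : Subgroup C) => Nat.card K) h
      simp only [Subgroup.card_top] at this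
      rw [← this, hU, Nat.card_congr (subgroupOfEquivOfLe hT).toEquiv, Nat.card_zpowers, hz'o])
    haveI : Group.IsNilpotent (T : Subgroup C) := T.isPGroup'.isNilpotent
    obtain ⟨s, hsn, hsU⟩ := SetLike.exists_of_lt (Group.normalizerCondition_of_isNilpotent U hUlt)
    have hz'' : (⟨z', hzT⟩ : (T : Subgroup C)) ∈ U := mem_subgroupOf.mpr (mem_zpowers _)
    have hmem := (mem_normalizer_iff.mp hsn _).mp hz''
    have hU2 : Nat.card U = 2 := by
      rw [hU, Nat.card_congr (subgroupOfEquivOfLe hT).toEquiv, Nat.card_zpowers, hz'o]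
    have hsz : s * ⟨z', hzT⟩ * s⁻¹ = ⟨z', hzT⟩ := H92.eq_of_mem_of_card_two hU2 hmem
      (fun h => by
        have hz1 : (⟨z', hzT⟩ : (T : Subgroup C)) = 1 := conj_eq_one_iff.mp h
        have : orderOf z' = 1 := orderOf_eq_one_iff.mpr (congrArg Subtype.val hz1)
        omega) hz'' (fun h => by
        have : orderOf z' = 1 := orderOf_eq_one_iff.mpr (congrArg Subtype.val h)
        omega)
    set T' := (T : Subgroup C).map C.subtype with hT'
    have hW : IsPGroup 2 (T' ⊓ F.Cz : Subgroup G) := (T.isPGroup'.map _).to_le inf_le_left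
    obtain ⟨n, hn⟩ := IsPGroup.iff_card.mp hW
    have hd : 2 ^ n ∣ 10 := by
      rw [← hn, ← h10]
      exact card_dvd_of_le (inf_le_inf_right _ (map_subtype_le _))
    have hWle : Nat.card (T' ⊓ F.Cz : Subgroup G) ≤ 2 := by
      rw [hn]
      by_contra h
      have : 4 ∣ 2 ^ n := by
        rcases n with _ | _ | k
        · simp at h
        · simp at h
        · exact ⟨2 ^ k, by ring⟩
      have := this.trans hd
      norm_num at this
    have hzW : F.z ∈ T' ⊓ F.Cz := ⟨⟨z', hzT, rfl⟩, F.mem_Cz.mpr rfl⟩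
    have hsW : ((s : C) : G) ∈ T' ⊓ F.Cz := ⟨⟨s, s.2, rfl⟩, F.mem_Cz.mpr (by
      have h := congrArg (fun w : (T : Subgroup C) => ((w : C) : G)) (mul_inv_eq_iff_eq_mul.mp hsz)
      exact h)⟩
    have hW2 : Nat.card (T' ⊓ F.Cz : Subgroup G) = 2 := by
      have : zpowers F.z ≤ T' ⊓ F.Cz := zpowers_le.mpr hzW
      have h2 := card_le_of_le this
      rw [Nat.card_zpowers, F.hz] at h2
      omega
    apply hsU
    by_cases hs1 : ((s : C) : G) = 1
    · rw [show s = 1 from Subtype.ext (Subtype.ext hs1)]; exact one_mem _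
    · have hz1 : F.z ≠ 1 := fun h => by have := F.hz; rw [h, orderOf_one] at this; omega
      have hsz' := H92.eq_of_mem_of_card_two hW2 hsW hs1 hzW hz1
      rw [show s = ⟨z', hzT⟩ from Subtype.ext (Subtype.ext hsz')]
      exact hz''
  -- the normal complement
  have hcyc : IsCyclic (T : Subgroup C) := isCyclic_of_prime_card hT2
  have hminfac : (Nat.card C).minFac = 2 := by
    rw [Nat.minFac_eq_two_iff]
    exact hT2 ▸ card_subgroup_dvd_card _
  have hnc := MonoidHom.ker_transferSylow_isComplement' T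
    (IsCyclic.normalizer_le_centralizer hminfac hcyc)
  set K := (MonoidHom.transferSylow T (IsCyclic.normalizer_le_centralizer hminfac hcyc)).ker with hK
  have hKcard : Nat.card K * 2 = Nat.card C := by rw [← hT2]; exact hnc.card_mul
  set O := K.map C.subtype with hO
  have hOcard : Nat.card O = Nat.card K := by
    rw [hO, ← Nat.card_congr (K.equivMapOfInjective _ C.subtype_injective).toEquiv]
  have hOodd : ¬ 2 ∣ Nat.card O := by
    intro h
    have h4 : 2 ^ 2 ∣ Nat.card C := by
      rw [← hKcard, ← hOcard]; obtain ⟨w, hw⟩ := h; exact ⟨w, by rw [hw]; ring⟩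
    have := T.pow_dvd_card_of_pow_dvd_card h4
    rw [hT2] at this
    norm_num at this
  set P := zpowers f with hP
  have hPC : P ≤ C := zpowers_le.mpr (mem_centralizer_singleton_iff.mpr rfl)
  have hPO : P ≤ O := by
    rw [hP, zpowers_le]
    refine ⟨⟨f, hPC (mem_zpowers f)⟩, ?_, rfl⟩
    rw [hK]
    show _ = 1
    refine orderOf_eq_one_iff.mp (Nat.eq_one_of_dvd_coprimes (by norm_num : Nat.Coprime 5 2)
      ((orderOf_map_dvd _ _).trans (by rw [Subgroup.orderOf_mk, hfo])) ((_root_.orderOf_dvd_natCard _).trans (dvd_of_eq hT2)))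
  have hP5 : Nat.card P = 5 := by rw [hP, Nat.card_zpowers, hfo]
  obtain ⟨r, hr5⟩ : 5 ∣ Nat.card O := hP5 ▸ card_dvd_of_le hPO
  refine ⟨O, P, normalizer (P : Set G), r, hPO, hP5, hr5, fun h => ?_, hr5 ▸ hOodd, ?_, ?_, ?_⟩
  · have : 25 ∣ Nat.card G := by
      obtain ⟨w, hw⟩ := h
      exact (show 25 ∣ Nat.card O from ⟨w, by rw [hr5, hw]; ring⟩).trans (card_subgroup_dvd_card O)
    rw [hG] at this; norm_num at this
  · -- the automiser has order at most two
    obtain ⟨e, he, hNC, -, hq⟩ := automiser Nat.prime_five P hP5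
    have hcent : centralizer (P : Set G) = C := by
      refine le_antisymm (Subgroup.centralizer_le (Set.singleton_subset_iff.mpr (mem_zpowers f))) ?_
      intro c hc
      refine mem_centralizer_iff.mpr fun w hw => ?_
      obtain ⟨n, rfl⟩ := mem_zpowers_iff.mp hw
      exact (Commute.zpow_left (show Commute f c from (mem_centralizer_singleton_iff.mp hc).symm) n).eq
    have hsmall : ∀ n : normalizer (P : Set G),
        (n : G) * f * (n : G)⁻¹ = f ∨ (n : G) * f * (n : G)⁻¹ = f⁻¹ := by
      intro n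
      set fn := (n : G) * f * (n : G)⁻¹ with hfn
      have hPn : fn ∈ P := (mem_normalizer_iff.mp n.2 f).mp (mem_zpowers f)
      set w := (n : G) * F.z * (n : G)⁻¹ with hw
      have hwC : w ∈ C := by
        refine mem_centralizer_singleton_iff.mpr ?_
        have hwfn : w * fn = fn * w := by
          rw [hw, hfn, show (n : G) * F.z * (n : G)⁻¹ * ((n : G) * f * (n : G)⁻¹) =
            (n : G) * (F.z * f) * (n : G)⁻¹ by group, ← hfz]; group
        have hmem' : f ∈ zpowers fn := by
          have hfn5 : orderOf fn = 5 := by rw [hfn, ← MulAut.conj_apply, MulEquiv.orderOf_eq, hfo]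
          have : zpowers fn = P := eq_of_le_of_card_ge (zpowers_le.mpr hPn)
            (by rw [hP5, Nat.card_zpowers, hfn5])
          rw [this]; exact mem_zpowers f
        obtain ⟨j, hj⟩ := mem_zpowers_iff.mp hmem'
        rw [← hj]
        exact ((show Commute w fn from hwfn).zpow_right j).eq
      have hwo : orderOf (⟨w, hwC⟩ : C) = 2 := by
        rw [Subgroup.orderOf_mk, hw, ← MulAut.conj_apply, MulEquiv.orderOf_eq, F.hz]
      obtain ⟨T1, hT1⟩ := (IsPGroup.of_card (n := 1) (by rw [Nat.card_zpowers, hwo, pow_one]) :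
        IsPGroup 2 (zpowers (⟨w, hwC⟩ : C))).exists_le_sylow
      obtain ⟨c, hc⟩ := MulAction.exists_smul_eq C T1 T
      have hcw : c * ⟨w, hwC⟩ * c⁻¹ ∈ (T : Subgroup C) := by
        rw [← hc, Sylow.coe_subgroup_smul]
        exact ⟨_, hT1 (mem_zpowers _), rfl⟩
      have hcw1 : c * (⟨w, hwC⟩ : C) * c⁻¹ ≠ 1 := fun h => by
        rw [conj_eq_one_iff.mp h, orderOf_one] at hwo; omega
      have hcwz := H92.eq_of_mem_of_card_two hT2 hcw hcw1 (hT (mem_zpowers _))
        (fun h => by rw [h, orderOf_one] at hz'o; omega)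
      have hn' : ((c : G) * n) * F.z = F.z * ((c : G) * n) := by
        have := congrArg Subtype.val hcwz
        simp only [hw, Subgroup.coe_mul, Subgroup.coe_inv, hz'] at this
        calc (c : G) * n * F.z = (c : G) * ((n : G) * F.z * (n : G)⁻¹) * (c : G)⁻¹ * ((c : G) * n) := by group
          _ = _ := by rw [this]
      obtain ⟨i, hi, hic⟩ := (F.mem _).mp hn'
      have hfc : fn = F.φ i * f * (F.φ i)⁻¹ := by
        have h1 : fn ∈ centralizer ({((c : G))} : Set G) := by
          obtain ⟨j, hj⟩ := mem_zpowers_iff.mp hPn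
          refine mem_centralizer_singleton_iff.mpr ?_
          rw [← hj]
          exact ((show Commute f (c : G) from
            (mem_centralizer_singleton_iff.mp c.2).symm).zpow_left j).eq
        rw [hic, show (c : G) * n * f * ((c : G) * n)⁻¹ = (c : G) * fn * (c : G)⁻¹ by rw [hfn]; group,
          ← mem_centralizer_singleton_iff.mp h1, mul_inv_cancel_right]
      obtain ⟨j, hj, hjp⟩ : ∃ j < 5, f ^ j = fn := by
        obtain ⟨j, hj, hje⟩ := Finset.mem_image.mp (show fn ∈ (Finset.range 5).image (f ^ ·) from by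
          classical
          have h5 := (mem_zpowers_iff_mem_range_orderOf).mp hPn
          rwa [hfo] at h5)
        exact ⟨j, Finset.mem_range.mp hj, hje⟩
      have hcls : cls (powN (rep 12) j) = cls (rep 12) := by
        have e : powN (rep 12) j = Code.mul (Code.mul i (rep 12)) (Code.inv i) :=
          F.inj (F.φ_pow hr j).1 (Code.mul_lt (Code.mul_lt hi hr) (inv_lt hi)) (by
            rw [(F.φ_pow hr j).2, F.conj_code hi hr, ← hf, hjp, hfc])
        rw [e, F.cls_conj_code hi hr]
      interval_cases j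
      · exfalso
        rw [pow_zero] at hjp
        have : f = 1 := conj_eq_one_iff.mp hjp.symm
        rw [this, orderOf_one] at hfo; omega
      · left; rw [← hjp, pow_one]
      · exact absurd hcls hc2
      · exact absurd hcls hc3
      · right
        rw [← hjp]
        refine eq_inv_of_mul_eq_one_left ?_
        rw [← pow_succ]
        show f ^ 5 = 1
        rw [← hfo, pow_orderOf_eq_one]
    have he2 : e ≤ 2 := by
      classical
      rw [← hq]
      let ψ : normalizer (P : Set G) ⧸ (P.normalizerMonoidHom).ker → Bool := fun q =>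
        decide ((q.out : G) * f * (q.out : G)⁻¹ = f)
      have hψ : Function.Injective ψ := by
        intro q q' hqq
        refine (q.out_eq'.symm.trans ?_).trans q'.out_eq'
        apply QuotientGroup.eq.mpr
        refine (le_of_eq P.normalizerMonoidHom_ker.symm) ?_
        rw [mem_subgroupOf, hcent]
        refine mem_centralizer_singleton_iff.mpr ?_
        have hiff : ((q.out : G) * f * (q.out : G)⁻¹ = f) ↔ ((q'.out : G) * f * (q'.out : G)⁻¹ = f) :=
          decide_eq_decide.mp hqq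
        have hsame : (q.out : G) * f * (q.out : G)⁻¹ = (q'.out : G) * f * (q'.out : G)⁻¹ := by
          rcases hsmall q.out with r | r <;> rcases hsmall q'.out with r' | r'
          · rw [r, r']
          · rw [r, hiff.mp r]
          · rw [r', hiff.mpr r']
          · rw [r, r']
        push_cast
        calc (q.out : G)⁻¹ * q'.out * f =
              (q.out : G)⁻¹ * ((q'.out : G) * f * (q'.out : G)⁻¹) * q'.out := by group
          _ = (q.out : G)⁻¹ * ((q.out : G) * f * (q.out : G)⁻¹) * q'.out := by rw [hsame]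
          _ = f * ((q.out : G)⁻¹ * q'.out) := by group
      have := Nat.card_le_card_of_injective ψ hψ
      simpa [Nat.card_eq_fintype_card] using this
    rw [hNC, hcent, ← hKcard, ← hOcard, hr5]
    calc e * (5 * r * 2) ≤ 2 * (5 * r * 2) := Nat.mul_le_mul_right _ he2
      _ = 4 * (5 * r) := by ring
  · intro a ha o ho
    obtain ⟨n, rfl⟩ := mem_zpowers_iff.mp ha
    obtain ⟨w, -, rfl⟩ := ho
    exact ((show Commute f (w : G) from (mem_centralizer_singleton_iff.mp w.2).symm).zpow_left n).eq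
  · intro g hg
    refine mem_normalizer_iff.mpr fun a => ⟨hg a, fun ha => ?_⟩
    have hmap : P.map (MulAut.conj g).toMonoidHom = P := by
      refine eq_of_le_of_card_ge ?_ ?_
      · rintro _ ⟨b, hb, rfl⟩; exact hg b hb
      · rw [← Nat.card_congr (P.equivMapOfInjective _ (MulAut.conj g).injective).toEquiv]
    rw [← hmap] at ha
    obtain ⟨b, hb, hbe⟩ := ha
    have : b = a := (MulAut.conj g).injective hbe
    exact this ▸ hb

/-- The elements with `z` among their powers. -/
theorem card_even (hG : Nat.card G = 50232960) :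
    50232960 * 885 ≤ 1920 * {x : G | ∃ g : G, ∃ s ∈ F.φ '' {i | i ∈ dList}, g * s * g⁻¹ = x}.ncard := by
  have : Fintype G := Fintype.ofFinite G
  have hd : ∀ i ∈ dList, i < 1920 ∧ cls i ∈ dCls := fun i hi => by
    rw [dList] at hi
    obtain ⟨h1, h2⟩ := List.mem_filter.mp hi
    obtain ⟨c, hc, he⟩ := List.any_eq_true.mp h2
    exact ⟨List.mem_range.mp h1, Nat.eq_of_beq_eq_true he ▸ hc⟩
  have h := card_conjugates F.Cz (F.φ '' {i | i ∈ dList}) (by
    rintro g _ ⟨i, hi, rfl⟩ _ ⟨j, hj, rfl⟩ he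
    have := F.mem_of_conj (hd i hi).1 (hd j hj).1 (hd i hi).2 (hd j hj).2 (x := g⁻¹)
      (by rw [inv_inv]; exact he)
    exact inv_inv g ▸ inv_mem this)
  have hS : (F.φ '' {i | i ∈ dList}).ncard = 885 := by
    have hinj : Set.InjOn F.φ {i | i ∈ dList} := fun i hi j hj he => F.inj (hd i hi).1 (hd j hj).1 he
    rw [hinj.ncard_image,
      show {i | i ∈ dList} = (↑dList.toFinset : Set ℕ) from (List.coe_toFinset dList).symm,
      Set.ncard_coe_finset, List.toFinset_card_of_nodup (by rw [dList]; exact List.nodup_range.filter _), dList_card]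
  rwa [hS, hG, F.card_Cz] at h

/-- The Sylow 19-subgroups. -/
theorem nineteen [IsSimpleGroup G] (hG : Nat.card G = 50232960) (X : Sylow 19 G) :
    Nat.card (X : Subgroup G) = 19 ∧ Nat.card (centralizer ((X : Subgroup G) : Set G)) = 19 ∧
      Nat.card (normalizer ((X : Subgroup G) : Set G)) = 19 * 9 := by
  have : Fintype G := Fintype.ofFinite G
  haveI : Fact (Nat.Prime 19) := ⟨by norm_num⟩
  haveI : Fact (Nat.Prime 17) := ⟨by norm_num⟩
  haveI : Fact (Nat.Prime 5) := ⟨Nat.prime_five⟩
  obtain ⟨hX, e, c, hC, hN, -, hcases⟩ := F.nineteen_pre hG X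
  rcases hcases with ⟨-, rfl⟩ | ⟨-, rfl⟩
  swap
  · exact ⟨hX, by simpa using hC, hN⟩
  exfalso
  have hself : ∀ {q : ℕ} [Fact q.Prime] (Y : Subgroup G), Nat.card Y = q → Y ≤ centralizer (Y : Set G) := by
    intro q _ Y hY
    haveI : IsCyclic Y := isCyclic_of_prime_card hY
    letI := IsCyclic.commGroup (α := Y)
    exact fun a ha => mem_centralizer_iff.mpr fun b hb =>
      congrArg Subtype.val (mul_comm (⟨b, hb⟩ : Y) ⟨a, ha⟩)
  have hnorm : ∀ (Y : Subgroup G) (g : G), (∀ f ∈ Y, g * f * g⁻¹ ∈ Y) → g ∈ normalizer (Y : Set G) := by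
    intro Y g hg
    refine mem_normalizer_iff.mpr fun a => ⟨hg a, fun ha => ?_⟩
    have hmap : Y.map (MulAut.conj g).toMonoidHom = Y := by
      refine eq_of_le_of_card_ge ?_ ?_
      · rintro _ ⟨b, hb, rfl⟩; exact hg b hb
      · rw [← Nat.card_congr (Y.equivMapOfInjective _ (MulAut.conj g).injective).toEquiv]
    rw [← hmap] at ha
    obtain ⟨b, hb, hbe⟩ := ha
    exact (MulAut.conj g).injective hbe ▸ hb
  obtain ⟨Y⟩ : Nonempty (Sylow 17 G) := inferInstance
  obtain ⟨hY, hCY, hNY⟩ := F.seventeen hG Y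
  obtain ⟨O, P, N, r, hPO, hP, hO, hr, hr2, hN5, hcen, hNP⟩ := F.five_data hG
  obtain ⟨T5, hT5, ho5⟩ := card_family hG O P N hPO hP hO hr hN5 hcen hNP
  obtain ⟨T19, hT19, ho19⟩ := card_family (r := 3) hG (centralizer ((X : Subgroup G) : Set G)) X
    (normalizer ((X : Subgroup G) : Set G)) (hself _ hX) hX hC (by norm_num) hN.le
    (fun f hf o ho => mem_centralizer_iff.mp ho f hf) (hnorm _)
  obtain ⟨T17, hT17, ho17⟩ := card_family (r := 1) hG (centralizer ((Y : Subgroup G) : Set G)) Y
    (normalizer ((Y : Subgroup G) : Set G)) (hself _ hY) hY hCY (by norm_num) hNY.le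
    (fun f hf o ho => mem_centralizer_iff.mp ho f hf) (hnorm _)
  have hT2 := F.card_even hG
  set T2 := {x : G | ∃ g : G, ∃ s ∈ F.φ '' {i | i ∈ dList}, g * s * g⁻¹ = x} with hT2d
  have ho2 : ∀ x ∈ T2, 2 ∣ orderOf x := by
    rintro _ ⟨g, _, ⟨i, hi, rfl⟩, rfl⟩
    rw [Set.mem_setOf_eq, dList] at hi
    obtain ⟨h1, h2⟩ := List.mem_filter.mp hi
    obtain ⟨c, hc, he⟩ := List.any_eq_true.mp h2
    rw [conj_orderOf, (F.special (List.mem_range.mp h1) (Nat.eq_of_beq_eq_true he ▸ hc)).1]
    exact dvd_mul_right _ _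
  have d1 : Disjoint T2 T19 := Set.disjoint_left.mpr fun x a b => by
    have h := (ho2 x a).trans (ho19 x b).1; norm_num at h
  have d2 : Disjoint (T2 ∪ T19) T17 := Set.disjoint_left.mpr fun x a b => by
    rcases a with a | a
    · have h := (ho2 x a).trans (ho17 x b).1; norm_num at h
    · have h := (ho19 x a).2.trans (ho17 x b).1; norm_num at h
  have d3 : Disjoint (T2 ∪ T19 ∪ T17) T5 := Set.disjoint_left.mpr fun x a b => by
    rcases a with (a | a) | a
    · exact hr2 ((ho2 x a).trans (ho5 x b).1)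
    · have h := (ho5 x b).2.trans (ho19 x a).1; norm_num at h
    · have h := (ho5 x b).2.trans (ho17 x a).1; norm_num at h
  have hsum : T2.ncard + T19.ncard + T17.ncard + T5.ncard ≤ 50232960 := by
    rw [← Set.ncard_union_eq d1, ← Set.ncard_union_eq d2, ← Set.ncard_union_eq d3, ← hG,
      ← Set.ncard_univ]
    exact Set.ncard_le_ncard (Set.subset_univ _)
  have hr0 : 0 < r := Nat.pos_of_ne_zero fun h => hr (h ▸ dvd_zero 5)
  have h5' : 50232960 ≤ 5 * T5.ncard := by
    refine Nat.le_of_mul_le_mul_left ?_ (show 0 < 4 * r by omega)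
    calc 4 * r * 50232960 = 50232960 * ((5 - 1) * r) := by ring
      _ ≤ 4 * (5 * r) * T5.ncard := hT5
      _ = 4 * r * (5 * T5.ncard) := by ring
  norm_num at hT19 hT17
  omega

end Frame

/-- The statement about one Sylow subgroup. -/
theorem sylow_concl [Finite G] {p e : ℕ} [Fact p.Prime] (X : Subgroup G)
    (hX : Nat.card X = p) (hC : Nat.card (centralizer (X : Set G)) = p)
    (hN : Nat.card (normalizer (X : Set G)) = p * e) :
    centralizer (X : Set G) = X ∧
      ∃ _ : (X.subgroupOf (normalizer (X : Set G))).Normal,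
        IsCyclic (↥(normalizer (X : Set G)) ⧸ X.subgroupOf _) ∧
        Nat.card (↥(normalizer (X : Set G)) ⧸ X.subgroupOf _) = e := by
  have hp : p.Prime := Fact.out
  have hle : X ≤ centralizer (X : Set G) := by
    haveI : IsCyclic X := isCyclic_of_prime_card hX
    letI := IsCyclic.commGroup (α := X)
    exact fun a ha => mem_centralizer_iff.mpr fun b hb =>
      congrArg Subtype.val (mul_comm (⟨b, hb⟩ : X) ⟨a, ha⟩)
  have hCX : centralizer (X : Set G) = X := (eq_of_le_of_card_ge hle (by rw [hC, hX])).symm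
  haveI hnorm : (X.subgroupOf (normalizer (X : Set G))).Normal := normal_in_normalizer
  obtain ⟨e', -, hN', hcyc, hq⟩ := automiser hp X hX
  have he : e' = e := by
    rw [hN, hC, mul_comm] at hN'
    exact (Nat.eq_of_mul_eq_mul_right hp.pos hN').symm
  have hker : (X.normalizerMonoidHom).ker = X.subgroupOf (normalizer (X : Set G)) := by
    rw [normalizerMonoidHom_ker, hCX]
  let f := QuotientGroup.quotientMulEquivOfEq hker
  exact ⟨hCX, hnorm, isCyclic_of_surjective f f.surjective,
    (Nat.card_congr f.toEquiv).symm.trans (hq.trans he)⟩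

end Cfsg.Agent.H52.JThree
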